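import Cfsg.Agent.Lib.LocalStructure.PClosed
import Cfsg.Agent.Lib.PGroup.Basic

/-! Weakly closed subgroups, weak closures and large subgroups. -/

set_option autoImplicit false

open Subgroup
open scoped commutatorElement

namespace Cfsg.Agent.LocalStructure

variable {G : Type*} [Group G] {p : ℕ}

/-- A nontrivial `p`-group normalised by a `p`-group has a nontrivial fixed point. -/
theorem inf_centralizer_ne_bot [Finite G] [Fact p.Prime] {R P : Subgroup G} (hR : IsPGroup p R)
    (hR1 : R ≠ ⊥) (hP : IsPGroup p P) (hn : P ≤ normalizer (R : Set G)) :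
    R ⊓ Subgroup.centralizer (P : Set G) ≠ ⊥ := by
  set S := P ⊔ R with hS
  have hSp : IsPGroup p S := isPGroup_sup hP hR hn
  have : (R.subgroupOf S).Normal :=
    (normal_subgroupOf_iff_le_normalizer le_sup_right).2 (sup_le hn R.le_normalizer)
  have h := Cfsg.Agent.PGroup.inf_center_ne_bot hSp (R.subgroupOf S)
    (fun e => hR1 ((subgroupOf_eq_bot.1 e).eq_bot_of_le le_sup_right))
  intro e
  apply h
  rw [eq_bot_iff]
  rintro x ⟨hx1, hx2⟩
  have hx : (x : G) ∈ R ⊓ Subgroup.centralizer (P : Set G) := ⟨hx1, by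
    refine Subgroup.mem_centralizer_iff.2 fun y hy => ?_
    exact congrArg Subtype.val (Subgroup.mem_center_iff.1 hx2 ⟨y, le_sup_left (b := R) hy⟩)⟩
  rw [e, Subgroup.mem_bot] at hx
  exact Subgroup.mem_bot.2 (Subtype.ext hx)

theorem map_conj_inv_map_conj (K : Subgroup G) (g : G) :
    (K.map (MulAut.conj g).toMonoidHom).map (MulAut.conj g⁻¹).toMonoidHom = K := by
  rw [← map_conj_mul, inv_mul_cancel, map_conj_one]

theorem le_map_conj_iff {K L : Subgroup G} {g : G} :
    L ≤ K.map (MulAut.conj g).toMonoidHom ↔ L.map (MulAut.conj g⁻¹).toMonoidHom ≤ K := by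
  constructor
  · intro h
    exact (Subgroup.map_mono h).trans (map_conj_inv_map_conj K g).le
  · intro h x hx
    rw [mem_map_conj]
    simpa using h (conj_mem_map_conj (g := g⁻¹) hx)

theorem coe_map_conj_centralizer (K : Subgroup G) (g : G) :
    (Subgroup.centralizer (K : Set G)).map (MulAut.conj g).toMonoidHom =
      Subgroup.centralizer ((K.map (MulAut.conj g).toMonoidHom : Subgroup G) : Set G) := by
  ext x
  rw [mem_map_conj, Subgroup.mem_centralizer_iff, Subgroup.mem_centralizer_iff]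
  constructor
  · rintro h _ ⟨y, hy, rfl⟩
    have e := h y hy
    show g * y * g⁻¹ * x = x * (g * y * g⁻¹)
    calc g * y * g⁻¹ * x = g * (y * (g⁻¹ * x * g)) * g⁻¹ := by group
      _ = g * ((g⁻¹ * x * g) * y) * g⁻¹ := by rw [e]
      _ = x * (g * y * g⁻¹) := by group
  · intro h y hy
    have e := h _ (conj_mem_map_conj (g := g) hy)
    calc y * (g⁻¹ * x * g) = g⁻¹ * ((g * y * g⁻¹) * x) * g := by group
      _ = g⁻¹ * (x * (g * y * g⁻¹)) * g := by rw [e]
      _ = (g⁻¹ * x * g) * y := by group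

/-! ### Weakly closed subgroups -/

variable [Finite G] [Fact p.Prime] {Q : Subgroup G}

theorem wc_isPGroup (h : IsWeaklyClosedSubgroup p Q) : IsPGroup p Q := by
  obtain ⟨T, hT, -⟩ := h
  exact T.2.to_le hT

theorem wc_mem_normalizer (h : IsWeaklyClosedSubgroup p Q) {R : Subgroup G} (hR : IsPGroup p R)
    (hQ : Q ≤ R) {g : G} (hg : Q.map (MulAut.conj g).toMonoidHom ≤ R) :
    g ∈ normalizer (Q : Set G) := by
  obtain ⟨T, -, huniq⟩ := h
  obtain ⟨x, -, hx⟩ := (isSylowIn_of_sylow T le_top).exists_conj_le hR le_top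
  have h1 : x ∈ normalizer (Q : Set G) :=
    mem_normalizer_of_map_conj (huniq x ((Subgroup.map_mono hQ).trans hx))
  have h2 : x * g ∈ normalizer (Q : Set G) := mem_normalizer_of_map_conj (huniq (x * g)
    (by rw [map_conj_mul]; exact (Subgroup.map_mono hg).trans hx))
  simpa using mul_mem (inv_mem h1) h2

theorem wc_map_conj_eq (h : IsWeaklyClosedSubgroup p Q) {R : Subgroup G} (hR : IsPGroup p R)
    (hQ : Q ≤ R) {g : G} (hg : Q.map (MulAut.conj g).toMonoidHom ≤ R) :
    Q.map (MulAut.conj g).toMonoidHom = Q :=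
  map_conj_eq_self (wc_mem_normalizer h hR hQ hg)

theorem wc_le_normalizer (h : IsWeaklyClosedSubgroup p Q) {R : Subgroup G} (hR : IsPGroup p R)
    (hQ : Q ≤ R) : R ≤ normalizer (Q : Set G) :=
  fun _ hr => wc_mem_normalizer h hR hQ (map_conj_le hQ hr)

theorem wc_normalizer_le (h : IsWeaklyClosedSubgroup p Q) {R : Subgroup G} (hR : IsPGroup p R)
    (hQ : Q ≤ R) : normalizer (R : Set G) ≤ normalizer (Q : Set G) :=
  fun _ hg => wc_mem_normalizer h hR hQ ((Subgroup.map_mono hQ).trans (map_conj_eq_self hg).le)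

/-- A `p`-group normalised by `Q` normalises `Q`. -/
theorem wc_le_normalizer' (h : IsWeaklyClosedSubgroup p Q) {R : Subgroup G} (hR : IsPGroup p R)
    (hn : Q ≤ normalizer (R : Set G)) : R ≤ normalizer (Q : Set G) :=
  le_sup_right.trans (wc_le_normalizer h (isPGroup_sup (wc_isPGroup h) hR hn) le_sup_left)

theorem wc_of_unique (hQ : IsPGroup p Q)
    (h : ∀ R : Subgroup G, IsPGroup p R → Q ≤ R → ∀ g : G,
      Q.map (MulAut.conj g).toMonoidHom ≤ R → Q.map (MulAut.conj g).toMonoidHom = Q) :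
    IsWeaklyClosedSubgroup p Q := by
  obtain ⟨T, hT⟩ := hQ.exists_le_sylow
  exact ⟨T, hT, fun g hg => h T T.2 hT g hg⟩

theorem wc_map_conj (h : IsWeaklyClosedSubgroup p Q) (x : G) :
    IsWeaklyClosedSubgroup p (Q.map (MulAut.conj x).toMonoidHom) := by
  refine wc_of_unique (isPGroup_map_conj (wc_isPGroup h) x) fun R hR hQR g hg => ?_
  have h1 : x⁻¹ * g * x ∈ normalizer (Q : Set G) := by
    refine wc_mem_normalizer h (isPGroup_map_conj hR x⁻¹) ?_ ?_
    · exact (map_conj_inv_map_conj Q x).ge.trans (Subgroup.map_mono hQR)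
    · rw [show x⁻¹ * g * x = x⁻¹ * (g * x) by group, map_conj_mul, map_conj_mul]
      exact Subgroup.map_mono hg
  have e := map_conj_eq_self h1
  conv_rhs => rw [← e]
  rw [← map_conj_mul, ← map_conj_mul]
  congr 3
  group

/-- A criterion for weak closure from a single Sylow subgroup (Burnside). -/
theorem wc_of_sylow (T : Sylow p G) (hQT : Q ≤ (T : Subgroup G))
    (hN : normalizer ((T : Subgroup G) : Set G) ≤ normalizer (Q : Set G))
    (hconj : ∀ g : G, Q.map (MulAut.conj g).toMonoidHom ≤ (T : Subgroup G) →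
      (T : Subgroup G) ≤ normalizer (Q.map (MulAut.conj g).toMonoidHom : Set G)) :
    IsWeaklyClosedSubgroup p Q := by
  refine ⟨T, hQT, fun g hg => ?_⟩
  set Q' := Q.map (MulAut.conj g).toMonoidHom with hQ'
  have h1 : IsSylowIn p ((T : Subgroup G).map (MulAut.conj g).toMonoidHom)
      (normalizer (Q' : Set G)) := by
    refine isSylowIn_of_sylow (T.mapSurjective (f := (MulAut.conj g).toMonoidHom)
      (MulAut.conj g).surjective) ?_
    show (T : Subgroup G).map (MulAut.conj g).toMonoidHom ≤ normalizer (Q' : Set G)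
    exact ((Subgroup.map_mono ((T : Subgroup G).le_normalizer.trans hN)).trans
      (le_normalizer_map _))
  obtain ⟨n, hn, e⟩ := h1.exists_conj_eq (isSylowIn_of_sylow T (hconj g hg))
  rw [← map_conj_mul] at e
  have h2 := hN (mem_normalizer_of_map_conj e)
  have e2 : Q.map (MulAut.conj (n * g)).toMonoidHom = Q := map_conj_eq_self h2
  rw [map_conj_mul, map_conj_eq_self hn] at e2
  exact e2

/-- Conjugates of `Q` in `K` are conjugate under `K`. -/
theorem wc_exists_conj (h : IsWeaklyClosedSubgroup p Q) {K : Subgroup G} (hQK : Q ≤ K) {g : G}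
    (hg : Q.map (MulAut.conj g).toMonoidHom ≤ K) :
    ∃ k ∈ K, Q.map (MulAut.conj g).toMonoidHom = Q.map (MulAut.conj k).toMonoidHom := by
  obtain ⟨R, hQR, hR⟩ := exists_isSylowIn_le (wc_isPGroup h) hQK
  obtain ⟨l, hl, hle⟩ := hR.exists_conj_le (isPGroup_map_conj (wc_isPGroup h) g) hg
  rw [← map_conj_mul] at hle
  refine ⟨l⁻¹, inv_mem hl, ?_⟩
  conv_rhs => rw [← wc_map_conj_eq h hR.2.1 hQR hle, ← map_conj_mul, inv_mul_cancel_left]

theorem wc_subgroupOf (h : IsWeaklyClosedSubgroup p Q) {K : Subgroup G} (hQK : Q ≤ K) :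
    IsWeaklyClosedSubgroup p (Q.subgroupOf K) := by
  refine wc_of_unique ((wc_isPGroup h).of_equiv (subgroupOfEquivOfLe hQK).symm)
    fun R hR hQR g hg => ?_
  apply map_injective (f := K.subtype) K.subtype_injective
  have e : ((Q.subgroupOf K).map (MulAut.conj g).toMonoidHom).map K.subtype =
      Q.map (MulAut.conj (g : G)).toMonoidHom := by
    rw [Subgroup.map_map]
    conv_rhs => rw [← (inf_eq_left.2 hQK : Q ⊓ K = Q), ← subgroupOf_map_subtype, Subgroup.map_map]
    rfl
  have hQ' : Q ≤ R.map K.subtype := fun x hx => Subgroup.mem_map.2 ⟨⟨x, hQK hx⟩, hQR hx, rfl⟩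
  rw [e, subgroupOf_map_subtype, inf_eq_left.2 hQK]
  exact wc_map_conj_eq h (hR.map _) hQ' (e ▸ Subgroup.map_mono hg)

omit [Finite G] [Fact p.Prime] in
theorem map_conj_le_weakClosure {K : Subgroup G} {g : G}
    (hg : Q.map (MulAut.conj g).toMonoidHom ≤ K) :
    Q.map (MulAut.conj g).toMonoidHom ≤ weakClosure Q K :=
  le_iSup (fun g : {g : G // Q.map (MulAut.conj g).toMonoidHom ≤ K} =>
    Q.map (MulAut.conj (g : G)).toMonoidHom) ⟨g, hg⟩

omit [Finite G] [Fact p.Prime] in
theorem weakClosure_le_iff {K M : Subgroup G} :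
    weakClosure Q K ≤ M ↔ ∀ g : G, Q.map (MulAut.conj g).toMonoidHom ≤ K →
      Q.map (MulAut.conj g).toMonoidHom ≤ M :=
  ⟨fun h _ hg => (map_conj_le_weakClosure hg).trans h, fun h => iSup_le fun g => h g g.2⟩

omit [Finite G] [Fact p.Prime] in
theorem weakClosure_le (Q K : Subgroup G) : weakClosure Q K ≤ K :=
  weakClosure_le_iff.2 fun _ h => h

omit [Finite G] [Fact p.Prime] in
theorem le_weakClosure {K : Subgroup G} (h : Q ≤ K) : Q ≤ weakClosure Q K := by
  simpa only [map_conj_one] using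
    map_conj_le_weakClosure (Q := Q) (K := K) (g := 1) (by rwa [map_conj_one])

omit [Finite G] [Fact p.Prime] in
theorem weakClosure_mono {K M : Subgroup G} (h : K ≤ M) : weakClosure Q K ≤ weakClosure Q M :=
  weakClosure_le_iff.2 fun _ hg => map_conj_le_weakClosure (hg.trans h)

omit [Fact p.Prime] in
theorem normalizer_le_normalizer_weakClosure (Q K : Subgroup G) :
    normalizer (K : Set G) ≤ normalizer (weakClosure Q K : Set G) := by
  intro x hx
  apply mem_normalizer_of_map_conj_le
  rw [Subgroup.map_le_iff_le_comap, weakClosure_le_iff]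
  intro g hg
  rw [← Subgroup.map_le_iff_le_comap, ← map_conj_mul]
  exact map_conj_le_weakClosure (by
    rw [map_conj_mul]; exact (Subgroup.map_mono hg).trans (map_conj_eq_self hx).le)

omit [Fact p.Prime] in
theorem le_normalizer_weakClosure (Q K : Subgroup G) :
    K ≤ normalizer (weakClosure Q K : Set G) :=
  K.le_normalizer.trans (normalizer_le_normalizer_weakClosure Q K)

theorem weakClosure_eq_iSup (h : IsWeaklyClosedSubgroup p Q) {K : Subgroup G} (hQK : Q ≤ K) :
    weakClosure Q K = ⨆ k : ↥K, Q.map (MulAut.conj (k : G)).toMonoidHom := by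
  refine le_antisymm (weakClosure_le_iff.2 fun g hg => ?_)
    (iSup_le fun k => map_conj_le_weakClosure (map_conj_le hQK k.2))
  obtain ⟨k, hk, e⟩ := wc_exists_conj h hQK hg
  rw [e]
  exact le_iSup (fun k : ↥K => Q.map (MulAut.conj (k : G)).toMonoidHom) ⟨k, hk⟩

theorem weakClosure_eq_self_iff (h : IsWeaklyClosedSubgroup p Q) {K : Subgroup G} (hQK : Q ≤ K) :
    weakClosure Q K = Q ↔ K ≤ normalizer (Q : Set G) := by
  constructor
  · intro e
    exact (le_normalizer_weakClosure Q K).trans_eq (by rw [e])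
  · intro hK
    refine le_antisymm (weakClosure_le_iff.2 fun g hg => ?_) (le_weakClosure hQK)
    obtain ⟨k, hk, e⟩ := wc_exists_conj h hQK hg
    rw [e, map_conj_eq_self (hK hk)]

/-! ### Large subgroups -/

omit [Finite G] [Fact p.Prime] in
theorem isLarge_map_conj (h : IsLarge Q) (g : G) :
    IsLarge (Q.map (MulAut.conj g).toMonoidHom) := by
  refine ⟨?_, fun U hU hU1 => ?_⟩
  · rw [← coe_map_conj_centralizer]
    exact Subgroup.map_mono h.1
  · have h1 : U.map (MulAut.conj g⁻¹).toMonoidHom ≤ Subgroup.centralizer (Q : Set G) := by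
      rw [← le_map_conj_iff, coe_map_conj_centralizer]
      exact hU
    have h2 := h.2 _ h1 (by
      rwa [Ne, Subgroup.map_eq_bot_iff_of_injective _ (MulAut.conj g⁻¹).injective])
    intro x hx
    have h3 := h2 (le_normalizer_map _ (conj_mem_map_conj (g := g⁻¹) hx))
    have h4 := le_normalizer_map _ (conj_mem_map_conj (g := g) h3)
    simpa [mul_assoc] using h4

theorem isLarge_centralizer_ne_bot (hQ : IsPGroup p Q) (hQ1 : Q ≠ ⊥) :
    Q ⊓ Subgroup.centralizer (Q : Set G) ≠ ⊥ :=
  inf_centralizer_ne_bot hQ hQ1 hQ Q.le_normalizer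

/-- Large `p`-subgroups are weakly closed. -/
theorem wc_of_isLarge (hQ : IsPGroup p Q) (hQ1 : Q ≠ ⊥) (h : IsLarge Q) :
    IsWeaklyClosedSubgroup p Q := by
  obtain ⟨T, hQT⟩ := hQ.exists_le_sylow
  have key : ∀ g : G, Q.map (MulAut.conj g).toMonoidHom ≤ (T : Subgroup G) →
      normalizer ((T : Subgroup G) : Set G) ≤
        normalizer (Q.map (MulAut.conj g).toMonoidHom : Set G) := by
    intro g hg
    set Z := (T : Subgroup G) ⊓ Subgroup.centralizer ((T : Subgroup G) : Set G) with hZ
    have hZ1 : Z ≠ ⊥ := inf_centralizer_ne_bot T.2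
      (fun e => hQ1 (eq_bot_mono hQT e)) T.2 (T : Subgroup G).le_normalizer
    have hZc : Z ≤ Subgroup.centralizer ((Q.map (MulAut.conj g).toMonoidHom : Subgroup G) : Set G) :=
      inf_le_right.trans (Subgroup.centralizer_le hg)
    exact (le_normalizer_inf le_rfl (le_normalizer_centralizer le_rfl)).trans
      ((isLarge_map_conj h g).2 Z hZc hZ1)
  refine wc_of_sylow T hQT ?_ fun g hg => (T : Subgroup G).le_normalizer.trans (key g hg)
  simpa only [map_conj_one] using key 1 (by rwa [map_conj_one])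

/-- A nontrivial `p`-subgroup normalised by a large `p`-subgroup `Q`: its centraliser
normalises `Q`. -/
theorem centralizer_le_normalizer_of_large (hQ : IsPGroup p Q) (h : IsLarge Q) {Y : Subgroup G}
    (hY : IsPGroup p Y) (hY1 : Y ≠ ⊥) (hn : Q ≤ normalizer (Y : Set G)) :
    Subgroup.centralizer (Y : Set G) ≤ normalizer (Q : Set G) :=
  ((Subgroup.centralizer_le (inf_le_left : Y ⊓ Subgroup.centralizer (Q : Set G) ≤ Y)).trans
    (centralizer_le_normalizer _)).trans
    (h.2 _ inf_le_right (inf_centralizer_ne_bot hY hY1 hQ hn))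

end Cfsg.Agent.LocalStructure
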