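import Mathlib
import Cfsg.Prelude.Def_LocalStructure

/-!
Elementary toolbox for local structure arguments, phrased for subgroups of one ambient finite
group: the `p`-core of a subgroup, `O^p` of a subgroup, Sylow subgroups of a subgroup,
Frattini arguments and stabilised chains.
-/

set_option autoImplicit false
set_option linter.unusedSimpArgs false

open Subgroup
open scoped commutatorElement

namespace Cfsg.Agent.LocalStructure

variable {G : Type*} [Group G] {p : ℕ}

/-! ### Conjugates and normalisers -/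

theorem mem_map_conj {K : Subgroup G} {g x : G} :
    x ∈ K.map (MulAut.conj g).toMonoidHom ↔ g⁻¹ * x * g ∈ K := by
  constructor
  · rintro ⟨y, hy, rfl⟩
    simpa [mul_assoc] using hy
  · exact fun h => ⟨_, h, by simp [mul_assoc]⟩

theorem conj_mem_map_conj {K : Subgroup G} {g x : G} (hx : x ∈ K) :
    g * x * g⁻¹ ∈ K.map (MulAut.conj g).toMonoidHom :=
  ⟨x, hx, rfl⟩

theorem map_conj_one (K : Subgroup G) : K.map (MulAut.conj (1 : G)).toMonoidHom = K := by
  ext x; simp [mem_map_conj]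

theorem map_conj_mul (K : Subgroup G) (a b : G) :
    K.map (MulAut.conj (a * b)).toMonoidHom =
      (K.map (MulAut.conj b).toMonoidHom).map (MulAut.conj a).toMonoidHom := by
  ext x; simp [mem_map_conj, mul_assoc]

theorem map_conj_eq_self {K : Subgroup G} {g : G} (h : g ∈ normalizer (K : Set G)) :
    K.map (MulAut.conj g).toMonoidHom = K :=
  mem_normalizer_iff_map_conj_eq.1 h

theorem mem_normalizer_of_map_conj {K : Subgroup G} {g : G}
    (h : K.map (MulAut.conj g).toMonoidHom = K) : g ∈ normalizer (K : Set G) :=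
  mem_normalizer_iff_map_conj_eq.2 h

theorem map_conj_le {K L : Subgroup G} {g : G} (hK : K ≤ L) (hg : g ∈ L) :
    K.map (MulAut.conj g).toMonoidHom ≤ L := by
  rintro _ ⟨x, hx, rfl⟩
  exact L.mul_mem (L.mul_mem hg (hK hx)) (L.inv_mem hg)

theorem card_map_conj (K : Subgroup G) (g : G) :
    Nat.card ↥(K.map (MulAut.conj g).toMonoidHom) = Nat.card K :=
  Nat.card_congr ((K.equivMapOfInjective _ (MulAut.conj g).injective).toEquiv).symm

theorem mem_normalizer_of_map_conj_le [Finite G] {K : Subgroup G} {g : G}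
    (h : K.map (MulAut.conj g).toMonoidHom ≤ K) : g ∈ normalizer (K : Set G) :=
  mem_normalizer_of_map_conj
    (Subgroup.eq_of_le_of_card_ge h (card_map_conj K g).ge)

theorem isPGroup_map_conj {K : Subgroup G} (h : IsPGroup p K) (g : G) :
    IsPGroup p (K.map (MulAut.conj g).toMonoidHom) :=
  h.map _

theorem le_normalizer_centralizer {L K : Subgroup G} (h : L ≤ normalizer (K : Set G)) :
    L ≤ normalizer ((Subgroup.centralizer (K : Set G) : Subgroup G) : Set G) := by
  rw [le_normalizer_iff]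
  intro l hl c hc
  rw [Subgroup.mem_centralizer_iff] at hc ⊢
  intro k hk
  have hk' : l⁻¹ * k * l ∈ K := (mem_normalizer_iff''.1 (h hl) k).1 hk
  have e := hc _ hk'
  calc k * (l * c * l⁻¹) = l * ((l⁻¹ * k * l) * c) * l⁻¹ := by group
    _ = l * (c * (l⁻¹ * k * l)) * l⁻¹ := by rw [e]
    _ = (l * c * l⁻¹) * k := by group

theorem centralizer_le_normalizer (K : Subgroup G) :
    Subgroup.centralizer (K : Set G) ≤ normalizer (K : Set G) := by
  intro c hc
  refine mem_normalizer_iff.2 fun x => ?_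
  rw [Subgroup.mem_centralizer_iff] at hc
  constructor
  · intro hx
    rw [show c * x * c⁻¹ = x by rw [← hc x hx]; group]
    exact hx
  · intro hx
    have e := hc _ hx
    have : c * x * c⁻¹ = x := by
      have h1 : c⁻¹ * ((c * x * c⁻¹) * c) * c = c⁻¹ * (c * (c * x * c⁻¹)) * c := by rw [e]
      calc c * x * c⁻¹ = c⁻¹ * (c * (c * x * c⁻¹)) * 1 := by group
        _ = c⁻¹ * ((c * x * c⁻¹) * c) := by rw [e, mul_one]
        _ = x := by group
    rwa [this] at hx

theorem le_normalizer_sup {L A B : Subgroup G} (hA : L ≤ normalizer (A : Set G))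
    (hB : L ≤ normalizer (B : Set G)) : L ≤ normalizer ((A ⊔ B : Subgroup G) : Set G) := by
  intro l hl
  apply mem_normalizer_of_map_conj
  rw [Subgroup.map_sup, map_conj_eq_self (hA hl), map_conj_eq_self (hB hl)]

theorem le_normalizer_inf {L A B : Subgroup G} (hA : L ≤ normalizer (A : Set G))
    (hB : L ≤ normalizer (B : Set G)) : L ≤ normalizer ((A ⊓ B : Subgroup G) : Set G) :=
  fun _ hl => inf_normalizer_le_normalizer_inf ⟨hA hl, hB hl⟩

theorem le_normalizer_commutator {L A B : Subgroup G} (hA : L ≤ normalizer (A : Set G))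
    (hB : L ≤ normalizer (B : Set G)) : L ≤ normalizer ((⁅A, B⁆ : Subgroup G) : Set G) := by
  intro l hl
  apply mem_normalizer_of_map_conj
  rw [map_commutator, map_conj_eq_self (hA hl), map_conj_eq_self (hB hl)]

theorem exists_mul_of_mem_sup {H N : Subgroup G} (h : H ≤ normalizer (N : Set G)) {x : G}
    (hx : x ∈ H ⊔ N) : ∃ a ∈ H, ∃ n ∈ N, a * n = x := by
  rw [← SetLike.mem_coe, Subgroup.coe_mul_of_left_le_normalizer_right H N h] at hx
  exact Set.mem_mul.1 hx

theorem exists_mul_of_mem_sup' {H N : Subgroup G} (h : H ≤ normalizer (N : Set G)) {x : G}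
    (hx : x ∈ H ⊔ N) : ∃ n ∈ N, ∃ a ∈ H, n * a = x := by
  rw [sup_comm, ← SetLike.mem_coe, Subgroup.coe_mul_of_right_le_normalizer_left N H h] at hx
  exact Set.mem_mul.1 hx

/-! ### p-subgroups -/

theorem eq_one_of_isPGroup {K : Subgroup G} (hK : IsPGroup p K) {x : G} (hx : x ∈ K)
    (hc : (orderOf x).Coprime p) : x = 1 := by
  obtain ⟨k, hk⟩ := hK ⟨x, hx⟩
  have : x ^ p ^ k = 1 := by simpa [Subtype.ext_iff] using hk
  have h1 : orderOf x ∣ p ^ k := orderOf_dvd_of_pow_eq_one this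
  exact orderOf_eq_one_iff.1 (Nat.Coprime.eq_one_of_dvd (hc.pow_right k) h1)

theorem exists_coprime_pow_mem [Finite G] [Fact p.Prime] (x : G) :
    ∃ k : ℕ, (orderOf (x ^ p ^ k)).Coprime p := by
  have hp : p.Prime := Fact.out
  obtain ⟨k, m, hm, he⟩ := Nat.exists_eq_pow_mul_and_not_dvd (orderOf_pos x).ne' p hp.ne_one
  refine ⟨k, ?_⟩
  rw [orderOf_pow, he, Nat.gcd_eq_right (dvd_mul_right _ _),
    Nat.mul_div_cancel_left _ (pow_pos hp.pos k)]
  exact ((hp.coprime_iff_not_dvd).2 hm).symm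

/-- A subgroup without nontrivial elements of order prime to `p` is a `p`-group. -/
theorem isPGroup_of_forall_coprime [Finite G] [Fact p.Prime] {K : Subgroup G}
    (h : ∀ x ∈ K, (orderOf x).Coprime p → x = 1) : IsPGroup p K := by
  intro x
  obtain ⟨k, hk⟩ := exists_coprime_pow_mem (p := p) (x : G)
  exact ⟨k, Subtype.ext (by simpa using h _ (K.pow_mem x.2 _) hk)⟩

theorem mem_of_pow_mem {K : Subgroup G} {x : G} {k : ℕ} (hc : (orderOf x).Coprime p)
    (h : x ^ p ^ k ∈ K) : x ∈ K := by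
  obtain ⟨m, hm⟩ := exists_pow_eq_self_of_coprime ((hc.pow_right k).symm)
  rw [← hm]
  exact K.pow_mem h m

theorem isPGroup_sup {A B : Subgroup G} (hA : IsPGroup p A) (hB : IsPGroup p B)
    (h : A ≤ normalizer (B : Set G)) : IsPGroup p (A ⊔ B : Subgroup G) :=
  IsPGroup.to_sup_of_normal_right' hA hB h

theorem isPGroup_comm_sup {A B : Subgroup G} (hA : IsPGroup p A) (hB : IsPGroup p B)
    (h : B ≤ normalizer (A : Set G)) : IsPGroup p (A ⊔ B : Subgroup G) :=
  IsPGroup.to_sup_of_normal_left' hA hB h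

/-- Normalisers grow in `p`-subgroups. -/
theorem exists_mem_normalizer_of_lt [Finite G] [Fact p.Prime] {R P : Subgroup G} (hP : IsPGroup p P)
    (h : R < P) : ∃ x ∈ P, x ∈ normalizer (R : Set G) ∧ x ∉ R := by
  have := hP.isNilpotent
  have hlt : R.subgroupOf P < ⊤ := lt_top_iff_ne_top.2 fun e => h.not_ge (subgroupOf_eq_top.1 e)
  obtain ⟨x, hx, hxR⟩ := SetLike.exists_of_lt (Group.normalizerCondition_of_isNilpotent _ hlt)
  rw [← subgroupOf_normalizer_eq h.le] at hx
  exact ⟨x, x.2, hx, hxR⟩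

/-! ### The p-core -/

theorem pCore_normal (p : ℕ) (G : Type*) [Group G] : (pCore p G).Normal := by
  rw [← normalizer_eq_top_iff, eq_top_iff]
  rintro g -
  apply mem_normalizer_of_map_conj
  rw [pCore, sSup_eq_iSup', Subgroup.map_iSup]
  refine iSup_congr fun N => map_conj_eq_self ?_
  have := N.2.1
  exact le_normalizer_of_normal (K := (⊤ : Subgroup G)) (Subgroup.mem_top g)

theorem le_pCore {N : Subgroup G} (hn : N.Normal) (hp : IsPGroup p N) : N ≤ pCore p G :=
  le_sSup ⟨hn, hp⟩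

theorem isPGroup_pCore [Finite G] (p : ℕ) : IsPGroup p (pCore p G) := by
  have key : ∀ S : Set (Subgroup G), S.Finite → (∀ N ∈ S, N.Normal ∧ IsPGroup p N) →
      IsPGroup p (sSup S : Subgroup G) ∧ (sSup S : Subgroup G).Normal := by
    intro S hS
    induction S, hS using Set.Finite.induction_on with
    | empty => intro _; rw [sSup_empty]; exact ⟨IsPGroup.of_bot, inferInstance⟩
    | @insert a s _ _ ih =>
      intro h
      have h' := ih fun N hN => h N (Set.mem_insert_of_mem _ hN)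
      have ha := h a (Set.mem_insert _ _)
      rw [sSup_insert]
      have := ha.1
      have := h'.2
      exact ⟨IsPGroup.to_sup_of_normal_left ha.2 h'.1, inferInstance⟩
  exact (key _ (Set.toFinite _) fun _ h => h).1

theorem pCoreOf_le (p : ℕ) (L : Subgroup G) : pCoreOf p L ≤ L :=
  Subgroup.map_subtype_le _

theorem le_normalizer_pCoreOf (p : ℕ) (L : Subgroup G) :
    L ≤ normalizer (pCoreOf p L : Set G) := by
  have := pCore_normal p ↥L
  apply (normal_subgroupOf_iff_le_normalizer (pCoreOf_le p L)).1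
  show (((pCore p ↥L).map L.subtype).comap L.subtype).Normal
  rwa [comap_map_eq_self_of_injective L.subtype_injective]

theorem isPGroup_pCoreOf [Finite G] (p : ℕ) (L : Subgroup G) : IsPGroup p (pCoreOf p L) :=
  (isPGroup_pCore p).map _

theorem subgroupOf_pCoreOf (p : ℕ) (L : Subgroup G) :
    (pCoreOf p L).subgroupOf L = pCore p ↥L :=
  comap_map_eq_self_of_injective L.subtype_injective _

theorem le_pCoreOf {N L : Subgroup G} (hNL : N ≤ L) (hn : L ≤ normalizer (N : Set G))
    (hp : IsPGroup p N) : N ≤ pCoreOf p L := by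
  have h : N.subgroupOf L ≤ pCore p ↥L :=
    le_pCore ((normal_subgroupOf_iff_le_normalizer hNL).2 hn)
      (hp.of_equiv (subgroupOfEquivOfLe hNL).symm)
  intro x hx
  exact ⟨⟨x, hNL hx⟩, h hx, rfl⟩

theorem pCoreOf_inf_le [Finite G] {K L : Subgroup G} (hKL : K ≤ L) :
    pCoreOf p L ⊓ K ≤ pCoreOf p K :=
  le_pCoreOf inf_le_right
    (le_normalizer_inf (hKL.trans (le_normalizer_pCoreOf p L)) K.le_normalizer)
    ((isPGroup_pCoreOf p L).to_le inf_le_left)

theorem normalizer_le_normalizer_pCoreOf [Finite G] (L : Subgroup G) :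
    normalizer (L : Set G) ≤ normalizer (pCoreOf p L : Set G) := by
  intro g hg
  apply mem_normalizer_of_map_conj_le
  have hgm := map_conj_eq_self hg
  refine le_pCoreOf ?_ ?_ (isPGroup_map_conj (isPGroup_pCoreOf p L) g)
  · calc _ ≤ L.map (MulAut.conj g).toMonoidHom := Subgroup.map_mono (pCoreOf_le p L)
      _ = L := hgm
  · calc L = L.map (MulAut.conj g).toMonoidHom := hgm.symm
      _ ≤ (normalizer (pCoreOf p L : Set G)).map (MulAut.conj g).toMonoidHom :=
          Subgroup.map_mono (le_normalizer_pCoreOf p L)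
      _ ≤ _ := le_normalizer_map _

/-- `L` has characteristic `p`, read in the ambient group. -/
theorem hasCharP_iff (L : Subgroup G) :
    Subgroup.centralizer (pCore p ↥L : Set ↥L) ≤ pCore p ↥L ↔
      L ⊓ Subgroup.centralizer (pCoreOf p L : Set G) ≤ pCoreOf p L := by
  constructor
  · intro h x hx
    obtain ⟨hxL, hxc⟩ := hx
    refine ⟨⟨x, hxL⟩, h ?_, rfl⟩
    refine Subgroup.mem_centralizer_iff.2 ?_
    intro y hy
    exact Subtype.ext (Subgroup.mem_centralizer_iff.1 hxc _ ⟨y, hy, rfl⟩)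
  · intro h x hx
    rw [Subgroup.mem_centralizer_iff] at hx
    have : (x : G) ∈ pCoreOf p L := h ⟨x.2, by
      refine Subgroup.mem_centralizer_iff.2 ?_
      rintro _ ⟨y, hy, rfl⟩
      exact congrArg Subtype.val (hx y hy)⟩
    rw [← subgroupOf_pCoreOf p L]
    exact this

theorem pCoreOf_eq_bot_iff (L : Subgroup G) : pCoreOf p L = ⊥ ↔ pCore p ↥L = ⊥ :=
  Subgroup.map_eq_bot_iff_of_injective _ L.subtype_injective

/-! ### Sylow subgroups of a subgroup -/

/-- `R` is a Sylow `p`-subgroup of the subgroup `L`. -/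
def IsSylowIn (p : ℕ) (R L : Subgroup G) : Prop :=
  R ≤ L ∧ IsPGroup p R ∧ ∀ R' : Subgroup G, R ≤ R' → R' ≤ L → IsPGroup p R' → R' = R

theorem isSylowIn_map {L : Subgroup G} (P : Sylow p L) :
    IsSylowIn p ((P : Subgroup L).map L.subtype) L := by
  refine ⟨Subgroup.map_subtype_le _, P.2.map _, fun R' h hL hp => ?_⟩
  have e : R'.subgroupOf L = P := P.3 (hp.of_equiv (subgroupOfEquivOfLe hL).symm)
    (fun x hx => h ⟨x, hx, rfl⟩)
  rw [← e, subgroupOf_map_subtype, inf_eq_left.2 hL]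

theorem IsSylowIn.exists_sylow {R L : Subgroup G} (h : IsSylowIn p R L) :
    ∃ P : Sylow p L, (P : Subgroup L) = R.subgroupOf L :=
  ⟨{ toSubgroup := R.subgroupOf L
     isPGroup' := h.2.1.of_equiv (subgroupOfEquivOfLe h.1).symm
     is_maximal' := by
      intro Q hQ hle
      have e : Q.map L.subtype = R := h.2.2 _
        (fun x hx => Subgroup.mem_map.2 ⟨⟨x, h.1 hx⟩, hle hx, rfl⟩) (Subgroup.map_subtype_le _) (hQ.map _)
      rw [← e]
      exact (comap_map_eq_self_of_injective L.subtype_injective _).symm }, rfl⟩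

theorem IsSylowIn.exists_map_eq {R L : Subgroup G} (h : IsSylowIn p R L) :
    ∃ P : Sylow p L, (P : Subgroup L).map L.subtype = R := by
  obtain ⟨P, hP⟩ := h.exists_sylow
  exact ⟨P, by rw [hP, subgroupOf_map_subtype, inf_eq_left.2 h.1]⟩

theorem exists_isSylowIn_le [Finite G] {P L : Subgroup G} (hP : IsPGroup p P) (hPL : P ≤ L) :
    ∃ R, P ≤ R ∧ IsSylowIn p R L := by
  obtain ⟨Q, hQ⟩ := (hP.of_equiv (subgroupOfEquivOfLe hPL).symm).exists_le_sylow
  exact ⟨(Q : Subgroup L).map L.subtype, fun x hx => Subgroup.mem_map.2 ⟨⟨x, hPL hx⟩, hQ hx, rfl⟩, isSylowIn_map Q⟩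

theorem exists_isSylowIn [Finite G] (p : ℕ) (L : Subgroup G) : ∃ R, IsSylowIn p R L := by
  obtain ⟨R, -, h⟩ := exists_isSylowIn_le (IsPGroup.of_bot (p := p)) (bot_le : ⊥ ≤ L)
  exact ⟨R, h⟩

theorem isSylowIn_of_sylow (T : Sylow p G) {L : Subgroup G} (h : (T : Subgroup G) ≤ L) :
    IsSylowIn p (T : Subgroup G) L :=
  ⟨h, T.2, fun _ h1 _ h3 => T.3 h3 h1⟩

theorem IsSylowIn.mono {R L K : Subgroup G} (h : IsSylowIn p R L) (hR : R ≤ K) (hK : K ≤ L) :
    IsSylowIn p R K :=
  ⟨hR, h.2.1, fun R' h1 h2 h3 => h.2.2 R' h1 (h2.trans hK) h3⟩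

theorem IsSylowIn.exists_conj_eq [Finite G] [Fact p.Prime] {R R' L : Subgroup G}
    (h : IsSylowIn p R L) (h' : IsSylowIn p R' L) :
    ∃ l ∈ L, R.map (MulAut.conj l).toMonoidHom = R' := by
  obtain ⟨P, hP⟩ := h.exists_map_eq
  obtain ⟨P', hP'⟩ := h'.exists_map_eq
  obtain ⟨g, hg⟩ := MulAction.exists_smul_eq L P P'
  refine ⟨g, g.2, ?_⟩
  rw [← hP, ← hP', ← hg, Subgroup.map_map]
  show _ = ((P : Subgroup L).map (MulAut.conj g).toMonoidHom).map L.subtype
  rw [Subgroup.map_map]
  rfl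

theorem IsSylowIn.exists_conj_le [Finite G] [Fact p.Prime] {R P L : Subgroup G}
    (h : IsSylowIn p R L) (hP : IsPGroup p P) (hPL : P ≤ L) :
    ∃ l ∈ L, P.map (MulAut.conj l).toMonoidHom ≤ R := by
  obtain ⟨R', hPR', h'⟩ := exists_isSylowIn_le hP hPL
  obtain ⟨l, hl, e⟩ := h'.exists_conj_eq h
  exact ⟨l, hl, e ▸ Subgroup.map_mono hPR'⟩

theorem IsSylowIn.pCoreOf_le [Finite G] {R L : Subgroup G} (h : IsSylowIn p R L) :
    pCoreOf p L ≤ R := by
  have hn := h.1.trans (le_normalizer_pCoreOf p L)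
  have e := h.2.2 (R ⊔ pCoreOf p L) le_sup_left (sup_le h.1 (LocalStructure.pCoreOf_le p L))
    (isPGroup_sup h.2.1 (isPGroup_pCoreOf p L) hn)
  exact e ▸ le_sup_right

theorem pCoreOf_le_sylow [Finite G] (T : Sylow p G) {L : Subgroup G} (h : (T : Subgroup G) ≤ L) :
    pCoreOf p L ≤ T :=
  (isSylowIn_of_sylow T h).pCoreOf_le

theorem IsSylowIn.eq_of_le_normalizer [Finite G] [Fact p.Prime] {R L P : Subgroup G}
    (h : IsSylowIn p R L) (hP : IsPGroup p P) (hPL : P ≤ L) (hn : L ≤ normalizer (R : Set G)) :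
    P ≤ R := by
  obtain ⟨l, hl, hle⟩ := h.exists_conj_le hP hPL
  intro x hx
  exact (mem_normalizer_iff.1 (hn hl) x).2 (hle (conj_mem_map_conj hx))

theorem IsSylowIn.inf_normal [Finite G] [Fact p.Prime] {R L N : Subgroup G}
    (h : IsSylowIn p R L) (hNL : N ≤ L) (hn : L ≤ normalizer (N : Set G)) :
    IsSylowIn p (R ⊓ N) N := by
  refine ⟨inf_le_right, h.2.1.to_le inf_le_left, fun R' h1 h2 h3 => ?_⟩
  obtain ⟨l, hl, hle⟩ := h.exists_conj_le h3 (h2.trans hNL)
  have h4 : R'.map (MulAut.conj l).toMonoidHom ≤ R ⊓ N := le_inf hle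
    ((Subgroup.map_mono h2).trans (map_conj_eq_self (hn hl)).le)
  have hc := Subgroup.card_le_of_le h4
  rw [card_map_conj] at hc
  exact (Subgroup.eq_of_le_of_card_ge h1 hc).symm

/-- Frattini argument. -/
theorem IsSylowIn.frattini [Finite G] [Fact p.Prime] {R L N : Subgroup G}
    (h : IsSylowIn p R N) (hn : L ≤ normalizer (N : Set G)) {x : G} (hx : x ∈ L) :
    ∃ n ∈ N, n * x ∈ normalizer (R : Set G) := by
  have hN := map_conj_eq_self (hn hx)
  have h' : IsSylowIn p (R.map (MulAut.conj x).toMonoidHom) N := by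
    refine ⟨(Subgroup.map_mono h.1).trans hN.le, isPGroup_map_conj h.2.1 x, fun R' h1 h2 h3 => ?_⟩
    have e := h.2.2 (R'.map (MulAut.conj x⁻¹).toMonoidHom)
      (by
        intro y hy
        rw [mem_map_conj]
        exact h1 (by simpa [mem_map_conj, mul_assoc] using hy))
      ((Subgroup.map_mono h2).trans (map_conj_eq_self (inv_mem (hn hx))).le)
      (isPGroup_map_conj h3 _)
    rw [← e, ← map_conj_mul, mul_inv_cancel, map_conj_one]
  obtain ⟨n, hnN, e⟩ := h'.exists_conj_eq h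
  exact ⟨n, hnN, mem_normalizer_of_map_conj (by rw [map_conj_mul, e])⟩

theorem isSylowIn_iff_of_pCore [Finite G] [Fact p.Prime] {L : Subgroup G}
    (h : IsPGroup p L) : IsSylowIn p L L :=
  ⟨le_rfl, h, fun _ h1 h2 _ => le_antisymm h2 h1⟩

/-! ### O^p of a subgroup -/

/-- `O^p(L)` of a subgroup, viewed in the ambient group. -/
def resOf (p : ℕ) (L : Subgroup G) : Subgroup G := (pResidual p ↥L).map L.subtype

theorem resOf_def (p : ℕ) (L : Subgroup G) : (pResidual p ↥L).map L.subtype = resOf p L := rfl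

theorem resOf_eq_closure (p : ℕ) (L : Subgroup G) :
    resOf p L = Subgroup.closure {x : G | x ∈ L ∧ (orderOf x).Coprime p} := by
  rw [resOf, pResidual, MonoidHom.map_closure]
  congr 1
  ext x
  constructor
  · rintro ⟨y, hy, rfl⟩
    exact ⟨y.2, by simpa [orderOf_submonoid] using hy⟩
  · rintro ⟨hx, hc⟩
    exact ⟨⟨x, hx⟩, by simpa [orderOf_submonoid] using hc, rfl⟩

theorem resOf_le (p : ℕ) (L : Subgroup G) : resOf p L ≤ L := Subgroup.map_subtype_le _

theorem mem_resOf {L : Subgroup G} {x : G} (hx : x ∈ L) (hc : (orderOf x).Coprime p) :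
    x ∈ resOf p L := by
  rw [resOf_eq_closure]; exact Subgroup.subset_closure ⟨hx, hc⟩

theorem resOf_le_iff {L K : Subgroup G} :
    resOf p L ≤ K ↔ ∀ x ∈ L, (orderOf x).Coprime p → x ∈ K := by
  rw [resOf_eq_closure, Subgroup.closure_le]
  exact ⟨fun h x hx hc => h ⟨hx, hc⟩, fun h x hx => h x hx.1 hx.2⟩

theorem resOf_mono {L K : Subgroup G} (h : L ≤ K) : resOf p L ≤ resOf p K :=
  resOf_le_iff.2 fun _ hx hc => mem_resOf (h hx) hc

theorem resOf_resOf (p : ℕ) (L : Subgroup G) : resOf p (resOf p L) = resOf p L :=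
  le_antisymm (resOf_le p _) (resOf_le_iff.2 fun _ hx hc => mem_resOf (mem_resOf hx hc) hc)

theorem orderOf_conj (g x : G) : orderOf (g * x * g⁻¹) = orderOf x :=
  orderOf_injective (MulAut.conj g).toMonoidHom (MulAut.conj g).injective x

theorem normalizer_le_normalizer_resOf (p : ℕ) (L : Subgroup G) :
    normalizer (L : Set G) ≤ normalizer (resOf p L : Set G) := by
  rw [resOf_eq_closure, le_normalizer_closure_iff]
  intro g hg x hx
  exact Subgroup.subset_closure ⟨(mem_normalizer_iff.1 hg x).1 hx.1, by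
    simpa only [orderOf_conj] using hx.2⟩

theorem le_normalizer_resOf (p : ℕ) (L : Subgroup G) : L ≤ normalizer (resOf p L : Set G) :=
  L.le_normalizer.trans (normalizer_le_normalizer_resOf p L)

theorem isPGroup_iff_resOf_eq_bot [Finite G] [Fact p.Prime] {L : Subgroup G} :
    IsPGroup p L ↔ resOf p L = ⊥ := by
  rw [← le_bot_iff, resOf_le_iff]
  exact ⟨fun h x hx hc => Subgroup.mem_bot.2 (eq_one_of_isPGroup h hx hc),
    fun h => isPGroup_of_forall_coprime fun x hx hc => Subgroup.mem_bot.1 (h x hx hc)⟩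

theorem exists_pow_mem_resOf [Finite G] [Fact p.Prime] {L : Subgroup G} {x : G} (hx : x ∈ L) :
    ∃ k : ℕ, x ^ p ^ k ∈ resOf p L := by
  obtain ⟨k, hk⟩ := exists_coprime_pow_mem (p := p) x
  exact ⟨k, mem_resOf (L.pow_mem hx _) hk⟩

theorem resOf_le_of_pow_mem {L N : Subgroup G} (h : ∀ x ∈ L, ∃ k : ℕ, x ^ p ^ k ∈ N) :
    resOf p L ≤ N :=
  resOf_le_iff.2 fun x hx hc => (h x hx).elim fun _ hk => mem_of_pow_mem hc hk

/-- `L = O^p(L) R` for a Sylow `p`-subgroup `R` of `L`. -/
theorem IsSylowIn.resOf_sup [Finite G] [Fact p.Prime] {R L : Subgroup G}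
    (h : IsSylowIn p R L) : resOf p L ⊔ R = L := by
  refine le_antisymm (sup_le (resOf_le p L) h.1) ?_
  obtain ⟨P, hP⟩ := h.exists_sylow
  have hn : (pResidual p ↥L).Normal := by
    rw [← comap_map_eq_self_of_injective L.subtype_injective (pResidual p ↥L)]
    exact (normal_subgroupOf_iff_le_normalizer (resOf_le p L)).2 (le_normalizer_resOf p L)
  have hq : IsPGroup p (↥L ⧸ pResidual p ↥L) := by
    intro x
    obtain ⟨y, rfl⟩ := QuotientGroup.mk_surjective x
    obtain ⟨k, hk⟩ := exists_coprime_pow_mem (p := p) y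
    refine ⟨k, ?_⟩
    rw [← QuotientGroup.mk_pow, QuotientGroup.eq_one_iff]
    exact Subgroup.subset_closure hk
  obtain ⟨k, hk⟩ := hq.exists_card_eq
  have hidx : (pResidual p ↥L ⊔ (P : Subgroup L)).index = 1 := by
    have h1 : (pResidual p ↥L ⊔ (P : Subgroup L)).index ∣ p ^ k := by
      rw [← hk, ← Subgroup.index_eq_card]
      exact Subgroup.index_dvd_of_le le_sup_left
    have h2 : (pResidual p ↥L ⊔ (P : Subgroup L)).index ∣ (P : Subgroup L).index :=
      Subgroup.index_dvd_of_le le_sup_right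
    exact Nat.Coprime.eq_one_of_dvd
      (((Fact.out : p.Prime).coprime_iff_not_dvd.2 P.not_dvd_index).pow_left k |>.symm
        |>.coprime_dvd_left h2) h1
  intro x hx
  have hm : (⟨x, hx⟩ : L) ∈ pResidual p ↥L ⊔ (P : Subgroup L) := by
    rw [Subgroup.index_eq_one.1 hidx]; trivial
  have := Subgroup.mem_map_of_mem L.subtype hm
  rw [Subgroup.map_sup, hP, subgroupOf_map_subtype, inf_eq_left.2 h.1] at this
  exact this

/-! ### Stabilised chains -/

/-- An element of order prime to `p` centralising `W` and moving `v` by an element of the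
`p`-group `W` centralises `v`. -/
theorem commute_of_stabilize {W : Subgroup G} (hW : IsPGroup p W) {x v : G}
    (hx : (orderOf x).Coprime p) (hWx : ∀ w ∈ W, Commute x w)
    (hv : ⁅x, v⁆ ∈ W) : Commute x v := by
  set z := ⁅x, v⁆ with hz
  have hxz : Commute x z := hWx z hv
  have h1 : ∀ k : ℕ, x ^ k * v * (x ^ k)⁻¹ = z ^ k * v := by
    intro k
    induction k with
    | zero => simp
    | succ k ih =>
      have e : x * (z ^ k * v) * x⁻¹ = z ^ k * (x * v * x⁻¹) := by
        rw [← mul_assoc x, (hxz.pow_right k).eq]; group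
      calc x ^ (k + 1) * v * (x ^ (k + 1))⁻¹ = x * (x ^ k * v * (x ^ k)⁻¹) * x⁻¹ := by
            rw [pow_succ']; group
        _ = z ^ k * (x * v * x⁻¹) := by rw [ih, e]
        _ = z ^ (k + 1) * v := by rw [pow_succ, hz, commutatorElement_def]; group
  have h2 := h1 (orderOf x)
  rw [pow_orderOf_eq_one] at h2
  have h3 : z ^ orderOf x = 1 := by simpa using h2
  have h4 : z = 1 := eq_one_of_isPGroup hW hv
    (hx.coprime_dvd_left (orderOf_dvd_of_pow_eq_one h3))
  exact commutatorElement_eq_one_iff_commute.1 h4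

theorem resOf_le_centralizer_of_stabilize {V W K : Subgroup G} (hW : IsPGroup p W)
    (hWK : K ≤ Subgroup.centralizer (W : Set G)) (h : ⁅V, K⁆ ≤ W) :
    resOf p K ≤ Subgroup.centralizer (V : Set G) := by
  rw [resOf_le_iff]
  intro x hx hc
  rw [Subgroup.mem_centralizer_iff]
  intro v hv
  refine (commute_of_stabilize hW hc (fun w hw => ?_) ?_).eq.symm
  · exact (Subgroup.mem_centralizer_iff.1 (hWK hx) w hw).symm
  · rw [← commutatorElement_inv]
    exact W.inv_mem (h (commutator_mem_commutator hv hx))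

end Cfsg.Agent.LocalStructure
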