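import Cfsg.Agent.Lib.LocalStructure.Basic

/-! `p`-closed groups and subgroups. -/

set_option autoImplicit false

open Subgroup
open scoped commutatorElement

namespace Cfsg.Agent.LocalStructure

variable {G : Type*} [Group G] {p : ℕ}

theorem pCoreOf_top [Finite G] : pCoreOf p (⊤ : Subgroup G) = pCore p G := by
  refine le_antisymm (le_pCore ?_ (isPGroup_pCoreOf p _)) ?_
  · rw [← normalizer_eq_top_iff, eq_top_iff]
    exact le_normalizer_pCoreOf p _
  · have := pCore_normal p G
    exact le_pCoreOf le_top le_normalizer_of_normal (isPGroup_pCore p)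

theorem resOf_top (p : ℕ) : resOf p (⊤ : Subgroup G) = pResidual p G := by
  rw [resOf_eq_closure, pResidual]
  simp

theorem pResidual_normal (p : ℕ) (G : Type*) [Group G] : (pResidual p G).Normal := by
  rw [← normalizer_eq_top_iff, eq_top_iff, ← resOf_top]
  exact le_normalizer_resOf p ⊤

theorem mem_pResidual {x : G} (h : (orderOf x).Coprime p) : x ∈ pResidual p G :=
  Subgroup.subset_closure h

theorem pResidual_le_iff {K : Subgroup G} :
    pResidual p G ≤ K ↔ ∀ x : G, (orderOf x).Coprime p → x ∈ K := by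
  rw [← resOf_top, resOf_le_iff]
  simp

theorem pResidual_le_of_pow_mem {N : Subgroup G} (h : ∀ x : G, ∃ k : ℕ, x ^ p ^ k ∈ N) :
    pResidual p G ≤ N :=
  pResidual_le_iff.2 fun x hc => (h x).elim fun _ hk => mem_of_pow_mem hc hk

theorem pResidual_sup_sylow [Finite G] [Fact p.Prime] (T : Sylow p G) :
    pResidual p G ⊔ (T : Subgroup G) = ⊤ := by
  rw [← resOf_top]
  exact (isSylowIn_of_sylow T le_top).resOf_sup

theorem isPClosed_iff [Finite G] [Fact p.Prime] :
    IsPClosed p G ↔ ∀ P : Subgroup G, IsPGroup p P → P ≤ pCore p G := by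
  constructor
  · intro h P hP
    obtain ⟨Q, hQ⟩ := hP.exists_le_sylow
    exact hQ.trans (le_pCore (h Q) Q.2)
  · intro h P
    have e : (P : Subgroup G) = pCore p G := (P.3 (isPGroup_pCore p) (h _ P.2)).symm
    rw [e]
    exact pCore_normal p G

theorem isPClosed_of_sylow_normal [Finite G] [Fact p.Prime] (P : Sylow p G)
    (h : (P : Subgroup G).Normal) : IsPClosed p G := by
  intro Q
  obtain ⟨g, hg⟩ := MulAction.exists_smul_eq G P Q
  rw [← hg, Sylow.smul_eq_of_normal]
  exact h

theorem isPClosed_sub_iff [Finite G] [Fact p.Prime] {L : Subgroup G} :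
    IsPClosed p ↥L ↔ ∀ P : Subgroup G, P ≤ L → IsPGroup p P → P ≤ pCoreOf p L := by
  rw [isPClosed_iff]
  constructor
  · intro h P hPL hP x hx
    exact Subgroup.mem_map.2 ⟨⟨x, hPL hx⟩,
      h _ (hP.of_equiv (subgroupOfEquivOfLe hPL).symm) hx, rfl⟩
  · intro h P hP
    rw [← subgroupOf_pCoreOf p L]
    intro x hx
    exact h (P.map L.subtype) (Subgroup.map_subtype_le _) (hP.map _) ⟨x, hx, rfl⟩

theorem isPClosed_sub_iff_sylow [Finite G] [Fact p.Prime] {R L : Subgroup G}
    (hR : IsSylowIn p R L) : IsPClosed p ↥L ↔ L ≤ normalizer (R : Set G) := by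
  rw [isPClosed_sub_iff]
  constructor
  · intro h
    have e : R = pCoreOf p L := le_antisymm (h R hR.1 hR.2.1) hR.pCoreOf_le
    rw [e]
    exact le_normalizer_pCoreOf p L
  · intro h P hPL hP
    exact (hR.eq_of_le_normalizer hP hPL h).trans (le_pCoreOf hR.1 h hR.2.1)

theorem isPClosed_top_iff [Finite G] [Fact p.Prime] :
    IsPClosed p ↥(⊤ : Subgroup G) ↔ IsPClosed p G := by
  rw [isPClosed_sub_iff, isPClosed_iff, pCoreOf_top]
  simp

theorem isPClosed_mono [Finite G] [Fact p.Prime] {K L : Subgroup G} (hKL : K ≤ L)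
    (h : IsPClosed p ↥L) : IsPClosed p ↥K := by
  rw [isPClosed_sub_iff] at h ⊢
  exact fun P hPK hP => (le_inf (h P (hPK.trans hKL) hP) hPK).trans (pCoreOf_inf_le hKL)

/-- A `p`-closed normal subgroup has its `p`-subgroups in the `p`-core of the overgroup. -/
theorem le_pCoreOf_of_isPClosed [Finite G] [Fact p.Prime] {N L P : Subgroup G} (hNL : N ≤ L)
    (hn : L ≤ normalizer (N : Set G)) (hcl : IsPClosed p ↥N) (hPN : P ≤ N) (hP : IsPGroup p P) :
    P ≤ pCoreOf p L :=
  (isPClosed_sub_iff.1 hcl P hPN hP).trans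
    (le_pCoreOf ((pCoreOf_le p N).trans hNL) (hn.trans (normalizer_le_normalizer_pCoreOf N))
      (isPGroup_pCoreOf p N))

theorem le_pCore_of_isPClosed [Finite G] [Fact p.Prime] {N P : Subgroup G} (hN : N.Normal)
    (hcl : IsPClosed p ↥N) (hPN : P ≤ N) (hP : IsPGroup p P) : P ≤ pCore p G := by
  rw [← pCoreOf_top]
  exact le_pCoreOf_of_isPClosed le_top le_normalizer_of_normal hcl hPN hP

/-- In a finite group that is not `p`-closed, no Sylow `p`-subgroup lies in the `p`-core. -/
theorem not_sylow_le_pCore [Finite G] [Fact p.Prime] (h : ¬ IsPClosed p G) (T : Sylow p G) :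
    ¬ (T : Subgroup G) ≤ pCore p G := by
  intro hle
  apply h
  refine isPClosed_of_sylow_normal T ?_
  have e : (T : Subgroup G) = pCore p G := (T.3 (isPGroup_pCore p) hle).symm
  rw [e]
  exact pCore_normal p G

/-- A normal subgroup containing a Sylow subgroup of a group that is not `p`-closed is not
`p`-closed. -/
theorem not_isPClosed_of_sylow_le [Finite G] [Fact p.Prime] (h : ¬ IsPClosed p G)
    {N : Subgroup G} (hN : N.Normal) (T : Sylow p G) (hT : (T : Subgroup G) ≤ N) :
    ¬ IsPClosed p ↥N := fun hcl =>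
  not_sylow_le_pCore h T (le_pCore_of_isPClosed hN hcl hT T.2)

theorem exists_pow_mem_of_mem_sup {N P : Subgroup G} (hn : P ≤ normalizer (N : Set G))
    (hP : IsPGroup p P) {x : G} (hx : x ∈ P ⊔ N) : ∃ k : ℕ, x ^ p ^ k ∈ N := by
  obtain ⟨a, ha, n, hn', rfl⟩ := exists_mul_of_mem_sup hn hx
  obtain ⟨k, hk⟩ := hP ⟨a, ha⟩
  have hak : a ^ p ^ k = 1 := by simpa [Subtype.ext_iff] using hk
  refine ⟨k, ?_⟩
  have key : ∀ m : ℕ, (a ^ m)⁻¹ * (a * n) ^ m ∈ N := by
    intro m
    induction m with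
    | zero => simp
    | succ m ih =>
      have h1 : a⁻¹ * ((a ^ m)⁻¹ * (a * n) ^ m) * a ∈ N :=
        (mem_normalizer_iff''.1 (hn ha) _).1 ih
      have e : (a ^ (m + 1))⁻¹ * (a * n) ^ (m + 1) =
          a⁻¹ * ((a ^ m)⁻¹ * (a * n) ^ m) * a * n := by
        rw [pow_succ a m, pow_succ (a * n) m]; group
      rw [e]
      exact N.mul_mem h1 hn'
  simpa [hak] using key (p ^ k)

theorem resOf_le_of_le_sup {L N P : Subgroup G} (hn : P ≤ normalizer (N : Set G))
    (hP : IsPGroup p P) (h : resOf p L ≤ P ⊔ N) : resOf p L ≤ N :=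
  resOf_le_iff.2 fun _ hx hc =>
    (exists_pow_mem_of_mem_sup hn hP (h (mem_resOf hx hc))).elim fun _ hk => mem_of_pow_mem hc hk

theorem pResidual_le_of_le_sup {N P : Subgroup G} (hn : P ≤ normalizer (N : Set G))
    (hP : IsPGroup p P) (h : pResidual p G ≤ P ⊔ N) : pResidual p G ≤ N := by
  rw [← resOf_top] at h ⊢
  exact resOf_le_of_le_sup hn hP h

theorem isPClosed_normal_iff [Finite G] [Fact p.Prime] {N : Subgroup G} (hN : N.Normal) :
    IsPClosed p ↥N ↔ ∀ P : Subgroup G, P ≤ N → IsPGroup p P → P ≤ pCore p G := by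
  refine ⟨fun h P hPN hP => le_pCore_of_isPClosed hN h hPN hP, fun h => ?_⟩
  rw [isPClosed_sub_iff]
  intro P hPN hP
  refine (le_inf ?_ hPN).trans (pCoreOf_inf_le (le_top : N ≤ ⊤))
  rw [pCoreOf_top]
  exact h P hPN hP

/-- The `p`-core of a subnormal subgroup lies in the `p`-core. -/
theorem pCoreOf_le_of_isSubnormal [Finite G] {K : Subgroup G} (hK : K.IsSubnormal) :
    pCoreOf p K ≤ pCore p G := by
  induction hK with
  | top => exact pCoreOf_top.le
  | step H K hle _ hN ih =>
    have hn := (normal_subgroupOf_iff_le_normalizer hle).1 hN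
    exact (le_pCoreOf ((pCoreOf_le p H).trans hle)
      (hn.trans (normalizer_le_normalizer_pCoreOf H)) (isPGroup_pCoreOf p H)).trans ih

theorem le_pCore_of_isSubnormal [Finite G] {A : Subgroup G} (hA : A.IsSubnormal)
    (hp : IsPGroup p A) : A ≤ pCore p G :=
  (le_pCoreOf le_rfl A.le_normalizer hp).trans (pCoreOf_le_of_isSubnormal hA)

end Cfsg.Agent.LocalStructure
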