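import Cfsg.Agent.Lib.LocalStructure.Basic
import Cfsg.Agent.Lib.PSL2.SL23Relations

/-!
A self-centralizing `2`-core with a cyclic subgroup of index at most two, not the four-group, in a
group which is not a `2`-group: the core is quaternion of order eight and there is a normal `SL(2,3)`.
-/

set_option autoImplicit false

namespace Cfsg.Agent.LocalStructure

open Subgroup

variable {G : Type*} [Group G] [Finite G]

omit [Finite G] in
theorem exists_orderOf_two_pow {F : Subgroup G} (hF : IsPGroup 2 F) {x : G} (hx : x ∈ F) :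
    ∃ m : ℕ, orderOf x = 2 ^ m := by
  obtain ⟨m, hm⟩ := IsPGroup.iff_orderOf.mp hF ⟨x, hx⟩
  exact ⟨m, by rwa [Subgroup.orderOf_mk] at hm⟩

omit [Finite G] in
/-- An element of odd order normalising a cyclic `2`-group centralises it. -/
theorem commute_of_odd_of_normalize {e : G} (he : (orderOf e).Coprime 2) :
    ∀ (m : ℕ) (x : G), orderOf x = 2 ^ m → e * x * e⁻¹ ∈ zpowers x → Commute e x := by
  intro m
  induction m with
  | zero =>
    intro x hx _
    have h1 : x = 1 := orderOf_eq_one_iff.mp (by simpa using hx)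
    rw [h1]
    exact Commute.one_right e
  | succ m ih =>
    intro x hx hn
    obtain ⟨i, hi⟩ := mem_zpowers_iff.mp hn
    have h2 : orderOf (x ^ 2) = 2 ^ m := by
      rw [orderOf_pow' x two_ne_zero, hx, pow_succ, Nat.gcd_mul_left_left]
      simp
    have hc : Commute e (x ^ 2) := ih _ h2 (mem_zpowers_iff.mpr
      ⟨i, by rw [← conj_pow, ← hi, ← zpow_natCast x 2, ← zpow_natCast (x ^ i) 2, ← zpow_mul, ← zpow_mul, mul_comm]⟩)
    have hsq : ∀ j : ℤ, x ^ (2 * j) = (x ^ 2) ^ j := fun j => by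
      rw [← zpow_natCast x 2, ← zpow_mul]; rfl
    rcases Int.even_or_odd i with ⟨j, hj⟩ | ⟨j, hj⟩
    · exfalso
      rw [← two_mul] at hj
      subst hj
      have h3 : e * x ^ (2 * j) * e⁻¹ = x ^ (2 * j) := by
        rw [hsq, (hc.zpow_right j).eq, mul_inv_cancel_right]
      have h4 : x = x ^ (2 * j) := by
        have h5 : e * x * e⁻¹ = e * x ^ (2 * j) * e⁻¹ := by rw [h3, hi]
        exact mul_left_cancel (mul_right_cancel h5)
      have h5 : x ^ (1 - 2 * j) = 1 := by rw [zpow_sub, zpow_one, ← h4, mul_inv_cancel]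
      have h6 : ((2 ^ (m + 1) : ℕ) : ℤ) ∣ 1 - 2 * j := hx ▸ orderOf_dvd_iff_zpow_eq_one.mpr h5
      have h7 : (2 : ℤ) ∣ 1 - 2 * j :=
        dvd_trans (by rw [pow_succ]; push_cast; exact dvd_mul_left _ _) h6
      omega
    · refine commute_of_stabilize (W := zpowers (x ^ 2)) (IsPGroup.of_card (n := m) ?_) he
        (fun w hw => ?_) (mem_zpowers_iff.mpr ⟨j, ?_⟩)
      · rw [Nat.card_zpowers, h2]
      · obtain ⟨k, rfl⟩ := mem_zpowers_iff.mp hw
        exact hc.zpow_right k
      · rw [commutatorElement_def, ← hi, ← hsq, hj, zpow_add, zpow_one, mul_inv_cancel_right]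

theorem mul_mem_iff_of_card_two {A F : Subgroup G} (hA : A ≤ F) (h2 : Nat.card F = 2 * Nat.card A)
    {a b : G} (ha : a ∈ F) (hb : b ∈ F) : a * b ∈ A ↔ (a ∈ A ↔ b ∈ A) := by
  have hi : (A.subgroupOf F).index = 2 := by
    have h := (A.subgroupOf F).card_mul_index
    rw [Nat.card_congr (Subgroup.subgroupOfEquivOfLe hA).toEquiv, h2, mul_comm 2] at h
    exact Nat.eq_of_mul_eq_mul_left Nat.card_pos h
  exact Subgroup.mul_mem_iff_of_index_two hi (a := ⟨a, ha⟩) (b := ⟨b, hb⟩)

/-- An element of odd order cannot normalise a cyclic subgroup of index at most two of a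
self-centralising normal `2`-subgroup. -/
theorem eq_one_of_odd_of_normalize {F : Subgroup G} (hFn : F.Normal) (hF : IsPGroup 2 F)
    (hC : centralizer (F : Set G) ≤ F) {x : G} (hx : x ∈ F)
    (hcard : Nat.card F = orderOf x ∨ Nat.card F = 2 * orderOf x) {e : G}
    (he : (orderOf e).Coprime 2) (hn : e * x * e⁻¹ ∈ zpowers x) : e = 1 := by
  obtain ⟨m, hm⟩ := exists_orderOf_two_pow hF hx
  have hc : Commute e x := commute_of_odd_of_normalize he m x hm hn
  have hAF : zpowers x ≤ F := zpowers_le.mpr hx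
  have hpg : IsPGroup 2 (zpowers x) := IsPGroup.of_card (n := m) (by rw [Nat.card_zpowers, hm])
  have hcA : ∀ w ∈ zpowers x, Commute e w := by
    intro w hw
    obtain ⟨k, rfl⟩ := mem_zpowers_iff.mp hw
    exact hc.zpow_right k
  have hfix : ∀ f ∈ F, Commute e f := by
    intro f hf
    by_cases hfA : f ∈ zpowers x
    · exact hcA f hfA
    rcases hcard with h1 | h2
    · exact absurd ((Subgroup.eq_of_le_of_card_ge hAF (by rw [h1, Nat.card_zpowers])).symm ▸ hf) hfA
    · refine commute_of_stabilize hpg he hcA ?_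
      have h3 : e * f * e⁻¹ ∉ zpowers x := fun h => hfA (by
        have h4 := (hcA _ h).eq
        have h5 : f = e * f * e⁻¹ := by
          calc f = e⁻¹ * (e * f * e⁻¹ * e) := by group
            _ = e⁻¹ * (e * (e * f * e⁻¹)) := by rw [h4]
            _ = e * f * e⁻¹ := by group
        rwa [← h5] at h)
      rw [commutatorElement_def]
      exact (mul_mem_iff_of_card_two hAF (by rw [h2, Nat.card_zpowers]) (hFn.conj_mem f hf e)
        (F.inv_mem hf)).mpr (iff_of_false h3 (mt (zpowers x).inv_mem_iff.mp hfA))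
  exact eq_one_of_isPGroup hF
    (hC (mem_centralizer_iff.mpr fun f hf => (hfix f hf).eq.symm)) he

/-- The core structure: `F` is quaternion of order eight and `d` of order three permutes `x, y, xy`. -/
theorem exists_quaternion_data {F : Subgroup G} (hFn : F.Normal) (hF : IsPGroup 2 F)
    (hC : centralizer (F : Set G) ≤ F) {x₀ : G} (hx₀ : x₀ ∈ F)
    (hcard : Nat.card F = orderOf x₀ ∨ Nat.card F = 2 * orderOf x₀) (h4 : Nat.card F ≠ 4)
    {d : G} (hd : (orderOf d).Coprime 2) (hd1 : d ≠ 1) :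
    ∃ x y : G, x ∈ F ∧ y ∈ F ∧ Nat.card F = 8 ∧ orderOf x = 4 ∧ y ∉ zpowers x ∧ y * y = x * x ∧
      y * x = x ^ 3 * y ∧ d * x = y * d ∧ d * y = x * y * d ∧ d ^ 3 = 1 := by
  have key : ∀ {x : G}, x ∈ F → orderOf x = orderOf x₀ → ∀ {e : G}, (orderOf e).Coprime 2 →
      e * x * e⁻¹ ∈ zpowers x → e = 1 := fun hx ho e he hn =>
    eq_one_of_odd_of_normalize hFn hF hC hx (ho ▸ hcard) he hn
  have hord : ∀ (u g : G), orderOf (g * u * g⁻¹) = orderOf u := fun u g => by
    rw [← MulAut.conj_apply, MulEquiv.orderOf_eq]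
  set x := x₀
  set y := d * x * d⁻¹ with hy
  set w := d * y * d⁻¹ with hw
  have hx : x ∈ F := hx₀
  have hyF : y ∈ F := hFn.conj_mem x hx d
  have hwF : w ∈ F := hFn.conj_mem y hyF d
  have hyA : y ∉ zpowers x := fun h => hd1 (key hx rfl hd h)
  have h2 : Nat.card F = 2 * orderOf x := by
    refine hcard.resolve_left fun h => hyA ?_
    rw [Subgroup.eq_of_le_of_card_ge (zpowers_le.mpr hx) (by rw [h, Nat.card_zpowers])]
    exact hyF
  have hoy : orderOf y = orderOf x := hord x d
  have how : orderOf w = orderOf x := (hord y d).trans hoy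
  have hwA : w ∉ zpowers x := by
    intro h
    have hd2 : (orderOf (d ^ 2)).Coprime 2 := hd.coprime_dvd_left (orderOf_pow_dvd 2)
    have h' := key hx rfl hd2 (by
      have e1 : d ^ 2 * x * (d ^ 2)⁻¹ = w := by rw [hw, hy, sq]; group
      rwa [e1])
    refine hd1 (orderOf_eq_one_iff.mp ?_)
    exact Nat.eq_one_of_dvd_coprimes hd dvd_rfl (orderOf_dvd_of_pow_eq_one h')
  have hwB : w ∉ zpowers y := fun h => hd1 (key hyF hoy hd h)
  have hAle : zpowers x ≤ F := zpowers_le.mpr hx
  have hBle : zpowers y ≤ F := zpowers_le.mpr hyF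
  have hA2 : Nat.card F = 2 * Nat.card (zpowers x) := by rw [Nat.card_zpowers, h2]
  have hB2 : Nat.card F = 2 * Nat.card (zpowers y) := by rw [Nat.card_zpowers, hoy, h2]
  have iA : ∀ {a b : G}, a ∈ F → b ∈ F → (a * b ∈ zpowers x ↔ (a ∈ zpowers x ↔ b ∈ zpowers x)) :=
    fun ha hb => mul_mem_iff_of_card_two hAle hA2 ha hb
  have iB : ∀ {a b : G}, a ∈ F → b ∈ F → (a * b ∈ zpowers y ↔ (a ∈ zpowers y ↔ b ∈ zpowers y)) :=
    fun ha hb => mul_mem_iff_of_card_two hBle hB2 ha hb
  have hxA : x ∈ zpowers x := mem_zpowers x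
  have hyB : y ∈ zpowers y := mem_zpowers y
  have hxB : x ∉ zpowers y := fun h => hyA (by
    rw [Subgroup.eq_of_le_of_card_ge (zpowers_le.mpr h) (by rw [Nat.card_zpowers, Nat.card_zpowers, hoy])]
    exact hyB)
  have hx2B : x ^ 2 ∈ zpowers y := by rw [sq]; exact (iB hx hx).mpr Iff.rfl
  have hy2A : y ^ 2 ∈ zpowers x := by rw [sq]; exact (iA hyF hyF).mpr Iff.rfl
  -- the intersection is generated by `x ^ 2`
  have hD : ∀ u, u ∈ zpowers x → u ∈ zpowers y → ∃ k : ℤ, u = (x ^ 2) ^ k := by
    intro u hu hu'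
    obtain ⟨i, rfl⟩ := mem_zpowers_iff.mp hu
    have hsq : ∀ j : ℤ, x ^ (2 * j) = (x ^ 2) ^ j := fun j => by
      rw [← zpow_natCast x 2, ← zpow_mul]; rfl
    rcases Int.even_or_odd i with ⟨j, hj⟩ | ⟨j, hj⟩
    · exact ⟨j, by rw [hj, ← two_mul, hsq]⟩
    · exfalso
      rw [hj, zpow_add, zpow_one, hsq] at hu'
      exact hxB (((zpowers y).mul_mem_cancel_left ((zpowers y).zpow_mem hx2B j)).mp hu')
  -- `x ^ 2` is fixed by `d`
  obtain ⟨n, hn⟩ := exists_orderOf_two_pow hF (F.pow_mem hx 2)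
  have hy2B : y ^ 2 ∈ zpowers y := (zpowers y).pow_mem hyB 2
  have hdg : Commute d (x ^ 2) := commute_of_odd_of_normalize hd n _ hn (by
    rw [← conj_pow, ← hy]
    obtain ⟨k, hk⟩ := hD _ hy2A hy2B
    exact mem_zpowers_iff.mpr ⟨k, hk.symm⟩)
  have hyg : y ^ 2 = x ^ 2 := by rw [hy, conj_pow, hdg.eq, mul_inv_cancel_right]
  have hwg : w ^ 2 = x ^ 2 := by rw [hw, conj_pow, hyg, hdg.eq, mul_inv_cancel_right]
  have hgx : Commute x (x ^ 2) := Commute.self_pow x 2
  have hgy : Commute y (x ^ 2) := hyg ▸ Commute.self_pow y 2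
  -- the commutator of `x` and `y`
  set z := y * x * y⁻¹ * x⁻¹ with hz
  have hyi : y⁻¹ ∈ F := F.inv_mem hyF
  have hyiA : y⁻¹ ∉ zpowers x := mt (zpowers x).inv_mem_iff.mp hyA
  have hxiB : x⁻¹ ∉ zpowers y := mt (zpowers y).inv_mem_iff.mp hxB
  have hzA : z ∈ zpowers x := by
    refine (zpowers x).mul_mem ?_ ((zpowers x).inv_mem hxA)
    exact (iA (F.mul_mem hyF hx) hyi).mpr
      (iff_of_false (fun h => hyA (((zpowers x).mul_mem_cancel_right hxA).mp h)) hyiA)
  have hzB : z ∈ zpowers y := by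
    rw [hz, mul_assoc, mul_assoc, ← mul_assoc x]
    refine (zpowers y).mul_mem hyB ?_
    exact (iB (F.mul_mem hx hyi) (F.inv_mem hx)).mpr
      (iff_of_false (fun h => hxB (((zpowers y).mul_mem_cancel_right ((zpowers y).inv_mem hyB)).mp h)) hxiB)
  obtain ⟨l, hl⟩ := hD z hzA hzB
  have hzx : Commute z x := hl ▸ (hgx.symm.zpow_left l)
  have hyx : y * x = z * x * y := by rw [hz]; group
  have hzy : Commute z y := hl ▸ (hgy.symm.zpow_left l)
  have hz2 : z ^ 2 = 1 := by
    have h5 : (y * x * y⁻¹) ^ 2 = x ^ 2 := by rw [conj_pow, hgy.eq, mul_inv_cancel_right]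
    rw [show y * x * y⁻¹ = z * x by rw [hz]; group, hzx.mul_pow] at h5
    exact mul_eq_right.mp h5
  -- `w = x y c`
  set c := (x * y)⁻¹ * w with hc
  have hxyA : x * y ∉ zpowers x := fun h => hyA (((zpowers x).mul_mem_cancel_left hxA).mp h)
  have hxyB : x * y ∉ zpowers y := fun h => hxB (((zpowers y).mul_mem_cancel_right hyB).mp h)
  have hcA : c ∈ zpowers x := (iA (F.inv_mem (F.mul_mem hx hyF)) hwF).mpr
    (iff_of_false (mt (zpowers x).inv_mem_iff.mp hxyA) hwA)
  have hcB : c ∈ zpowers y := (iB (F.inv_mem (F.mul_mem hx hyF)) hwF).mpr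
    (iff_of_false (mt (zpowers y).inv_mem_iff.mp hxyB) hwB)
  obtain ⟨k, hk⟩ := hD c hcA hcB
  have hwc : w = x * y * c := by rw [hc]; group
  have hcx : Commute c x := hk ▸ (hgx.symm.zpow_left k)
  have hcy : Commute c y := hk ▸ (hgy.symm.zpow_left k)
  have hmain : z * x ^ 2 * c ^ 2 = 1 := by
    have h5 : (x * y) ^ 2 = z * x ^ 2 * x ^ 2 := by
      calc (x * y) ^ 2 = x * (y * x) * y := by rw [sq]; group
        _ = x * (z * x * y) * y := by rw [hyx]
        _ = (x * z) * x * y ^ 2 := by rw [sq]; group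
        _ = (z * x) * x * x ^ 2 := by rw [hzx.eq, hyg]
        _ = z * x ^ 2 * x ^ 2 := by rw [sq]; group
    have h6 : w ^ 2 = z * x ^ 2 * x ^ 2 * c ^ 2 := by
      rw [hwc, Commute.mul_pow (hcx.mul_right hcy).symm, h5]
    rw [hwg] at h6
    have hzg : Commute (z * x ^ 2) (x ^ 2) := (hzx.pow_right 2).mul_left (Commute.refl _)
    rw [hzg.eq, mul_assoc] at h6
    exact mul_eq_left.mp h6.symm
  -- `x ^ 2` is an involution
  have hg2 : (x ^ 2) ^ 2 = 1 := by
    have h5 : z = (x ^ 2) ^ (-(1 + 2 * k)) := by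
      have e1 : x ^ 2 * c ^ 2 = (x ^ 2) ^ (1 + 2 * k) := by
        rw [hk, zpow_add, zpow_one, ← zpow_natCast ((x ^ 2) ^ k) 2, ← zpow_mul, mul_comm k]; rfl
      rw [mul_assoc, e1] at hmain
      rw [zpow_neg]
      exact eq_inv_of_mul_eq_one_left hmain
    rw [h5, ← zpow_natCast _ 2, ← zpow_mul] at hz2
    have h6 := orderOf_dvd_iff_zpow_eq_one.mpr hz2
    rw [← orderOf_dvd_iff_pow_eq_one]
    have h7 : IsCoprime ((orderOf (x ^ 2) : ℕ) : ℤ) (-(1 + 2 * k)) := by
      rw [hn]; push_cast
      exact IsCoprime.pow_left ⟨-k, -1, by ring⟩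
    exact Int.natCast_dvd_natCast.mp (h7.dvd_of_dvd_mul_left h6)
  have hne : x ^ 2 ≠ 1 := by
    intro h
    obtain ⟨j, hj⟩ := exists_orderOf_two_pow hF hx
    have h5 : orderOf x ≤ 2 := Nat.le_of_dvd two_pos (orderOf_dvd_of_pow_eq_one h)
    rcases (show orderOf x = 1 ∨ orderOf x = 2 by have := orderOf_pos x; omega) with h6 | h6
    · exact hyA (orderOf_eq_one_iff.mp (hoy.trans h6) ▸ one_mem _)
    · exact h4 (by rw [h2, h6])
  have hox : orderOf x = 4 := by
    have h4' : x ^ 4 = 1 := by rw [show 4 = 2 * 2 from rfl, pow_mul, hg2]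
    exact orderOf_eq_prime_pow (p := 2) (n := 1) (by simpa using hne) (by simpa using h4')
  have hc2 : c ^ 2 = 1 := by
    rw [hk, ← zpow_natCast _ 2, ← zpow_mul, mul_comm, zpow_mul, zpow_natCast, hg2, one_zpow]
  have hzeq : z = x ^ 2 := by
    rw [hc2, mul_one] at hmain
    rw [eq_inv_of_mul_eq_one_left hmain]
    exact inv_eq_of_mul_eq_one_left (by rw [← sq, hg2])
  have hyx' : y * x = x ^ 3 * y := by rw [hyx, hzeq, ← pow_succ]
  -- replace `x` by `x * c`
  have hdc : Commute d c := hk ▸ hdg.zpow_right k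
  have hcc : c * c = 1 := by rw [← sq, hc2]
  have hdx : d * x = y * d := by rw [hy]; group
  have hdy : d * y = w * d := by rw [hw]; group
  refine ⟨x * c, y * c, F.mul_mem hx (hAle hcA), F.mul_mem hyF (hAle hcA), ?_, ?_, ?_, ?_, ?_, ?_, ?_, ?_⟩
  · rw [h2, hox]
  · refine orderOf_eq_prime_pow (p := 2) (n := 1) ?_ ?_
    · rw [pow_one, hcx.symm.mul_pow, hc2, mul_one]; exact hne
    · show (x * c) ^ 4 = 1
      rw [show 4 = 2 * 2 from rfl, pow_mul, hcx.symm.mul_pow, hc2, mul_one, hg2]
  · intro h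
    have h5 : y * c ∈ zpowers x := zpowers_le.mpr ((zpowers x).mul_mem hxA hcA) h
    exact hyA (((zpowers x).mul_mem_cancel_right hcA).mp h5)
  · rw [← sq, ← sq, hcy.symm.mul_pow, hcx.symm.mul_pow, hc2, hyg]
  · calc y * c * (x * c) = y * (c * x) * c := by group
      _ = y * x * (c * c) := by rw [hcx.eq]; group
      _ = x ^ 3 * y * (c * c) := by rw [hyx']
      _ = x ^ 3 * (y * c) * c := by group
      _ = x ^ 3 * (c * y) * c := by rw [hcy.eq]
      _ = (x * c) ^ 3 * (y * c) := by
        rw [hcx.symm.mul_pow, show c ^ 3 = c * c * c from by rw [pow_succ, sq], hcc, one_mul]; group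
  · rw [← mul_assoc, hdx, mul_assoc y d, hdc.eq]; group
  · calc d * (y * c) = w * d * c := by rw [← mul_assoc, hdy]
      _ = x * y * c * (c * d) := by rw [mul_assoc w, hdc.eq, hwc]
      _ = x * y * (c * c) * d := by group
      _ = x * c * (y * c) * d := by
        rw [show x * c * (y * c) = x * (c * y) * c by group, hcy.eq]; group
  · -- `d ^ 3` centralises `F`
    have h5 : d * w = x * d := by
      have e1 : y * w = x * c := by
        calc y * w = y * x * y * c := by rw [hwc]; group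
          _ = x ^ 3 * (y * y) * c := by rw [hyx']; group
          _ = x * (x ^ 2) ^ 2 * c := by rw [← sq y, hyg]; group
          _ = x * c := by rw [hg2, mul_one]
      rw [hwc]
      calc d * (x * y * c) = (d * x) * y * c := by group
        _ = y * (d * y) * c := by rw [hdx]; group
        _ = y * w * (d * c) := by rw [hdy]; group
        _ = x * (c * c) * d := by rw [e1, hdc.eq]; group
        _ = x * d := by rw [hcc, mul_one]
    have h3x : d ^ 3 * x * (d ^ 3)⁻¹ = x := by
      calc d ^ 3 * x * (d ^ 3)⁻¹ = d * (d * (d * x)) * (d ^ 3)⁻¹ := by simp only [pow_succ, pow_zero, one_mul, mul_assoc]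
        _ = d * (w * d * d) * (d ^ 3)⁻¹ := by rw [hdx, ← mul_assoc d y, hdy]
        _ = x := by rw [← mul_assoc d, ← mul_assoc d, h5]; group
    refine key hx rfl (hd.coprime_dvd_left (orderOf_pow_dvd 3)) ?_
    rw [h3x]
    exact hxA

/-- `G` has a normal `SL(2,3)`. -/
theorem exists_normal_SL23 {x₀ : G} (hx₀ : x₀ ∈ Cfsg.pCore 2 G)
    (hC : centralizer ((Cfsg.pCore 2 G : Subgroup G) : Set G) ≤ Cfsg.pCore 2 G)
    (hcard : Nat.card (Cfsg.pCore 2 G) = orderOf x₀ ∨ Nat.card (Cfsg.pCore 2 G) = 2 * orderOf x₀)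
    (h4 : Nat.card (Cfsg.pCore 2 G) ≠ 4) {d : G} (hd : (orderOf d).Coprime 2) (hd1 : d ≠ 1) :
    ∃ U : Subgroup G, U.Normal ∧
      Nonempty (U ≃* Matrix.SpecialLinearGroup (Fin 2) (ZMod 3)) := by
  have : Fact (Nat.Prime 2) := ⟨Nat.prime_two⟩
  set F := Cfsg.pCore 2 G with hFdef
  have hFn : F.Normal := pCore_normal 2 G
  have hF : IsPGroup 2 F := isPGroup_pCore 2
  obtain ⟨x, y, hx, hyF, h8, hox, hyA, hyy, hyx, hdx, hdy, hd3⟩ :=
    exists_quaternion_data hFn hF hC hx₀ hcard h4 hd hd1
  have hod : orderOf d = 3 := (Nat.prime_three.eq_one_or_self_of_dvd _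
    (orderOf_dvd_of_pow_eq_one hd3)).resolve_left (mt orderOf_eq_one_iff.mp hd1)
  have hx4 : x ^ 4 = 1 := hox ▸ pow_orderOf_eq_one x
  -- every element of `F`
  have hAle : zpowers x ≤ F := zpowers_le.mpr hx
  have hform : ∀ f ∈ F, f ∈ zpowers x ∨ ∃ i : ℤ, f = y * x ^ i := by
    intro f hf
    by_cases hfA : f ∈ zpowers x
    · exact Or.inl hfA
    refine Or.inr ?_
    have h5 : y⁻¹ * f ∈ zpowers x := (mul_mem_iff_of_card_two hAle
      (by rw [h8, Nat.card_zpowers, hox]) (F.inv_mem hyF) hf).mpr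
      (iff_of_false (mt (zpowers x).inv_mem_iff.mp hyA) hfA)
    obtain ⟨i, hi⟩ := mem_zpowers_iff.mp h5
    exact ⟨i, by rw [hi, mul_inv_cancel_left]⟩
  set U := F ⊔ zpowers d with hU
  have hcl : U = closure ({x, y, d} : Set G) := by
    refine le_antisymm (sup_le (fun f hf => ?_) (zpowers_le.mpr (subset_closure (by simp))))
      (closure_le _ |>.mpr ?_)
    · have hxc : x ∈ closure ({x, y, d} : Set G) := subset_closure (by simp)
      rcases hform f hf with h | ⟨i, rfl⟩
      · exact zpowers_le.mpr hxc h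
      · exact mul_mem (subset_closure (by simp)) (zpow_mem hxc i)
    · rintro u (rfl | rfl | rfl)
      · exact le_sup_left (a := F) hx
      · exact le_sup_left (a := F) hyF
      · exact le_sup_right (a := F) (mem_zpowers u)
  have hUcard : Nat.card U = 24 := by
    have hdF : F ⊓ zpowers d = ⊥ := by
      refine eq_bot_iff.mpr fun u hu => Subgroup.mem_bot.mpr ?_
      exact eq_one_of_isPGroup hF hu.1 (hd.coprime_dvd_left
        (orderOf_dvd_of_mem_zpowers hu.2))
    have h5 : F.relIndex (zpowers d) = 3 := by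
      rw [← inf_relIndex_right, hdF, relIndex_bot_left, Nat.card_zpowers, hod]
    have h6 := relIndex_mul_relIndex ⊥ F U bot_le le_sup_left
    have := hFn
    rw [relIndex_bot_left, relIndex_bot_left, hU, sup_comm, relIndex_sup_right, h5, h8] at h6
    rw [hU, sup_comm]
    exact h6.symm
  refine ⟨U, ?_, ?_⟩
  · -- at most six cosets of `F`
    have hy' : y = d * x * d⁻¹ := by rw [hdx]; group
    have hxy : x * y = d * y * d⁻¹ := by rw [hdy]; group
    have hord : ∀ (u g : G), orderOf (g * u * g⁻¹) = orderOf u := fun u g => by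
      rw [← MulAut.conj_apply, MulEquiv.orderOf_eq]
    have hoy : orderOf y = 4 := by rw [hy', hord, hox]
    have hoxy : orderOf (x * y) = 4 := by rw [hxy, hord, hoy]
    let s : Fin 3 → G := ![x, y, x * y]
    have hso : ∀ i, orderOf (s i) = 4 := by
      intro i; fin_cases i
      · exact hox
      · exact hoy
      · exact hoxy
    have hsq : ∀ j : ℤ, x ^ (2 * j) = (x ^ 2) ^ j := fun j => by
      rw [← zpow_natCast x 2, ← zpow_mul]; rfl
    have hxyA : x * y ∉ zpowers x := fun h =>
      hyA (((zpowers x).mul_mem_cancel_left (mem_zpowers x)).mp h)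
    have hgen : ∀ {a b : G}, orderOf a = 4 → orderOf b = 4 → a ∈ zpowers b → zpowers a = zpowers b :=
      fun ha hb h => Subgroup.eq_of_le_of_card_ge (zpowers_le.mpr h)
        (by rw [Nat.card_zpowers, Nat.card_zpowers, ha, hb])
    have hxyB : x * y ∉ zpowers y := fun h => hyA (by
      rw [hgen hox hoy (((zpowers y).mul_mem_cancel_right (mem_zpowers y)).mp h)]
      exact mem_zpowers y)
    have hsinj : ∀ i j, zpowers (s i) = zpowers (s j) → i = j := by
      have n1 : zpowers x ≠ zpowers y := fun h => hyA (h ▸ mem_zpowers y)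
      have n2 : zpowers x ≠ zpowers (x * y) := fun h => hxyA (h ▸ mem_zpowers _)
      have n3 : zpowers y ≠ zpowers (x * y) := fun h => hxyB (h ▸ mem_zpowers _)
      intro i j h
      fin_cases i <;> fin_cases j <;> first
        | rfl
        | exact absurd h n1
        | exact absurd h n1.symm
        | exact absurd h n2
        | exact absurd h n2.symm
        | exact absurd h n3
        | exact absurd h n3.symm
    have hcls : ∀ h ∈ F, orderOf h = 4 → ∃ i, zpowers h = zpowers (s i) := by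
      intro h hh ho
      rcases hform h hh with h5 | ⟨i, rfl⟩
      · exact ⟨0, hgen ho hox h5⟩
      have hx2y : x ^ 2 ∈ zpowers y := by rw [sq, ← hyy]; exact mul_mem (mem_zpowers y) (mem_zpowers y)
      have hx2c : x ^ 2 ∈ zpowers (x * y) := by
        have e1 : (x * y) ^ 2 = x ^ 2 := by
          calc (x * y) ^ 2 = x * (y * x) * y := by rw [sq]; group
            _ = x ^ 4 * (y * y) := by rw [hyx]; group
            _ = x ^ 2 := by rw [hx4, one_mul, hyy, sq]
        exact e1 ▸ pow_mem (mem_zpowers _) 2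
      rcases Int.even_or_odd i with ⟨j, hj⟩ | ⟨j, hj⟩
      · refine ⟨1, hgen ho hoy ?_⟩
        show y * x ^ i ∈ zpowers y
        rw [hj, ← two_mul, hsq]
        exact mul_mem (mem_zpowers y) (zpow_mem hx2y j)
      · refine ⟨2, hgen ho hoxy ?_⟩
        show y * x ^ i ∈ zpowers (x * y)
        have e1 : y * x ^ i = x ^ 2 * (x * y) * (x ^ 2) ^ j := by
          rw [hj, add_comm, zpow_add, zpow_one, hsq, ← mul_assoc, hyx, ← mul_assoc (x ^ 2), ← pow_succ]
        rw [e1]
        exact mul_mem (mul_mem hx2c (mem_zpowers _)) (zpow_mem hx2c j)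
    have hsF : ∀ i, s i ∈ F := by
      intro i; fin_cases i
      · exact hx
      · exact hyF
      · exact mul_mem hx hyF
    have hall : ∀ g i, ∃ j, zpowers (g * s i * g⁻¹) = zpowers (s j) := fun g i =>
      hcls _ (hFn.conj_mem _ (hsF i) g) (by rw [hord, hso])
    choose π hπ using hall
    have hcomp : ∀ g h i, π (g * h) i = π g (π h i) := by
      intro g h i
      refine hsinj _ _ ?_
      rw [← hπ, ← hπ]
      refine hgen (by rw [hord, hso]) (by rw [hord, hso]) ?_
      obtain ⟨n, hn⟩ := mem_zpowers_iff.mp (hπ h i ▸ mem_zpowers (h * s i * h⁻¹))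
      exact mem_zpowers_iff.mpr ⟨n, by rw [conj_zpow, hn]; group⟩
    have hone : ∀ i, π 1 i = i := fun i => hsinj _ _ (by rw [← hπ]; group)
    have hinj : ∀ g, Function.Injective (π g) := by
      intro g i j h
      have := congrArg (π g⁻¹) h
      rwa [← hcomp, ← hcomp, inv_mul_cancel, hone, hone] at this
    -- the kernel lies in `F`
    have hker : ∀ k, (∀ i, π k i = i) → k ∈ F := by
      let N : Subgroup G :=
        { carrier := {k | ∀ i, π k i = i}
          one_mem' := hone
          mul_mem' := fun {a b} ha hb i => by rw [hcomp, hb, ha]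
          inv_mem' := fun {a} ha i => by
            conv_lhs => rw [← ha i, ← hcomp, inv_mul_cancel, hone] }
      have hNn : N.Normal := ⟨fun k hk g i => by
        rw [hcomp, hcomp, hk, ← hcomp, mul_inv_cancel, hone]⟩
      have hN2 : IsPGroup 2 N := by
        refine isPGroup_of_forall_coprime fun k hk hc => ?_
        refine eq_one_of_odd_of_normalize hFn hF hC hx (Or.inr (by rw [h8, hox])) hc ?_
        have := hπ k 0
        rw [hk 0] at this
        exact this ▸ mem_zpowers _
      exact fun k hk => le_pCore hNn hN2 hk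
    let Φ : G ⧸ F → {p : Fin 3 × Fin 3 // p.1 ≠ p.2} := fun q =>
      ⟨(π q.out 0, π q.out 1), fun h => absurd (hinj _ h) (by decide)⟩
    have hΦ : Function.Injective Φ := by
      intro q r h
      have h0 : π q.out 0 = π r.out 0 := congrArg (fun p => p.1.1) h
      have h1 : π q.out 1 = π r.out 1 := congrArg (fun p => p.1.2) h
      have hall2 : ∀ i, π q.out i = π r.out i := by
        have n01 : π q.out 0 ≠ π q.out 1 := (hinj _).ne (by decide)
        have n20 : π q.out 2 ≠ π q.out 0 := (hinj _).ne (by decide)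
        have n21 : π q.out 2 ≠ π q.out 1 := (hinj _).ne (by decide)
        have m20 : π r.out 2 ≠ π q.out 0 := h0 ▸ (hinj _).ne (by decide)
        have m21 : π r.out 2 ≠ π q.out 1 := h1 ▸ (hinj _).ne (by decide)
        intro i; fin_cases i
        · exact h0
        · exact h1
        · have key : ∀ a b c e : Fin 3, a ≠ b → c ≠ a → c ≠ b → e ≠ a → e ≠ b → c = e := by decide
          exact key _ _ _ _ n01 n20 n21 m20 m21
      have hmem : q.out⁻¹ * r.out ∈ F := hker _ fun i => by
        rw [hcomp, ← hall2, ← hcomp, inv_mul_cancel, hone]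
      have h7 := QuotientGroup.eq.mpr hmem
      rwa [QuotientGroup.out_eq', QuotientGroup.out_eq'] at h7
    have h6 : F.index ≤ 6 := by
      have := Nat.card_le_card_of_injective Φ hΦ
      rw [show Nat.card {p : Fin 3 × Fin 3 // p.1 ≠ p.2} = 6 by rw [Nat.card_eq_fintype_card]; rfl] at this
      exact this
    have hGle : Nat.card G ≤ 48 := by
      rw [← F.card_mul_index, h8]; omega
    have hidx : U.index ≤ 2 := by
      have := U.card_mul_index
      rw [hUcard] at this; omega
    rcases (show U.index = 1 ∨ U.index = 2 by have := U.index_ne_zero_of_finite; omega) with h | h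
    · rw [index_eq_one.mp h]; infer_instance
    · exact normal_of_index_eq_two h
  · have hxU : x ∈ U := le_sup_left (a := F) hx
    have hyU : y ∈ U := le_sup_left (a := F) hyF
    have hdU : d ∈ U := le_sup_right (a := F) (mem_zpowers d)
    refine SL23.nonempty_mulEquiv_SL23 (i := (⟨x, hxU⟩ : U)) (j := ⟨y, hyU⟩) (w := ⟨d, hdU⟩)
      ⟨Subtype.ext hx4, Subtype.ext hyy, Subtype.ext hyx, Subtype.ext hd3, Subtype.ext hdx,
        Subtype.ext hdy⟩ ?_ hUcard
    refine Subgroup.map_injective U.subtype_injective ?_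
    rw [MonoidHom.map_closure, ← MonoidHom.range_eq_map, U.range_subtype]
    refine (congrArg Subgroup.closure ?_).trans hcl.symm
    ext u; simp [eq_comm]

end Cfsg.Agent.LocalStructure
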