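import Cfsg.Agent.Lib.LocalStructure.PClosed
import Cfsg.Agent.Lib.PGroup.ElementaryAbelian

/-! `p`-reduced normal subgroups and `Y_L`, read in the ambient group. -/

set_option autoImplicit false
set_option linter.unusedSectionVars false

open Subgroup
open scoped commutatorElement

namespace Cfsg.Agent.LocalStructure

variable {G : Type*} [Group G] {p : ℕ}

/-- `V` is a `p`-reduced normal subgroup of the subgroup `L`, read in the ambient group. -/
def IsPRedIn (p : ℕ) (V L : Subgroup G) : Prop :=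
  V ≤ L ∧ L ≤ normalizer (V : Set G) ∧ IsElementaryAbelian p V ∧
    ∀ D : Subgroup G, D ≤ L → L ≤ normalizer (D : Set G) →
      (∀ x ∈ D, ∃ k : ℕ, x ^ p ^ k ∈ Subgroup.centralizer (V : Set G)) →
      D ≤ Subgroup.centralizer (V : Set G)

theorem elementaryAbelian_le_centralizer {V : Subgroup G} (h : IsElementaryAbelian p V) :
    V ≤ Subgroup.centralizer (V : Set G) := fun _ hx =>
  Subgroup.mem_centralizer_iff.2 fun _ hy => PGroup.mul_comm_of_elementaryAbelian h hy hx

/-- In `p`-reduced normal form: `V` is `p`-reduced in the whole group. -/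
theorem isPReducedNormal_iff [Finite G] [Fact p.Prime] {V : Subgroup G} :
    IsPReducedNormal p V ↔ IsPRedIn p V ⊤ := by
  constructor
  · rintro ⟨hn, he, hc, hcore⟩
    refine ⟨le_top, le_normalizer_of_normal, he, fun D _ hD hpow => ?_⟩
    set q := QuotientGroup.mk' (Subgroup.centralizer (V : Set G))
    have hDn : D.Normal := normalizer_eq_top_iff.1 (top_unique hD)
    have h1 : D.map q ≤ pCore p _ := by
      refine le_pCore (hDn.map q (QuotientGroup.mk'_surjective _)) ?_
      rintro ⟨_, x, hx, rfl⟩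
      obtain ⟨k, hk⟩ := hpow x hx
      exact ⟨k, Subtype.ext (by
        show q x ^ p ^ k = 1
        rw [← map_pow]
        exact (QuotientGroup.eq_one_iff _).2 hk)⟩
    rw [hcore, Subgroup.map_le_iff_le_comap, MonoidHom.comap_bot, QuotientGroup.ker_mk'] at h1
    exact h1
  · rintro ⟨-, hn, he, hred⟩
    have hVn : V.Normal := normalizer_eq_top_iff.1 (top_unique hn)
    have hC : (Subgroup.centralizer (V : Set G)).Normal :=
      normalizer_eq_top_iff.1 (top_unique (le_normalizer_centralizer hn))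
    refine ⟨hVn, he, hC, ?_⟩
    set q := QuotientGroup.mk' (Subgroup.centralizer (V : Set G))
    set D := (pCore p (G ⧸ Subgroup.centralizer (V : Set G))).comap q with hD
    have hDn : D.Normal := (pCore_normal p _).comap q
    have h1 : D ≤ Subgroup.centralizer (V : Set G) := hred D le_top le_normalizer_of_normal <| by
      intro x hx
      obtain ⟨k, hk⟩ := isPGroup_pCore p ⟨q x, hx⟩
      refine ⟨k, (QuotientGroup.eq_one_iff _).1 ?_⟩
      simpa [Subtype.ext_iff, q] using hk
    have h2 := Subgroup.map_mono (f := q) h1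
    rw [hD, map_comap_eq_self_of_surjective (QuotientGroup.mk'_surjective _),
      QuotientGroup.map_mk'_self] at h2
    exact le_bot_iff.1 h2

theorem mem_centralizer_map_subtype {L : Subgroup G} {V : Subgroup L} {x : L} :
    (x : G) ∈ Subgroup.centralizer ((V.map L.subtype : Subgroup G) : Set G) ↔
      x ∈ Subgroup.centralizer (V : Set L) := by
  rw [Subgroup.mem_centralizer_iff, Subgroup.mem_centralizer_iff]
  constructor
  · exact fun h y hy => Subtype.ext (h _ ⟨y, hy, rfl⟩)
  · rintro h _ ⟨y, hy, rfl⟩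
    exact congrArg Subtype.val (h y hy)

theorem isPRedIn_map_subtype {L : Subgroup G} {V : Subgroup L} :
    IsPRedIn p (V.map L.subtype) L ↔ IsPRedIn p V ⊤ := by
  have hN : L ≤ normalizer ((V.map L.subtype : Subgroup G) : Set G) ↔
      (⊤ : Subgroup L) ≤ normalizer (V : Set L) := by
    rw [← normal_subgroupOf_iff_le_normalizer (Subgroup.map_subtype_le V), top_le_iff,
      normalizer_eq_top_iff]
    show ((V.map L.subtype).comap L.subtype).Normal ↔ _
    rw [comap_map_eq_self_of_injective L.subtype_injective]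
  constructor
  · rintro ⟨-, hn, he, hr⟩
    refine ⟨le_top, hN.1 hn, (PGroup.isElementaryAbelian_map_iff L.subtype_injective).1 he,
      fun D _ hD hpow x hx => ?_⟩
    refine mem_centralizer_map_subtype.1 (hr (D.map L.subtype) (Subgroup.map_subtype_le _) ?_ ?_
      ⟨x, hx, rfl⟩)
    · rw [← normal_subgroupOf_iff_le_normalizer (Subgroup.map_subtype_le D)]
      show ((D.map L.subtype).comap L.subtype).Normal
      rw [comap_map_eq_self_of_injective L.subtype_injective]
      exact normalizer_eq_top_iff.1 (top_unique hD)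
    · rintro _ ⟨y, hy, rfl⟩
      obtain ⟨k, hk⟩ := hpow y hy
      exact ⟨k, mem_centralizer_map_subtype.2 hk⟩
  · rintro ⟨-, hn, he, hr⟩
    refine ⟨Subgroup.map_subtype_le _, hN.2 hn, PGroup.isElementaryAbelian_map he L.subtype,
      fun D hDL hD hpow x hx => ?_⟩
    have h := hr (D.subgroupOf L) le_top ?_ ?_ (x := ⟨x, hDL hx⟩) hx
    · exact (mem_centralizer_map_subtype (x := ⟨x, hDL hx⟩)).2 h
    · have := (normal_subgroupOf_iff_le_normalizer hDL).2 hD
      exact le_normalizer_of_normal
    · intro y hy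
      obtain ⟨k, hk⟩ := hpow y hy
      exact ⟨k, (mem_centralizer_map_subtype (x := y ^ p ^ k)).1 (by simpa using hk)⟩

variable [Finite G] [Fact p.Prime] {V W L : Subgroup G}

theorem IsPRedIn.le_pCoreOf (h : IsPRedIn p V L) : V ≤ pCoreOf p L :=
  LocalStructure.le_pCoreOf h.1 h.2.1 (PGroup.isPGroup_of_elementaryAbelian h.2.2.1)

theorem IsPRedIn.pCoreOf_le_centralizer (h : IsPRedIn p V L) :
    pCoreOf p L ≤ Subgroup.centralizer (V : Set G) := by
  refine h.2.2.2 _ (LocalStructure.pCoreOf_le p L) (le_normalizer_pCoreOf p L) fun x hx => ?_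
  obtain ⟨k, hk⟩ := isPGroup_pCoreOf p L ⟨x, hx⟩
  exact ⟨k, by
    have : x ^ p ^ k = 1 := by simpa [Subtype.ext_iff] using hk
    rw [this]; exact one_mem _⟩

/-- `Ω₁(Z(O_p(L)))`. -/
def omegaZ (p : ℕ) (L : Subgroup G) : Subgroup G :=
  omegaOne p (pCoreOf p L ⊓ Subgroup.centralizer (pCoreOf p L : Set G))

omit [Fact p.Prime] [Finite G] in
theorem isMulCommutative_inf_centralizer (K : Subgroup G) :
    IsMulCommutative ↥(K ⊓ Subgroup.centralizer (K : Set G)) :=
  PGroup.isMulCommutative_of_forall fun _ ha _ hb => Subgroup.mem_centralizer_iff.1 hb.2 _ ha.1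

omit [Fact p.Prime] [Finite G] in
theorem isElementaryAbelian_omegaZ (L : Subgroup G) : IsElementaryAbelian p (omegaZ p L) :=
  PGroup.isElementaryAbelian_omegaOne (isMulCommutative_inf_centralizer _)

omit [Fact p.Prime] [Finite G] in
theorem le_omegaOne {A B : Subgroup G} (hA : ∀ a ∈ A, a ^ p = 1) (hAB : A ≤ B) :
    A ≤ omegaOne p B :=
  fun a ha => PGroup.mem_omegaOne_of_pow_eq_one (hAB ha) (hA a ha)

theorem IsPRedIn.le_omegaZ (h : IsPRedIn p V L) : V ≤ omegaZ p L :=
  le_omegaOne h.2.2.1.2
    (le_inf h.le_pCoreOf (Subgroup.le_centralizer_iff.1 h.pCoreOf_le_centralizer))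

omit [Fact p.Prime] in
theorem le_normalizer_omegaZ (L : Subgroup G) : L ≤ normalizer (omegaZ p L : Set G) := by
  intro l hl
  apply mem_normalizer_of_map_conj_le
  refine (PGroup.map_omegaOne_le _ _).trans (PGroup.omegaOne_mono (le_of_eq ?_))
  exact map_conj_eq_self ((le_normalizer_inf (le_normalizer_pCoreOf p L)
    (le_normalizer_centralizer (le_normalizer_pCoreOf p L))) hl)

/-! ### `Y_L` -/

/-- `Y_L` is a `p`-reduced normal subgroup of `L`. -/
theorem isPRedIn_largest (p : ℕ) [Fact p.Prime] (L : Subgroup G) :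
    IsPRedIn p (largestPReducedOf p L) L := by
  rw [largestPReducedOf, isPRedIn_map_subtype]
  set S := {V : Subgroup L | IsPReducedNormal p V}
  have hS : ∀ V ∈ S, IsPRedIn p V ⊤ := fun V hV => isPReducedNormal_iff.1 hV
  refine ⟨le_top, ?_, PGroup.isElementaryAbelian_mono (isElementaryAbelian_omegaZ ⊤)
    (sSup_le fun V hV => (hS V hV).le_omegaZ), fun D _ hD hpow => ?_⟩
  · intro g _
    apply mem_normalizer_of_map_conj
    rw [largestPReduced, sSup_eq_iSup', Subgroup.map_iSup]
    exact iSup_congr fun V => map_conj_eq_self ((hS V V.2).2.1 (Subgroup.mem_top g))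
  · refine Subgroup.le_centralizer_iff.2 (sSup_le fun V hV => Subgroup.le_centralizer_iff.2 ?_)
    refine (hS V hV).2.2.2 D le_top hD fun x hx => ?_
    obtain ⟨k, hk⟩ := hpow x hx
    exact ⟨k, Subgroup.centralizer_le (le_sSup (a := V) (s := S) hV : V ≤ largestPReduced p ↥L) hk⟩

theorem isPRedIn_largest_top (p : ℕ) [Fact p.Prime] :
    IsPRedIn p (largestPReduced p G) ⊤ := by
  have h := (isPRedIn_largest p (⊤ : Subgroup G))
  have e : largestPReducedOf p (⊤ : Subgroup G) = largestPReduced p G := by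
    refine le_antisymm (le_sSup (isPReducedNormal_iff.2 h)) (sSup_le fun V hV => ?_)
    rw [largestPReducedOf]
    intro x hx
    refine Subgroup.mem_map.2 ⟨⟨x, Subgroup.mem_top x⟩, le_sSup (s := {V : Subgroup _ |
      IsPReducedNormal p V}) (a := V.subgroupOf ⊤) ?_ hx, rfl⟩
    refine isPReducedNormal_iff.2 (isPRedIn_map_subtype.1 ?_)
    rw [subgroupOf_map_subtype, inf_top_eq]
    exact isPReducedNormal_iff.1 hV
  exact e ▸ h

theorem le_largestPReducedOf (h : IsPRedIn p V L) : V ≤ largestPReducedOf p L := by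
  intro x hx
  refine Subgroup.mem_map.2 ⟨⟨x, h.1 hx⟩, le_sSup (s := {V : Subgroup _ | IsPReducedNormal p V})
    (a := V.subgroupOf L) ?_ hx, rfl⟩
  refine isPReducedNormal_iff.2 (isPRedIn_map_subtype.1 ?_)
  rwa [subgroupOf_map_subtype, inf_eq_left.2 h.1]

theorem largest_le_pCoreOf (L : Subgroup G) : largestPReducedOf p L ≤ pCoreOf p L :=
  (isPRedIn_largest p L).le_pCoreOf

theorem largest_le (L : Subgroup G) : largestPReducedOf p L ≤ L :=
  (isPRedIn_largest p L).1

theorem pCoreOf_le_centralizer_largest (L : Subgroup G) :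
    pCoreOf p L ≤ Subgroup.centralizer (largestPReducedOf p L : Set G) :=
  (isPRedIn_largest p L).pCoreOf_le_centralizer

theorem le_normalizer_largest (L : Subgroup G) :
    L ≤ normalizer (largestPReducedOf p L : Set G) :=
  (isPRedIn_largest p L).2.1

theorem IsPRedIn.map_conj (h : IsPRedIn p V L) (g : G) :
    IsPRedIn p (V.map (MulAut.conj g).toMonoidHom) (L.map (MulAut.conj g).toMonoidHom) := by
  refine ⟨Subgroup.map_mono h.1, (Subgroup.map_mono h.2.1).trans (le_normalizer_map _),
    PGroup.isElementaryAbelian_map h.2.2.1 _, fun D hDL hD hpow x hx => ?_⟩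
  set e := (MulAut.conj g).toMonoidHom with he
  have hinj : Function.Injective e := (MulAut.conj g).injective
  have hsurj : Function.Surjective e := (MulAut.conj g).surjective
  have hcen : ∀ y, e y ∈ Subgroup.centralizer ((V.map e : Subgroup G) : Set G) ↔
      y ∈ Subgroup.centralizer (V : Set G) := by
    intro y
    rw [Subgroup.mem_centralizer_iff, Subgroup.mem_centralizer_iff]
    constructor
    · intro h' v hv
      exact hinj (by rw [map_mul, map_mul]; exact h' _ ⟨v, hv, rfl⟩)
    · rintro h' _ ⟨v, hv, rfl⟩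
      rw [← map_mul, ← map_mul, h' v hv]
  obtain ⟨y, rfl⟩ := hsurj x
  refine (hcen y).2 (h.2.2.2 (D.comap e) ?_ ?_ ?_ hx)
  · intro z hz
    have := hDL hz
    rwa [Subgroup.mem_map_iff_mem hinj] at this
  · intro z hz
    exact le_normalizer_comap e (hD (Subgroup.mem_map_of_mem e hz))
  · intro z hz
    obtain ⟨k, hk⟩ := hpow (e z) hz
    exact ⟨k, (hcen _).1 (by rwa [map_pow])⟩

theorem normalizer_le_normalizer_largest (L : Subgroup G) :
    normalizer (L : Set G) ≤ normalizer (largestPReducedOf p L : Set G) := by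
  intro g hg
  apply mem_normalizer_of_map_conj_le
  refine le_largestPReducedOf ?_
  simpa only [map_conj_eq_self hg] using (isPRedIn_largest p L).map_conj g

omit [Fact p.Prime] [Finite G] in
theorem exists_pow_mul_mem {C : Subgroup G} {a c : G} (ha : a ∈ normalizer (C : Set G))
    (hc : c ∈ C) {n : ℕ} (hn : a ^ n ∈ C) : (a * c) ^ n ∈ C := by
  have key : ∀ m : ℕ, (a ^ m)⁻¹ * (a * c) ^ m ∈ C := by
    intro m
    induction m with
    | zero => simp
    | succ m ih =>
      have h1 : a⁻¹ * ((a ^ m)⁻¹ * (a * c) ^ m) * a ∈ C := (mem_normalizer_iff''.1 ha _).1 ih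
      have e : (a ^ (m + 1))⁻¹ * (a * c) ^ (m + 1) =
          a⁻¹ * ((a ^ m)⁻¹ * (a * c) ^ m) * a * c := by
        rw [pow_succ a m, pow_succ (a * c) m]; group
      rw [e]
      exact C.mul_mem h1 hc
  simpa using C.mul_mem hn (key n)

/-- Reducedness only depends on the automorphisms induced on `V`. -/
theorem IsPRedIn.transfer {M : Subgroup G} (h : IsPRedIn p V M) (hVL : V ≤ L)
    (heq : L ⊔ Subgroup.centralizer (V : Set G) = M ⊔ Subgroup.centralizer (V : Set G)) :
    IsPRedIn p V L := by
  set C := Subgroup.centralizer (V : Set G) with hC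
  have hMN : M ⊔ C ≤ normalizer (V : Set G) := sup_le h.2.1 (centralizer_le_normalizer V)
  have hMC : M ⊔ C ≤ normalizer (C : Set G) := le_normalizer_centralizer hMN
  have hLN : L ≤ normalizer (V : Set G) := le_sup_left.trans (heq.le.trans hMN)
  refine ⟨hVL, hLN, h.2.2.1, fun D hDL hD hpow d hd => ?_⟩
  have hDC : D ≤ normalizer (C : Set G) := hDL.trans (le_normalizer_centralizer hLN)
  have hLC : L ⊔ C ≤ normalizer ((D ⊔ C : Subgroup G) : Set G) :=
    sup_le (le_normalizer_sup hD (le_normalizer_centralizer hLN))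
      (le_sup_right.trans Subgroup.le_normalizer)
  set D' := (D ⊔ C) ⊓ M with hD'
  have hle : D' ≤ C := by
    refine h.2.2.2 D' inf_le_right
      (le_normalizer_inf (le_sup_left.trans (heq.ge.trans hLC)) M.le_normalizer) fun x hx => ?_
    obtain ⟨a, ha, c, hc, rfl⟩ := exists_mul_of_mem_sup hDC hx.1
    obtain ⟨k, hk⟩ := hpow a ha
    exact ⟨k, exists_pow_mul_mem (hDC ha) hc hk⟩
  obtain ⟨m, hm, c, hc, rfl⟩ := exists_mul_of_mem_sup (le_sup_left.trans hMC)
    (heq.le (le_sup_left (b := C) (hDL hd)))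
  refine mul_mem (hle ⟨?_, hm⟩) hc
  have := mul_mem (le_sup_left (b := C) hd) (le_sup_right (a := D) (inv_mem hc))
  simpa using this

/-- The join of the `L`-conjugates of a piece `W ≤ Ω₁(Z(O_p(L)))` is `p`-reduced when a Sylow
subgroup of the relevant normal subgroups centralises the piece. -/
theorem le_largest_of_piece {R : Subgroup G} (hR : IsSylowIn p R L) (hW : W ≤ omegaZ p L)
    (h : ∀ D : Subgroup G, D ≤ L → L ≤ normalizer (D : Set G) →
      (∀ x ∈ D, ∃ k : ℕ, x ^ p ^ k ∈ Subgroup.centralizer (W : Set G)) →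
      R ⊓ D ≤ Subgroup.centralizer (W : Set G)) :
    W ≤ largestPReducedOf p L := by
  set V := ⨆ l : ↥L, W.map (MulAut.conj (l : G)).toMonoidHom with hV
  have hWV : W ≤ V := by
    refine le_trans (le_of_eq (map_conj_one W).symm)
      (le_iSup (fun l : ↥L => W.map (MulAut.conj (l : G)).toMonoidHom) 1)
  refine hWV.trans (le_largestPReducedOf ⟨iSup_le fun l => ?_, fun g hg => ?_, ?_,
    fun D hDL hD hpow => ?_⟩)
  · exact map_conj_le (hW.trans ((PGroup.omegaOne_le _).trans
      (inf_le_left.trans (LocalStructure.pCoreOf_le p L)))) l.2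
  · apply mem_normalizer_of_map_conj_le
    rw [hV, Subgroup.map_iSup]
    refine iSup_le fun l => ?_
    rw [← map_conj_mul]
    exact le_iSup (fun l : ↥L => W.map (MulAut.conj (l : G)).toMonoidHom) (⟨g, hg⟩ * l)
  · refine PGroup.isElementaryAbelian_mono (isElementaryAbelian_omegaZ L) (iSup_le fun l => ?_)
    exact (Subgroup.map_mono hW).trans (map_conj_eq_self (le_normalizer_omegaZ L l.2)).le
  · have hDW : D ≤ Subgroup.centralizer (W : Set G) := by
      have hpowW : ∀ x ∈ D, ∃ k : ℕ, x ^ p ^ k ∈ Subgroup.centralizer (W : Set G) :=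
        fun x hx => (hpow x hx).imp fun _ hk => Subgroup.centralizer_le hWV hk
      conv_lhs => rw [← (hR.inf_normal hDL hD).resOf_sup]
      exact sup_le (resOf_le_of_pow_mem hpowW) (h D hDL hD hpowW)
    refine Subgroup.le_centralizer_iff.2 (iSup_le fun l => Subgroup.le_centralizer_iff.2 ?_)
    intro x hx
    refine Subgroup.mem_centralizer_iff.2 ?_
    rintro _ ⟨w, hw, rfl⟩
    have hy := hDW ((mem_normalizer_iff''.1 (hD l.2) x).1 hx)
    have e := Subgroup.mem_centralizer_iff.1 hy w hw
    show (l : G) * w * (l : G)⁻¹ * x = x * ((l : G) * w * (l : G)⁻¹)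
    calc (l : G) * w * (l : G)⁻¹ * x = l * (w * ((l : G)⁻¹ * x * l)) * (l : G)⁻¹ := by group
      _ = l * (((l : G)⁻¹ * x * l) * w) * (l : G)⁻¹ := by rw [e]
      _ = x * ((l : G) * w * (l : G)⁻¹) := by group

/-- `Z_L ≤ Y_L` in characteristic `p`, piece by piece. -/
theorem omegaZ_sylow_le_largest {R : Subgroup G}
    (hL : L ⊓ Subgroup.centralizer (pCoreOf p L : Set G) ≤ pCoreOf p L) (hR : IsSylowIn p R L) :
    omegaOne p (R ⊓ Subgroup.centralizer (R : Set G)) ≤ largestPReducedOf p L := by
  refine le_largest_of_piece hR (PGroup.omegaOne_mono (le_inf ?_ ?_)) fun D _ _ _ => ?_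
  · exact le_trans (inf_le_inf hR.1 (Subgroup.centralizer_le hR.pCoreOf_le)) hL
  · exact inf_le_right.trans (Subgroup.centralizer_le hR.pCoreOf_le)
  · exact inf_le_left.trans (Subgroup.le_centralizer_iff.1
      ((PGroup.omegaOne_le _).trans inf_le_right))

theorem sylowCenterClosure_le_largest
    (hL : L ⊓ Subgroup.centralizer (pCoreOf p L : Set G) ≤ pCoreOf p L) :
    sylowCenterClosure p L ≤ largestPReducedOf p L :=
  iSup_le fun S => omegaZ_sylow_le_largest hL (isSylowIn_map S)

omit [Finite G] [Fact p.Prime] in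
theorem omegaOne_le_sylowCenterClosure {R : Subgroup G} (hR : IsSylowIn p R L) :
    omegaOne p (R ⊓ Subgroup.centralizer (R : Set G)) ≤ sylowCenterClosure p L := by
  obtain ⟨P, rfl⟩ := hR.exists_map_eq
  exact le_iSup (fun S : Sylow p ↥L => omegaOne p (((S : Subgroup ↥L).map L.subtype) ⊓
    Subgroup.centralizer (((S : Subgroup ↥L).map L.subtype : Subgroup G) : Set G))) P

/-- Monotonicity of `Y_L` along parabolic subgroups of characteristic `p`. -/
theorem largest_mono {X : Subgroup G} (T : Sylow p G) (hT : (T : Subgroup G) ≤ L) (hLX : L ≤ X)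
    (hX : X ⊓ Subgroup.centralizer (pCoreOf p X : Set G) ≤ pCoreOf p X) :
    largestPReducedOf p L ≤ largestPReducedOf p X := by
  have hOX : pCoreOf p X ≤ pCoreOf p L :=
    LocalStructure.le_pCoreOf ((pCoreOf_le_sylow T (hT.trans hLX)).trans hT)
      (hLX.trans (le_normalizer_pCoreOf p X)) (isPGroup_pCoreOf p X)
  have hc : largestPReducedOf p L ≤ Subgroup.centralizer (pCoreOf p X : Set G) :=
    Subgroup.le_centralizer_iff.1 (hOX.trans (pCoreOf_le_centralizer_largest L))
  refine le_largest_of_piece (isSylowIn_of_sylow T (hT.trans hLX))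
    (le_omegaOne (isPRedIn_largest p L).2.2.1.2
      (le_inf ((le_inf ((largest_le L).trans hLX) hc).trans hX) hc))
    fun D _ hD hpow => ?_
  refine le_trans (inf_le_inf_right D hT) ?_
  exact (isPRedIn_largest p L).2.2.2 _ inf_le_left
    (le_normalizer_inf L.le_normalizer (hLX.trans hD)) fun x hx => hpow x hx.2

theorem isSylowIn_inf_centralizer (T : Sylow p G) {V : Subgroup G}
    (h : (T : Subgroup G) ≤ normalizer (V : Set G)) :
    IsSylowIn p ((T : Subgroup G) ⊓ Subgroup.centralizer (V : Set G))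
      (Subgroup.centralizer (V : Set G)) :=
  (isSylowIn_of_sylow T le_sup_left).inf_normal le_sup_right
    (sup_le (le_normalizer_centralizer h) Subgroup.le_normalizer)

end Cfsg.Agent.LocalStructure
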