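import Cfsg.Agent.Lib.LocalStructure.Large
import Cfsg.Agent.Lib.LocalStructure.PReduced

/-! Members of `𝔐_G(S)`, asymmetric `Y_M`, and the weak closure of `O_p(M)`. -/

set_option autoImplicit false
set_option linter.unusedSectionVars false

open Subgroup
open scoped commutatorElement

namespace Cfsg.Agent.LocalStructure

variable {G : Type*} [Group G] {p : ℕ}

/-- The normal closure of `A` in `H`, as a subgroup of the ambient group, is generated by the
`H`-conjugates of `A`. -/
theorem map_normalClosure_subgroupOf {A H : Subgroup G} (hA : A ≤ H) :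
    (Subgroup.normalClosure ((A.subgroupOf H : Subgroup ↥H) : Set ↥H)).map H.subtype =
      Subgroup.closure {x : G | ∃ h ∈ H, ∃ a ∈ A, h * a * h⁻¹ = x} := by
  rw [Subgroup.normalClosure, MonoidHom.map_closure]
  congr 1
  ext x
  simp only [Set.mem_image, Group.mem_conjugatesOfSet_iff, isConj_iff, SetLike.mem_coe,
    Subgroup.mem_subgroupOf, Set.mem_ofPred_eq]
  constructor
  · rintro ⟨y, ⟨a, ha, c, rfl⟩, rfl⟩
    exact ⟨c, c.2, a, ha, rfl⟩
  · rintro ⟨h, hh, a, ha, rfl⟩
    exact ⟨⟨h, hh⟩ * ⟨a, hA ha⟩ * ⟨h, hh⟩⁻¹, ⟨⟨a, hA ha⟩, ha, ⟨h, hh⟩, rfl⟩, rfl⟩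

theorem le_map_normalClosure {A H : Subgroup G} (hA : A ≤ H) :
    A ≤ (Subgroup.normalClosure ((A.subgroupOf H : Subgroup ↥H) : Set ↥H)).map H.subtype := by
  intro a ha
  rw [map_normalClosure_subgroupOf hA]
  exact Subgroup.subset_closure ⟨1, H.one_mem, a, ha, by simp⟩

theorem le_normalizer_map_normalClosure {A H : Subgroup G} :
    H ≤ normalizer (((Subgroup.normalClosure ((A.subgroupOf H : Subgroup ↥H) : Set ↥H)).map
      H.subtype : Subgroup G) : Set G) := by
  rw [← normal_subgroupOf_iff_le_normalizer (Subgroup.map_subtype_le _)]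
  show ((Subgroup.map H.subtype _).comap H.subtype).Normal
  rw [comap_map_eq_self_of_injective H.subtype_injective]
  infer_instance

theorem map_normalClosure_le {A H K : Subgroup G} (hA : A ≤ H) (hAK : A ≤ K)
    (hn : H ≤ normalizer (K : Set G)) :
    (Subgroup.normalClosure ((A.subgroupOf H : Subgroup ↥H) : Set ↥H)).map H.subtype ≤ K := by
  rw [map_normalClosure_subgroupOf hA, Subgroup.closure_le]
  rintro _ ⟨h, hh, a, ha, rfl⟩
  exact (mem_normalizer_iff.1 (hn hh) a).1 (hAK ha)

/-- A set of pairwise commuting elements of order dividing `p` generates an elementary abelian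
subgroup. -/
theorem isElementaryAbelian_closure {S : Set G} (hc : ∀ a ∈ S, ∀ b ∈ S, a * b = b * a)
    (he : ∀ a ∈ S, a ^ p = 1) : IsElementaryAbelian p (Subgroup.closure S) := by
  have h1 : S ⊆ Subgroup.centralizer (Subgroup.closure S : Set G) := by
    intro a ha
    have h2 : Subgroup.closure S ≤ Subgroup.centralizer ({a} : Set G) :=
      (Subgroup.closure_le _).2 fun b hb =>
        Subgroup.mem_centralizer_singleton_iff.2 (hc b hb a ha)
    exact Subgroup.mem_centralizer_iff.2 fun b hb =>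
      Subgroup.mem_centralizer_singleton_iff.1 (h2 hb)
  have hcomm : ∀ a ∈ Subgroup.closure S, ∀ b ∈ Subgroup.closure S, a * b = b * a :=
    fun a ha b hb => Subgroup.mem_centralizer_iff.1 ((Subgroup.closure_le _).2 h1 hb) a ha
  refine PGroup.isElementaryAbelian_of_forall hcomm fun x hx => ?_
  induction hx using Subgroup.closure_induction with
  | mem x hx => exact he x hx
  | one => exact one_pow p
  | mul a b ha hb iha ihb => rw [Commute.mul_pow (hcomm a ha b hb), iha, ihb, one_mul]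
  | inv a _ ih => rw [inv_pow, ih, inv_one]

/-- Two conjugates of an asymmetric subgroup normalising each other commute. -/
theorem asym_commute {A : Subgroup G} (h : ¬ IsSymmetricIn A) (a b : G)
    (hab : A.map (MulAut.conj a).toMonoidHom ≤
      normalizer (A.map (MulAut.conj b).toMonoidHom : Set G))
    (hba : A.map (MulAut.conj b).toMonoidHom ≤
      normalizer (A.map (MulAut.conj a).toMonoidHom : Set G)) :
    ∀ x ∈ A, ∀ y ∈ A, (a * x * a⁻¹) * (b * y * b⁻¹) = (b * y * b⁻¹) * (a * x * a⁻¹) := by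
  set e := (MulAut.conj a⁻¹).toMonoidHom with he
  set B := A.map (MulAut.conj (a⁻¹ * b)).toMonoidHom with hB
  have h1 : B ≤ normalizer (A : Set G) := by
    have h2 := (Subgroup.map_mono (f := e) hba).trans (le_normalizer_map e)
    rwa [he, ← map_conj_mul, map_conj_inv_map_conj] at h2
  have h2 : A ≤ normalizer (B : Set G) := by
    have h3 := (Subgroup.map_mono (f := e) hab).trans (le_normalizer_map e)
    rwa [he, ← map_conj_mul A a⁻¹ b, map_conj_inv_map_conj] at h3
  have h3 : ⁅A, B⁆ = ⊥ := by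
    by_contra hne
    exact h ⟨a⁻¹ * b, hne, le_inf (le_normalizer_iff_commutator_le_left.1 h1)
      (le_normalizer_iff_commutator_le_right.1 h2)⟩
  intro x hx y hy
  have h4 := commutator_mem_commutator hx (conj_mem_map_conj (g := a⁻¹ * b) hy)
  rw [← hB, h3, Subgroup.mem_bot, commutatorElement_eq_one_iff_mul_comm] at h4
  calc (a * x * a⁻¹) * (b * y * b⁻¹)
      = a * (x * ((a⁻¹ * b) * y * (a⁻¹ * b)⁻¹)) * a⁻¹ := by group
    _ = a * (((a⁻¹ * b) * y * (a⁻¹ * b)⁻¹) * x) * a⁻¹ := by rw [h4]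
    _ = _ := by group

/-! ### Paths -/

/-- `a` and `b` are joined by a chain of `n` steps of `E`. -/
def Chain (E : G → G → Prop) : ℕ → G → G → Prop
  | 0, a, b => a = b
  | n + 1, a, b => ∃ c, Chain E n a c ∧ E c b

theorem chain_cons {E : G → G → Prop} :
    ∀ {n : ℕ} {a c b : G}, E a c → Chain E n c b → Chain E (n + 1) a b := by
  intro n
  induction n with
  | zero => rintro a c b hac (rfl : c = b); exact ⟨a, rfl, hac⟩
  | succ n ih => rintro a c b hac ⟨d, hd, hdb⟩; exact ⟨d, ih hac hd, hdb⟩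

theorem chain_symm {E : G → G → Prop} (hE : ∀ a b, E a b → E b a) :
    ∀ {n : ℕ} {a b : G}, Chain E n a b → Chain E n b a := by
  intro n
  induction n with
  | zero => rintro a b (rfl : a = b); rfl
  | succ n ih => rintro a b ⟨c, hac, hcb⟩; exact chain_cons (hE _ _ hcb) (ih hac)

theorem chain_trans {E : G → G → Prop} :
    ∀ {m n : ℕ} {a b c : G}, Chain E n a b → Chain E m b c → Chain E (n + m) a c := by
  intro m
  induction m with
  | zero => rintro n a b c hab (rfl : b = c); exact hab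
  | succ m ih => rintro n a b c hab ⟨d, hbd, hdc⟩; exact ⟨d, ih hab hbd, hdc⟩

theorem chain_smul {E : G → G → Prop} (hE : ∀ x a b, E a b → E (x * a) (x * b)) (x : G) :
    ∀ {n : ℕ} {a b : G}, Chain E n a b → Chain E n (x * a) (x * b) := by
  intro n
  induction n with
  | zero => rintro a b (rfl : a = b); rfl
  | succ n ih => rintro a b ⟨c, hac, hcb⟩; exact ⟨x * c, ih hac, hE x _ _ hcb⟩

/-! ### `𝔐` -/

variable [Finite G] [Fact p.Prime] {M : Subgroup G}

local notation "Y" => largestPReducedOf p M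
local notation "P" => pCoreOf p M
local notation "C" => Subgroup.centralizer (largestPReducedOf p M : Set G)
local notation "Md" => M ⊔ Subgroup.centralizer (largestPReducedOf p M : Set G)

theorem frakM_centralizer_le (hM : IsInFrakM p M) : Subgroup.centralizer (P : Set G) ≤ P :=
  hM.1.2

theorem frakM_pCoreOf_ne_bot (hM : IsInFrakM p M) : P ≠ ⊥ :=
  fun e => hM.1.1 ((pCoreOf_eq_bot_iff M).1 e)

theorem frakM_le_normalizer (p : ℕ) [Fact p.Prime] (M : Subgroup G) :
    M ⊔ Subgroup.centralizer (largestPReducedOf p M : Set G) ≤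
      normalizer (largestPReducedOf p M : Set G) :=
  sup_le (le_normalizer_largest M) (centralizer_le_normalizer _)

theorem frakM_centralizer_normalized (p : ℕ) [Fact p.Prime] (M : Subgroup G) :
    M ⊔ Subgroup.centralizer (largestPReducedOf p M : Set G) ≤
      normalizer (Subgroup.centralizer (largestPReducedOf p M : Set G) : Set G) :=
  le_normalizer_centralizer (frakM_le_normalizer p M)

theorem frakM_largest_le (p : ℕ) [Fact p.Prime] (M : Subgroup G) :
    largestPReducedOf p M ≤ pCoreOf p M := largest_le_pCoreOf M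

/-- `O_p(M) = S ∩ C(Y_M)`, a Sylow subgroup of `C(Y_M)`. -/
theorem frakM_inf_eq (S : Sylow p G) (hSM : (S : Subgroup G) ≤ M) (hM : IsInFrakM p M) :
    (S : Subgroup G) ⊓ C = P :=
  le_antisymm
    (le_pCoreOf_of_isPClosed inf_le_left
      (le_normalizer_inf M.le_normalizer (le_sup_left.trans (frakM_centralizer_normalized p M)))
      hM.2.2.2.2.1 (inf_le_inf_right _ hSM) (S.2.to_le inf_le_left))
    (le_inf (pCoreOf_le_sylow S hSM) (pCoreOf_le_centralizer_largest M))

theorem frakM_isSylowIn (S : Sylow p G) (hSM : (S : Subgroup G) ≤ M) (hM : IsInFrakM p M) :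
    IsSylowIn p P C :=
  frakM_inf_eq S hSM hM ▸ isSylowIn_inf_centralizer S (hSM.trans (le_normalizer_largest M))

/-- `O_p(M)` is weakly closed in `M†`. -/
theorem frakM_wc_dagger (S : Sylow p G) (hSM : (S : Subgroup G) ≤ M) (hM : IsInFrakM p M)
    {R : Subgroup G} (hR : IsPGroup p R) (hPR : P ≤ R) {g : G} (hg : g ∈ Md)
    (hgR : (pCoreOf p M).map (MulAut.conj g).toMonoidHom ≤ R) :
    (pCoreOf p M).map (MulAut.conj g).toMonoidHom = P := by
  have h := frakM_isSylowIn S hSM hM
  have h1 : (pCoreOf p M).map (MulAut.conj g).toMonoidHom ≤ C :=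
    (Subgroup.map_mono h.1).trans (map_conj_eq_self (frakM_centralizer_normalized p M hg)).le
  have h2 : R ⊓ C = P := h.2.2 _ (le_inf hPR h.1) inf_le_right (hR.to_le inf_le_left)
  exact Subgroup.eq_of_le_of_card_ge ((le_inf hgR h1).trans h2.le) (card_map_conj _ g).ge

theorem exists_maxCharP {X : Subgroup G} (hX : X ∈ charPSubgroups p G) :
    ∃ Z ∈ maxCharPSubgroups p G, X ≤ Z := by
  induction hn : Nat.card G - Nat.card X using Nat.strong_induction_on generalizing X with
  | _ n ih =>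
    by_cases h : ∀ L ∈ charPSubgroups p G, X ≤ L → L = X
    · exact ⟨X, ⟨hX, h⟩, le_rfl⟩
    · push Not at h
      obtain ⟨L, hL, hXL, hne⟩ := h
      have h1 : Nat.card X < Nat.card L :=
        lt_of_le_of_ne (Subgroup.card_le_of_le hXL) fun e =>
          hne (Subgroup.eq_of_le_of_card_ge hXL e.ge).symm
      have h2 : Nat.card L ≤ Nat.card G := Subgroup.card_le_card_group L
      obtain ⟨Z, hZ, hLZ⟩ := ih _ (by omega) hL rfl
      exact ⟨Z, hZ, hXL.trans hLZ⟩

variable {Q : Subgroup G}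

/-- Overgroups of `M` with nontrivial `p`-core lie in `M†`. -/
theorem frakM_le_dagger (S : Sylow p G) (hQ : IsPGroup p Q) (hQ1 : Q ≠ ⊥) (hQl : IsLarge Q)
    (hSM : (S : Subgroup G) ≤ M) (hM : IsInFrakM p M) {X : Subgroup G} (hMX : M ≤ X)
    (hX : pCoreOf p X ≠ ⊥) : X ≤ Md := by
  have h := centralizer_le_of_parabolic_large hQ hQ1 hQl ⟨S, hSM.trans hMX⟩ hX
  obtain ⟨Z, hZ, hXZ⟩ :=
    exists_maxCharP (X := X) ⟨fun e => hX ((pCoreOf_eq_bot_iff X).2 e), h⟩
  exact hXZ.trans (hM.2.2.1 Z hZ (hMX.trans hXZ)).le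

theorem frakM_normalizer_le_dagger (S : Sylow p G) (hQ : IsPGroup p Q) (hQ1 : Q ≠ ⊥)
    (hQl : IsLarge Q) (hSM : (S : Subgroup G) ≤ M) (hM : IsInFrakM p M) {R : Subgroup G}
    (hR : IsPGroup p R) (hR1 : R ≠ ⊥) (hn : M ≤ normalizer (R : Set G)) :
    normalizer (R : Set G) ≤ Md :=
  frakM_le_dagger S hQ hQ1 hQl hSM hM hn fun e =>
    hR1 (eq_bot_mono (le_pCoreOf R.le_normalizer le_rfl hR) e)

theorem frakM_normalizer_core_le (S : Sylow p G) (hQ : IsPGroup p Q) (hQ1 : Q ≠ ⊥)
    (hQl : IsLarge Q) (hSM : (S : Subgroup G) ≤ M) (hM : IsInFrakM p M) :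
    normalizer (P : Set G) ≤ Md :=
  frakM_normalizer_le_dagger S hQ hQ1 hQl hSM hM (isPGroup_pCoreOf p M) (frakM_pCoreOf_ne_bot hM)
    (le_normalizer_pCoreOf p M)

/-- If `O_p(M)` and a conjugate lie in both `M` and the conjugate of `M`, and `Y_M` is
asymmetric, then the conjugating element lies in `M†`. -/
theorem frakM_mem_dagger (S : Sylow p G) (hQ : IsPGroup p Q) (hQ1 : Q ≠ ⊥) (hQl : IsLarge Q)
    (hSM : (S : Subgroup G) ≤ M) (hM : IsInFrakM p M) (hasym : ¬ IsSymmetricIn Y) {g : G}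
    (h1 : (pCoreOf p M).map (MulAut.conj g).toMonoidHom ≤ M)
    (h2 : (pCoreOf p M).map (MulAut.conj g⁻¹).toMonoidHom ≤ M) : g ∈ Md := by
  by_cases hY : Y = ⊥
  · refine le_sup_right (a := M) ?_
    rw [hY]
    exact Subgroup.mem_centralizer_iff.2 fun y hy => by
      rw [Subgroup.mem_bot.1 hy, one_mul, mul_one]
  set E : G → G → Prop := fun a b =>
    (pCoreOf p M).map (MulAut.conj a).toMonoidHom ≤ M.map (MulAut.conj b).toMonoidHom ∧
      (pCoreOf p M).map (MulAut.conj b).toMonoidHom ≤ M.map (MulAut.conj a).toMonoidHom with hE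
  have hEs : ∀ a b, E a b → E b a := fun a b h => ⟨h.2, h.1⟩
  have hEm : ∀ x a b, E a b → E (x * a) (x * b) := by
    intro x a b h
    simp only [hE, map_conj_mul]
    exact ⟨Subgroup.map_mono h.1, Subgroup.map_mono h.2⟩
  have hMY : ∀ b, M.map (MulAut.conj b).toMonoidHom ≤
      normalizer ((largestPReducedOf p M).map (MulAut.conj b).toMonoidHom : Set G) := fun b =>
    (Subgroup.map_mono (le_normalizer_largest M)).trans (le_normalizer_map _)
  have key : ∀ (n : ℕ) (a b : G), Chain E n a b →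
      (largestPReducedOf p M).map (MulAut.conj a).toMonoidHom ≤
        (pCoreOf p M).map (MulAut.conj b).toMonoidHom := by
    intro n
    induction n with
    | zero => rintro a b (rfl : a = b); exact Subgroup.map_mono (frakM_largest_le p M)
    | succ n ih =>
      intro a b hab
      obtain ⟨c, hac, hcb⟩ := hab
      have hb := (ih a c hac).trans hcb.1
      obtain ⟨c', hbc', hc'a⟩ := chain_symm hEs (show Chain E (n + 1) a b from ⟨c, hac, hcb⟩)
      have ha := (ih b c' hbc').trans hc'a.1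
      have hcomm := asym_commute hasym a b (hb.trans (hMY b)) (ha.trans (hMY a))
      rintro _ ⟨y, hy, rfl⟩
      show a * y * a⁻¹ ∈ _
      rw [mem_map_conj]
      set z := b⁻¹ * (a * y * a⁻¹) * b with hz
      have hzM : z ∈ M := mem_map_conj.1 (hb (conj_mem_map_conj hy))
      have hzC : z ∈ C := by
        refine Subgroup.mem_centralizer_iff.2 fun w hw => ?_
        have e := hcomm y hy w hw
        calc w * z = b⁻¹ * ((b * w * b⁻¹) * (a * y * a⁻¹)) * b := by rw [hz]; group
          _ = b⁻¹ * ((a * y * a⁻¹) * (b * w * b⁻¹)) * b := by rw [e]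
          _ = z * w := by rw [hz]; group
      suffices hz' : IsPGroup p ↥(Subgroup.zpowers z) from
        le_pCoreOf_of_isPClosed inf_le_left
          (le_normalizer_inf M.le_normalizer (le_sup_left.trans (frakM_centralizer_normalized p M)))
          hM.2.2.2.2.1 (Subgroup.zpowers_le.2 ⟨hzM, hzC⟩) hz' (Subgroup.mem_zpowers z)
      refine IsPGroup.to_le (K := (largestPReducedOf p M).map
        (MulAut.conj (b⁻¹ * a)).toMonoidHom) ?_ (Subgroup.zpowers_le.2 ?_)
      · exact isPGroup_map_conj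
          ((isPGroup_pCoreOf p M).to_le (frakM_largest_le p M)) _
      · exact ⟨y, hy, by show b⁻¹ * a * y * (b⁻¹ * a)⁻¹ = z; rw [hz]; group⟩
  let K : Subgroup G :=
    { carrier := {x | ∃ n, Chain E n 1 x}
      one_mem' := ⟨0, rfl⟩
      mul_mem' := by
        rintro a b ⟨n, ha⟩ ⟨m, hb⟩
        have h := chain_smul hEm a hb
        rw [mul_one] at h
        exact ⟨n + m, chain_trans ha h⟩
      inv_mem' := by
        rintro a ⟨n, ha⟩
        have h := chain_smul hEm a⁻¹ (chain_symm hEs ha)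
        rw [inv_mul_cancel, mul_one] at h
        exact ⟨n, h⟩ }
  set W := Subgroup.closure {x : G | ∃ k ∈ K, ∃ y ∈ Y, k * y * k⁻¹ = x} with hW
  have hWP : W ≤ P := by
    rw [hW, Subgroup.closure_le]
    rintro _ ⟨k, ⟨n, hk⟩, y, hy, rfl⟩
    have h := key n k 1 (chain_symm hEs hk) (conj_mem_map_conj hy)
    rwa [map_conj_one] at h
  have hKW : K ≤ normalizer (W : Set G) := by
    rw [hW, le_normalizer_closure_iff]
    rintro x hx _ ⟨k, hk, y, hy, rfl⟩
    exact Subgroup.subset_closure ⟨x * k, K.mul_mem hx hk, y, hy, by group⟩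
  have hMK : M ≤ K := fun m hm => ⟨1, 1, rfl, by
    simp only [hE]
    rw [map_conj_one, map_conj_one, map_conj_eq_self (le_normalizer_pCoreOf p M hm),
      map_conj_eq_self (M.le_normalizer hm)]
    exact ⟨pCoreOf_le p M, pCoreOf_le p M⟩⟩
  have hgK : g ∈ K := by
    refine ⟨1, 1, rfl, ?_⟩
    simp only [hE]
    refine ⟨?_, ?_⟩
    · rwa [map_conj_one, le_map_conj_iff]
    · rwa [map_conj_one]
  refine frakM_normalizer_le_dagger S hQ hQ1 hQl hSM hM ((isPGroup_pCoreOf p M).to_le hWP) ?_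
    (hMK.trans hKW) (hKW hgK)
  intro e
  apply hY
  rw [eq_bot_iff]
  exact fun y hy => e ▸ Subgroup.subset_closure ⟨1, K.one_mem, y, hy, by simp⟩

/-- In a Sylow subgroup of `M†` conjugated into `M`: `N_G(R) ≤ N_G(O_p(M))`. -/
theorem frakM_normalizer_le_of_le_dagger (S : Sylow p G) (hQ : IsPGroup p Q) (hQ1 : Q ≠ ⊥)
    (hQl : IsLarge Q) (hSM : (S : Subgroup G) ≤ M) (hM : IsInFrakM p M)
    (hasym : ¬ IsSymmetricIn Y) {R : Subgroup G} (hR : IsPGroup p R) (hPR : P ≤ R)
    (hRM : R ≤ Md) : normalizer (R : Set G) ≤ normalizer (P : Set G) := by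
  have hinM : ∀ R : Subgroup G, IsPGroup p R → P ≤ R → R ≤ M →
      normalizer (R : Set G) ≤ normalizer (P : Set G) := by
    intro R hR hPR hRM g hg
    have h1 : ∀ g ∈ normalizer (R : Set G), (pCoreOf p M).map (MulAut.conj g).toMonoidHom ≤ R :=
      fun g hg => (Subgroup.map_mono hPR).trans (map_conj_eq_self hg).le
    have h2 := frakM_mem_dagger S hQ hQ1 hQl hSM hM hasym ((h1 g hg).trans hRM)
      ((h1 g⁻¹ (inv_mem hg)).trans hRM)
    exact mem_normalizer_of_map_conj (frakM_wc_dagger S hSM hM hR hPR h2 (h1 g hg))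
  obtain ⟨c, hc, hcS⟩ :=
    (isSylowIn_of_sylow S (hSM.trans (le_sup_left : M ≤ Md))).exists_conj_le hR hRM
  have hcP : c ∈ normalizer (P : Set G) := mem_normalizer_of_map_conj
    (frakM_wc_dagger S hSM hM S.2 (pCoreOf_le_sylow S hSM) hc
      ((Subgroup.map_mono hPR).trans hcS))
  intro g hg
  have h1 : P ≤ R.map (MulAut.conj c).toMonoidHom :=
    (map_conj_eq_self hcP).ge.trans (Subgroup.map_mono hPR)
  have h2 := hinM _ (isPGroup_map_conj hR c) h1 (hcS.trans hSM)
    (le_normalizer_map _ (conj_mem_map_conj (g := c) hg))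
  simpa [mul_assoc] using mul_mem (mul_mem (inv_mem hcP) h2) hcP

/-- `O_p(M)` is normal in every `p`-subgroup containing it, and `N_G(R) ≤ N_G(O_p(M))`. -/
theorem frakM_normalizer_le (S : Sylow p G) (hQ : IsPGroup p Q) (hQ1 : Q ≠ ⊥)
    (hQl : IsLarge Q) (hSM : (S : Subgroup G) ≤ M) (hM : IsInFrakM p M)
    (hasym : ¬ IsSymmetricIn Y) {R : Subgroup G} (hR : IsPGroup p R) (hPR : P ≤ R) :
    normalizer (R : Set G) ≤ normalizer (P : Set G) := by
  have hPd := frakM_normalizer_core_le S hQ hQ1 hQl hSM hM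
  have hle : R ≤ normalizer (P : Set G) := by
    by_contra hne
    obtain ⟨x, hxR, hxN, hx⟩ := exists_mem_normalizer_of_lt hR
      (lt_of_le_of_ne (inf_le_left : R ⊓ normalizer (P : Set G) ≤ R)
        fun e => hne (e ▸ inf_le_right))
    exact hx ⟨hxR, frakM_normalizer_le_of_le_dagger S hQ hQ1 hQl hSM hM hasym
      (hR.to_le inf_le_left) (le_inf hPR Subgroup.le_normalizer)
      (inf_le_right.trans hPd) hxN⟩
  exact frakM_normalizer_le_of_le_dagger S hQ hQ1 hQl hSM hM hasym hR hPR (hle.trans hPd)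

theorem frakM_wc (S : Sylow p G) (hQ : IsPGroup p Q) (hQ1 : Q ≠ ⊥) (hQl : IsLarge Q)
    (hSM : (S : Subgroup G) ≤ M) (hM : IsInFrakM p M) (hasym : ¬ IsSymmetricIn Y) :
    IsWeaklyClosedSubgroup p P := by
  refine wc_of_sylow S (pCoreOf_le_sylow S hSM)
    (frakM_normalizer_le S hQ hQ1 hQl hSM hM hasym S.2 (pCoreOf_le_sylow S hSM)) fun g hg => ?_
  intro s hs
  have h := frakM_normalizer_le S hQ hQ1 hQl hSM hM hasym (isPGroup_map_conj S.2 g⁻¹)
    ((map_conj_inv_map_conj P g).ge.trans (Subgroup.map_mono hg))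
    (Subgroup.le_normalizer (conj_mem_map_conj (g := g⁻¹) hs))
  have h4 := le_normalizer_map _ (conj_mem_map_conj (g := g) h)
  simpa [mul_assoc] using h4

theorem hasCharP_map_conj {L : Subgroup G} (g : G)
    (h : L ⊓ Subgroup.centralizer (pCoreOf p L : Set G) ≤ pCoreOf p L) :
    L.map (MulAut.conj g).toMonoidHom ⊓
        Subgroup.centralizer (pCoreOf p (L.map (MulAut.conj g).toMonoidHom) : Set G) ≤
      pCoreOf p (L.map (MulAut.conj g).toMonoidHom) := by
  have h1 : ∀ (L : Subgroup G) (g : G), (pCoreOf p L).map (MulAut.conj g).toMonoidHom ≤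
      pCoreOf p (L.map (MulAut.conj g).toMonoidHom) := fun L g =>
    le_pCoreOf (Subgroup.map_mono (pCoreOf_le p L))
      ((Subgroup.map_mono (le_normalizer_pCoreOf p L)).trans (le_normalizer_map _))
      (isPGroup_map_conj (isPGroup_pCoreOf p L) g)
  refine le_trans ?_ (h1 L g)
  calc _ ≤ L.map (MulAut.conj g).toMonoidHom ⊓
        Subgroup.centralizer (((pCoreOf p L).map (MulAut.conj g).toMonoidHom : Subgroup G) : Set G) :=
      inf_le_inf_left _ (Subgroup.centralizer_le (h1 L g))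
    _ = (L ⊓ Subgroup.centralizer (pCoreOf p L : Set G)).map (MulAut.conj g).toMonoidHom := by
      rw [Subgroup.map_inf _ _ _ (MulAut.conj g).injective, coe_map_conj_centralizer]
    _ ≤ _ := Subgroup.map_mono h

theorem pCoreOf_map_conj_le {L : Subgroup G} (g : G) :
    pCoreOf p (L.map (MulAut.conj g).toMonoidHom) ≤
      (pCoreOf p L).map (MulAut.conj g).toMonoidHom := by
  rw [le_map_conj_iff]
  refine le_pCoreOf ?_ ?_ (isPGroup_map_conj (isPGroup_pCoreOf p _) _)
  · exact (Subgroup.map_mono (pCoreOf_le p _)).trans (map_conj_inv_map_conj L g).le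
  · exact ((map_conj_inv_map_conj L g).ge.trans
      (Subgroup.map_mono (le_normalizer_pCoreOf p _))).trans (le_normalizer_map _)

/-- An overgroup of `O_p(M)` inside a subgroup of characteristic `p` has characteristic `p`. -/
theorem frakM_charP_between (S : Sylow p G) (hQ : IsPGroup p Q) (hQ1 : Q ≠ ⊥) (hQl : IsLarge Q)
    (hSM : (S : Subgroup G) ≤ M) (hM : IsInFrakM p M) (hasym : ¬ IsSymmetricIn Y)
    {X H : Subgroup G} (hPX : P ≤ X) (hXH : X ≤ H)
    (hH : H ⊓ Subgroup.centralizer (pCoreOf p H : Set G) ≤ pCoreOf p H) :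
    X ⊓ Subgroup.centralizer (pCoreOf p X : Set G) ≤ pCoreOf p X :=
  charP_of_wc (frakM_wc S hQ hQ1 hQl hSM hM hasym) (frakM_centralizer_le hM) hPX (hPX.trans hXH)
    hH (inf_le_left.trans hXH)

end Cfsg.Agent.LocalStructure
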