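import Mathlib.LinearAlgebra.Matrix.GeneralLinearGroup.Defs
import Mathlib.GroupTheory.SpecificGroups.Alternating
import Mathlib.Data.ZMod.Basic
import Mathlib.Tactic

/-!
Subgroups `A₄` of `GL(2, ℤ/2ᵏ)`: they are conjugate.
-/

set_option autoImplicit false

namespace Cfsg.Agent.LocalStructure.AltFourGL

open Matrix

variable {k : ℕ}

/-- The matrix ring. -/
abbrev M (k : ℕ) : Type := Matrix (Fin 2) (Fin 2) (ZMod (2 ^ k))

/-- The matrix ring over the field with two elements. -/
abbrev M₂ : Type := Matrix (Fin 2) (Fin 2) (ZMod 2)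

/-- Reduction modulo two. -/
def red (hk : k ≠ 0) : M k →+* M₂ := (ZMod.castHom (dvd_pow_self 2 hk) (ZMod 2)).mapMatrix

theorem two_dvd_iff (hk : k ≠ 0) (x : ZMod (2 ^ k)) :
    ZMod.castHom (dvd_pow_self 2 hk) (ZMod 2) x = 0 ↔ 2 ∣ x.val := by
  have : NeZero (2 ^ k) := ⟨pow_ne_zero k two_ne_zero⟩
  conv_lhs => rw [← ZMod.natCast_rightInverse x, map_natCast]
  exact ZMod.natCast_eq_zero_iff _ 2

theorem red_eq_zero_iff (hk : k ≠ 0) (A : M k) :
    red hk A = 0 ↔ ∀ i j, 2 ∣ (A i j).val := by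
  constructor
  · intro h i j
    exact (two_dvd_iff hk _).mp (congrFun (congrFun h i) j)
  · intro h
    ext i j
    exact (two_dvd_iff hk _).mpr (h i j)

theorem exists_two_smul (hk : k ≠ 0) {A : M k} (h : red hk A = 0) :
    ∃ B : M k, A = (2 : ZMod (2 ^ k)) • B := by
  have : NeZero (2 ^ k) := ⟨pow_ne_zero k two_ne_zero⟩
  refine ⟨fun i j => (((A i j).val / 2 : ℕ) : ZMod (2 ^ k)), ?_⟩
  ext i j
  show A i j = (2 : ZMod (2 ^ k)) * (((A i j).val / 2 : ℕ) : ZMod (2 ^ k))
  conv_lhs => rw [← ZMod.natCast_rightInverse (A i j),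
    ← Nat.mul_div_cancel' ((red_eq_zero_iff hk A).mp h i j)]
  push_cast
  ring

theorem red_eq_zero_of_smul (hk : k ≠ 0) {i : ℕ} (hi : i < k) {A : M k}
    (h : (2 : ZMod (2 ^ k)) ^ i • A = 0) : red hk A = 0 := by
  have : NeZero (2 ^ k) := ⟨pow_ne_zero k two_ne_zero⟩
  rw [red_eq_zero_iff]
  intro a b
  have h1 : ((2 ^ i * (A a b).val : ℕ) : ZMod (2 ^ k)) = 0 := by
    push_cast
    rw [show (((A a b).val : ℕ) : ZMod (2 ^ k)) = A a b from ZMod.natCast_rightInverse _]
    exact congrFun (congrFun h a) b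
  rw [ZMod.natCast_eq_zero_iff] at h1
  generalize (A a b).val = m at h1 ⊢
  rw [show k = i + (k - i) by omega, pow_add] at h1
  exact (dvd_pow_self 2 (by omega)).trans ((Nat.mul_dvd_mul_iff_left (pow_pos two_pos i)).mp h1)

theorem smul_eq_zero_of_red (hk : k ≠ 0) {A : M k} (h : red hk A = 0) :
    (2 : ZMod (2 ^ k)) ^ (k - 1) • A = 0 := by
  obtain ⟨B, rfl⟩ := exists_two_smul hk h
  rw [smul_smul, ← pow_succ, show k - 1 + 1 = k by omega]
  have : (2 : ZMod (2 ^ k)) ^ k = 0 := by
    have := ZMod.natCast_self (2 ^ k)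
    push_cast at this
    exact this
  rw [this, zero_smul]

theorem red_smul (hk : k ≠ 0) (i : ℕ) (A : M k) :
    red hk ((2 : ZMod (2 ^ k)) ^ i • A) = (0 : ZMod 2) ^ i • red hk A := by
  ext a b
  show ZMod.castHom (dvd_pow_self 2 hk) (ZMod 2) (2 ^ i * A a b) = _
  rw [map_mul, map_pow, map_ofNat]
  rfl

/-- Powers of a congruent matrix. -/
theorem exists_pow_two_pow (hk : k ≠ 0) {A : M k} (hA : red hk A = 1) :
    ∀ j : ℕ, ∃ B : M k, A ^ 2 ^ j = 1 + (2 : ZMod (2 ^ k)) ^ (j + 1) • B := by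
  intro j
  induction j with
  | zero =>
    obtain ⟨B, hB⟩ := exists_two_smul hk (A := A - 1) (by rw [map_sub, hA, map_one, sub_self])
    exact ⟨B, by rw [pow_zero, pow_one, zero_add, pow_one, ← hB]; abel⟩
  | succ j ih =>
    obtain ⟨B, hB⟩ := ih
    refine ⟨B + (2 : ZMod (2 ^ k)) ^ j • (B * B), ?_⟩
    rw [pow_succ, pow_mul, hB, sq]
    simp only [add_mul, mul_add, one_mul, mul_one, smul_mul_assoc, mul_smul_comm, smul_smul,
      smul_add]
    rw [show (2 : ZMod (2 ^ k)) ^ (j + 1 + 1) = 2 ^ (j + 1) + 2 ^ (j + 1) by ring, add_smul,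
      show (2 ^ (j + 1) + 2 ^ (j + 1)) * 2 ^ j = (2 : ZMod (2 ^ k)) ^ (j + 1) * 2 ^ (j + 1) by ring]
    abel

theorem eq_one_of_red_eq_one (hk : k ≠ 0) {A : M k} (hA : red hk A = 1) (h3 : A ^ 3 = 1) :
    A = 1 := by
  obtain ⟨B, hB⟩ := exists_pow_two_pow hk hA (k - 1)
  rw [show k - 1 + 1 = k by omega] at hB
  have h0 : (2 : ZMod (2 ^ k)) ^ k = 0 := by
    have := ZMod.natCast_self (2 ^ k)
    push_cast at this
    exact this
  rw [h0, zero_smul, add_zero] at hB
  obtain ⟨m, hm⟩ := exists_pow_eq_self_of_coprime (x := A) (n := 2 ^ (k - 1))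
    ((Nat.Coprime.pow_right (k - 1) (by decide : Nat.Coprime 3 2)).coprime_dvd_left
      (orderOf_dvd_of_pow_eq_one h3)).symm
  rw [← hm, hB, one_pow]

/-- The standard element of order three. -/
def T (k : ℕ) : M k := !![0, -1; 1, -1]

/-- The standard element of order three, squared. -/
def T' (k : ℕ) : M k := !![-1, 1; -1, 0]

theorem T_mul_T' : T k * T' k = 1 := by
  ext i j; fin_cases i <;> fin_cases j <;> simp [T, T', Matrix.mul_apply, Fin.sum_univ_two]

theorem T'_mul_T : T' k * T k = 1 := by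
  ext i j; fin_cases i <;> fin_cases j <;> simp [T, T', Matrix.mul_apply, Fin.sum_univ_two]

/-- The standard element in the unit group. -/
def TU (k : ℕ) : GL (Fin 2) (ZMod (2 ^ k)) := ⟨T k, T' k, T_mul_T', T'_mul_T⟩

/-- Conjugation by `T` modulo two. -/
def cT (B : M₂) : M₂ := !![0, 1; 1, 1] * B * !![1, 1; 1, 0]

theorem red_T (hk : k ≠ 0) : red hk (T k) = !![0, 1; 1, 1] := by
  ext i j
  show ZMod.castHom (dvd_pow_self 2 hk) (ZMod 2) (T k i j) = _
  fin_cases i <;> fin_cases j <;> simp [T, -ZMod.castHom_apply]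

theorem red_T' (hk : k ≠ 0) : red hk (T' k) = !![1, 1; 1, 0] := by
  ext i j
  show ZMod.castHom (dvd_pow_self 2 hk) (ZMod 2) (T' k i j) = _
  fin_cases i <;> fin_cases j <;> simp [T', -ZMod.castHom_apply]

theorem red_conj (hk : k ≠ 0) (A : M k) : red hk (T k * A * T' k) = cT (red hk A) := by
  rw [map_mul, map_mul, red_T, red_T', cT]

theorem mod_two_neg : ∀ B : M₂, -B = B := by
  decide +kernel

theorem mod_two_idem : ∀ B : M₂, B + cT B + cT (cT B) = 0 → B * B + B = 0 → B = 0 := by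
  decide +kernel

theorem mod_two_orbit : ∀ B C : M₂, B ≠ 0 → C ≠ 0 → B + cT B + cT (cT B) = 0 →
    C + cT C + cT (cT C) = 0 → C = B ∨ C = cT B ∨ C = cT (cT B) := by
  decide +kernel

theorem mod_two_v : ∀ t v : M₂, t * t * t = 1 → t ≠ 1 → v * v = 1 →
    v * (t * v * (t * t)) = t * (t * v * (t * t)) * (t * t) → v = 1 := by
  decide +kernel

theorem mod_two_three : ∀ t : M₂, t * t * t = 1 → t ≠ 1 → t * t + t + 1 = 0 ∧ t 1 0 = 1 := by
  decide +kernel

/-- The involution is congruent to one modulo `2^(k-1)`. -/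
theorem exists_of_relations (hk : k ≠ 0) {v : M k} (hv : red hk v = 1) (h2 : v * v = 1)
    (hrel : v * (T k * v * T' k) = T k * (T k * v * T' k) * T' k) :
    ∃ B : M k, v = 1 + (2 : ZMod (2 ^ k)) ^ (k - 1) • B ∧
      red hk B + cT (red hk B) + cT (cT (red hk B)) = 0 := by
  have key : ∀ i : ℕ, 1 ≤ i → i < k → ∀ X : M k, v = 1 + (2 : ZMod (2 ^ k)) ^ i • X →
      red hk X + cT (red hk X) + cT (cT (red hk X)) = 0 := by
    intro i hi hik X hX
    set Y := T k * X * T' k with hY
    set Z := T k * Y * T' k with hZ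
    have hw : T k * v * T' k = 1 + (2 : ZMod (2 ^ k)) ^ i • Y := by
      rw [hX, hY]
      simp only [mul_add, add_mul, mul_one, mul_smul_comm, smul_mul_assoc, T_mul_T']
    have hu : T k * (T k * v * T' k) * T' k = 1 + (2 : ZMod (2 ^ k)) ^ i • Z := by
      rw [hw, hZ]
      simp only [mul_add, add_mul, mul_one, mul_smul_comm, smul_mul_assoc, T_mul_T']
    rw [hu, hw, hX] at hrel
    have e : (2 : ZMod (2 ^ k)) ^ i • (X + Y - Z + (2 : ZMod (2 ^ k)) ^ i • (X * Y)) = 0 := by
      rw [← sub_eq_zero] at hrel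
      rw [← hrel]
      simp only [mul_add, add_mul, mul_one, one_mul, mul_smul_comm, smul_mul_assoc, smul_add,
        smul_sub, smul_smul]
      abel
    have e2 := red_eq_zero_of_smul hk hik e
    rw [map_add, map_sub, map_add, red_smul, zero_pow (by omega), zero_smul, add_zero,
      sub_eq_add_neg, mod_two_neg, hZ, hY] at e2
    simp only [red_conj] at e2
    exact e2
  have step : ∀ i : ℕ, 1 ≤ i → i ≤ k - 1 → ∃ X : M k, v = 1 + (2 : ZMod (2 ^ k)) ^ i • X := by
    intro i hi
    induction i, hi using Nat.le_induction with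
    | base =>
      intro _
      obtain ⟨X, hX⟩ := exists_two_smul hk (A := v - 1) (by rw [map_sub, hv, map_one, sub_self])
      exact ⟨X, by rw [pow_one, ← hX]; abel⟩
    | succ i hi ih =>
      intro hik
      obtain ⟨X, hX⟩ := ih (by omega)
      have e : (2 : ZMod (2 ^ k)) ^ (i + 1) • (X + (2 : ZMod (2 ^ k)) ^ (i - 1) • (X * X)) = 0 := by
        have h3 := h2
        rw [hX, ← sub_eq_zero] at h3
        rw [← h3]
        simp only [mul_add, add_mul, mul_one, one_mul, mul_smul_comm, smul_mul_assoc, smul_add,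
          smul_smul]
        rw [show (2 : ZMod (2 ^ k)) ^ (i + 1) = 2 ^ i + 2 ^ i by ring,
          show (2 ^ i + 2 ^ i) * 2 ^ (i - 1) = (2 : ZMod (2 ^ k)) ^ i * 2 ^ i by
            obtain ⟨i', rfl⟩ := Nat.exists_eq_add_of_le' hi
            rw [Nat.add_sub_cancel]; ring]
        rw [add_smul]
        abel
      have e2 := red_eq_zero_of_smul hk (by omega) e
      rw [map_add, red_smul, map_mul] at e2
      have hX0 : red hk X = 0 := by
        rcases Nat.lt_or_ge 1 i with h | h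
        · rwa [zero_pow (by omega), zero_smul, add_zero] at e2
        · rw [show i - 1 = 0 by omega, pow_zero, one_smul, add_comm] at e2
          exact mod_two_idem _ (key i hi (by omega) X hX) e2
      obtain ⟨X', hX'⟩ := exists_two_smul hk hX0
      exact ⟨X', by rw [hX, hX', smul_smul, ← pow_succ]⟩
  rcases Nat.lt_or_ge 1 k with h | h
  · obtain ⟨B, hB⟩ := step (k - 1) (by omega) le_rfl
    exact ⟨B, hB, key (k - 1) (by omega) (by omega) B hB⟩
  · obtain rfl : k = 1 := by omega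
    refine ⟨0, ?_, by simp [cT]⟩
    have : Function.Injective (red (k := 1) hk) :=
      fun a b hab => Matrix.map_injective (ZMod.castHom_injective _) hab
    exact this (by rw [hv, smul_zero, add_zero, map_one])

/-- The data of an `A₄`: a generating pair. -/
theorem alternating_four_data : ∃ t v : alternatingGroup (Fin 4), t ^ 3 = 1 ∧ t ≠ 1 ∧ v * v = 1 ∧
    v ≠ 1 ∧ v * (t * v * t⁻¹) = t * (t * v * t⁻¹) * t⁻¹ ∧
    ∀ x, ∃ a b : Fin 2, ∃ c : Fin 3,
      x = v ^ (a : ℕ) * (t * v * t⁻¹) ^ (b : ℕ) * t ^ (c : ℕ) := by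
  decide +kernel

/-- Every `A₄` is conjugate to one generated by `T` and an involution with a standard shape. -/
theorem exists_conj_standard (hk : k ≠ 0) {H : Subgroup (GL (Fin 2) (ZMod (2 ^ k)))}
    (h : Nonempty (H ≃* alternatingGroup (Fin 4))) :
    ∃ (g v : GL (Fin 2) (ZMod (2 ^ k))) (B : M k),
      H = (Subgroup.closure {TU k, v}).map (MulAut.conj g).toMonoidHom ∧
      (v : M k) = 1 + (2 : ZMod (2 ^ k)) ^ (k - 1) • B ∧ red hk B ≠ 0 ∧
      red hk B + cT (red hk B) + cT (cT (red hk B)) = 0 := by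
  obtain ⟨e⟩ := h
  obtain ⟨t₀, v₀, ht3, ht1, hv2, hv1, hrel, hgen⟩ := alternating_four_data
  set ι : alternatingGroup (Fin 4) →* GL (Fin 2) (ZMod (2 ^ k)) :=
    H.subtype.comp e.symm.toMonoidHom
  have hι : Function.Injective ι := Subtype.val_injective.comp e.symm.injective
  set t := ι t₀ with ht
  set v := ι v₀ with hv
  have hH : H = Subgroup.closure {t, v} := by
    refine le_antisymm (fun x hx => ?_) ((Subgroup.closure_le _).mpr ?_)
    · obtain ⟨a, b, c, hc⟩ := hgen (e ⟨x, hx⟩)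
      have hxι : x = ι (e ⟨x, hx⟩) := by simp [ι]
      rw [hxι, hc]
      simp only [map_mul, map_pow, map_inv, ← ht, ← hv]
      have h1 : t ∈ Subgroup.closure ({t, v} : Set _) := Subgroup.subset_closure (by simp)
      have h2 : v ∈ Subgroup.closure ({t, v} : Set _) := Subgroup.subset_closure (by simp)
      exact mul_mem (mul_mem (pow_mem h2 _) (pow_mem (mul_mem (mul_mem h1 h2) (inv_mem h1)) _))
        (pow_mem h1 _)
    · rintro x (rfl | rfl) <;> exact (e.symm _).2
  have hT3 : t ^ 3 = 1 := by rw [ht, ← map_pow, ht3, map_one]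
  have hti : t⁻¹ = t * t := inv_eq_of_mul_eq_one_right (by rw [← mul_assoc, ← sq, ← pow_succ, hT3])
  have hti' : ((t⁻¹ : GL (Fin 2) (ZMod (2 ^ k))) : M k) = t * t := by rw [hti, Units.val_mul]
  have hv2' : (v : M k) * v = 1 := by
    rw [← Units.val_mul, hv, ← map_mul, hv2, map_one, Units.val_one]
  have hrelv : v * (t * v * t⁻¹) = t * (t * v * t⁻¹) * t⁻¹ := by
    simpa only [map_mul, map_inv, ← ht, ← hv] using congrArg ι hrel
  have hrt : red hk t ≠ 1 := fun h1 => ht1 (hι (by
    rw [map_one]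
    exact Units.ext (eq_one_of_red_eq_one hk h1 (by rw [← Units.val_pow_eq_pow_val, hT3, Units.val_one]))))
  have hrt3 : red hk t * red hk t * red hk t = 1 := by
    rw [← map_mul, ← map_mul, ← Units.val_mul, ← Units.val_mul,
      show t * t * t = 1 by rw [← sq, ← pow_succ, hT3], Units.val_one, map_one]
  have hrv : red hk v = 1 := by
    refine mod_two_v _ _ hrt3 hrt (by rw [← map_mul, hv2', map_one]) ?_
    have := congrArg (fun u : GL (Fin 2) (ZMod (2 ^ k)) => red hk (u : M k)) hrelv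
    simpa only [Units.val_mul, hti', map_mul] using this
  -- a change of basis
  obtain ⟨hq, h10⟩ := mod_two_three _ hrt3 hrt
  have ht2 : (t : M k) * t + t + 1 = 0 := by
    set A := (t : M k) * t + t + 1 with hA
    have hzero : ((t : M k) - 1) * A = 0 := by
      have : (t : M k) * t * t = 1 := by
        rw [← Units.val_mul, ← Units.val_mul, show t * t * t = 1 by rw [← sq, ← pow_succ, hT3],
          Units.val_one]
      rw [hA]
      simp only [mul_add, sub_mul, mul_one, one_mul, ← mul_assoc, this]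
      abel
    have hu : IsUnit ((t : M k) - 1).det := by
      have : NeZero (2 ^ k) := ⟨pow_ne_zero k two_ne_zero⟩
      have hcop : ¬ 2 ∣ ((t : M k) - 1).det.val := by
        rw [← two_dvd_iff hk]
        rw [RingHom.map_det]
        show (red hk ((t : M k) - 1)).det ≠ 0
        rw [map_sub, map_one]
        have key : ∀ u : M₂, u * u * u = 1 → u ≠ 1 → (u - 1).det ≠ 0 := by decide +kernel
        exact key _ hrt3 hrt
      rw [← ZMod.natCast_rightInverse ((t : M k) - 1).det, ZMod.isUnit_iff_coprime]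
      exact ((Nat.prime_two.coprime_iff_not_dvd.mpr hcop).pow_left k).symm
    calc A = (((t : M k) - 1)⁻¹ * ((t : M k) - 1)) * A := by rw [Matrix.nonsing_inv_mul _ hu, one_mul]
      _ = 0 := by rw [mul_assoc, hzero, mul_zero]
  have hu10 : IsUnit ((t : M k) 1 0) := by
    have : NeZero (2 ^ k) := ⟨pow_ne_zero k two_ne_zero⟩
    have hcop : ¬ 2 ∣ ((t : M k) 1 0).val := by
      rw [← two_dvd_iff hk]
      show red hk t 1 0 ≠ 0
      rw [h10]; decide
    rw [← ZMod.natCast_rightInverse ((t : M k) 1 0), ZMod.isUnit_iff_coprime]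
    exact ((Nat.prime_two.coprime_iff_not_dvd.mpr hcop).pow_left k).symm
  set g₀ : M k := !![1, (t : M k) 0 0; 0, (t : M k) 1 0] with hg₀
  have hg₀u : IsUnit g₀ := by
    rw [Matrix.isUnit_iff_isUnit_det, hg₀, Matrix.det_fin_two]
    simpa using hu10
  obtain ⟨g, hg⟩ := hg₀u
  have htg : t * g = g * TU k := by
    apply Units.ext
    rw [Units.val_mul, Units.val_mul, hg]
    have e00 := congrFun (congrFun ht2 0) 0
    have e10 := congrFun (congrFun ht2 1) 0
    simp only [Matrix.add_apply, Matrix.mul_apply, Fin.sum_univ_two, Matrix.one_apply_eq,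
      Matrix.zero_apply] at e00
    simp only [Matrix.add_apply, Matrix.mul_apply, Fin.sum_univ_two, Matrix.zero_apply,
      Matrix.one_apply_ne (show (1 : Fin 2) ≠ 0 by decide)] at e10
    show (t : M k) * g₀ = g₀ * T k
    ext i j
    fin_cases i <;> fin_cases j <;>
      simp [hg₀, T, Matrix.mul_apply, Fin.sum_univ_two]
    · linear_combination e00
    · linear_combination e10
  have hTU : t = g * TU k * g⁻¹ := eq_mul_inv_of_mul_eq htg
  set w := g⁻¹ * v * g with hw
  have hwrel : w * (TU k * w * (TU k)⁻¹) = TU k * (TU k * w * (TU k)⁻¹) * (TU k)⁻¹ := by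
    have := congrArg (fun u => g⁻¹ * u * g) hrelv
    simp only [hTU] at this
    rw [hw]
    convert this using 1 <;> group
  have hw2 : w * w = 1 := by
    rw [hw]
    calc g⁻¹ * v * g * (g⁻¹ * v * g) = g⁻¹ * (v * v) * g := by group
      _ = 1 := by rw [hv, ← map_mul, hv2, map_one]; group
  have hwred : red hk w = 1 := by
    rw [hw, Units.val_mul, Units.val_mul, map_mul, map_mul, hrv, mul_one, ← map_mul,
      Units.inv_mul, map_one]
  have hrel' : (w : M k) * (T k * w * T' k) = T k * (T k * w * T' k) * T' k :=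
    congrArg Units.val hwrel
  obtain ⟨B, hB, hBsum⟩ := exists_of_relations hk hwred (congrArg Units.val hw2) hrel'
  refine ⟨g, w, B, ?_, hB, fun hB0 => hv1 ?_, hBsum⟩
  · rw [hH, MonoidHom.map_closure]
    congr 1
    rw [Set.image_pair]
    show _ = ({g * TU k * g⁻¹, g * w * g⁻¹} : Set _)
    rw [← hTU, show g * w * g⁻¹ = v by rw [hw]; group]
  · apply hι
    rw [map_one, ← hv]
    have hw1 : w = 1 := Units.ext (by rw [hB, smul_eq_zero_of_red hk hB0, add_zero, Units.val_one])
    calc v = g * w * g⁻¹ := by rw [hw]; group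
      _ = 1 := by rw [hw1]; group

/-- All subgroups `A₄` are conjugate. -/
theorem exists_conj (hk : k ≠ 0) {H₁ H₂ : Subgroup (GL (Fin 2) (ZMod (2 ^ k)))}
    (h₁ : Nonempty (H₁ ≃* alternatingGroup (Fin 4)))
    (h₂ : Nonempty (H₂ ≃* alternatingGroup (Fin 4))) :
    ∃ g, H₂ = H₁.map (MulAut.conj g).toMonoidHom := by
  obtain ⟨g₁, v₁, B₁, hH₁, hv₁, hn₁, hs₁⟩ := exists_conj_standard hk h₁
  obtain ⟨g₂, v₂, B₂, hH₂, hv₂, hn₂, hs₂⟩ := exists_conj_standard hk h₂
  have hcl : Subgroup.closure {TU k, v₂} = Subgroup.closure {TU k, v₁} := by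
    have hjump : ∀ C : M k, red hk B₂ = red hk C →
        (v₂ : M k) = 1 + (2 : ZMod (2 ^ k)) ^ (k - 1) • C := by
      intro C hC
      rw [hv₂, ← sub_eq_zero, add_sub_add_left_eq_sub, ← smul_sub]
      exact smul_eq_zero_of_red hk (by rw [map_sub, hC, sub_self])
    have hc : ∀ B : M k, T k * (1 + (2 : ZMod (2 ^ k)) ^ (k - 1) • B) * T' k =
        1 + (2 : ZMod (2 ^ k)) ^ (k - 1) • (T k * B * T' k) := fun B => by
      simp only [mul_add, add_mul, mul_one, mul_smul_comm, smul_mul_assoc, T_mul_T']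
    have hm : v₂ = v₁ ∨ v₂ = TU k * v₁ * (TU k)⁻¹ ∨
        v₂ = TU k * (TU k * v₁ * (TU k)⁻¹) * (TU k)⁻¹ := by
      rcases mod_two_orbit _ _ hn₁ hn₂ hs₁ hs₂ with h | h | h
      · exact Or.inl (Units.ext ((hjump B₁ h).trans hv₁.symm))
      · refine Or.inr (Or.inl (Units.ext ((hjump (T k * B₁ * T' k) ?_).trans ?_)))
        · rw [red_conj, h]
        · rw [← hc, ← hv₁]; rfl
      · refine Or.inr (Or.inr (Units.ext ((hjump (T k * (T k * B₁ * T' k) * T' k) ?_).trans ?_)))
        · rw [red_conj, red_conj, h]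
        · rw [← hc, ← hc, ← hv₁]; rfl
    have hTm : ∀ v : GL (Fin 2) (ZMod (2 ^ k)), TU k ∈ Subgroup.closure ({TU k, v} : Set _) :=
      fun v => Subgroup.subset_closure (by simp)
    have hvm : ∀ v : GL (Fin 2) (ZMod (2 ^ k)), v ∈ Subgroup.closure ({TU k, v} : Set _) :=
      fun v => Subgroup.subset_closure (by simp)
    refine le_antisymm ((Subgroup.closure_le _).mpr ?_) ((Subgroup.closure_le _).mpr ?_)
    · rintro x (rfl | rfl)
      · exact hTm _
      · have hT := hTm v₁
        have hv := hvm v₁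
        rcases hm with h | h | h <;> rw [h]
        · exact hv
        · exact mul_mem (mul_mem hT hv) (inv_mem hT)
        · exact mul_mem (mul_mem hT (mul_mem (mul_mem hT hv) (inv_mem hT))) (inv_mem hT)
    · rintro x (rfl | rfl)
      · exact hTm _
      · have hT := hTm v₂
        have hv := hvm v₂
        rcases hm with h | h | h
        · rw [← h]; exact hv
        · rw [show x = (TU k)⁻¹ * v₂ * TU k by rw [h]; group]
          exact mul_mem (mul_mem (inv_mem hT) hv) hT
        · rw [show x = (TU k)⁻¹ * ((TU k)⁻¹ * v₂ * TU k) * TU k by rw [h]; group]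
          exact mul_mem (mul_mem (inv_mem hT) (mul_mem (mul_mem (inv_mem hT) hv) hT)) hT
  refine ⟨g₂ * g₁⁻¹, ?_⟩
  rw [hH₁, hH₂, hcl, Subgroup.map_map]
  refine congrArg (fun f => Subgroup.map f _) (MonoidHom.ext fun x => ?_)
  show g₂ * x * g₂⁻¹ = g₂ * g₁⁻¹ * (g₁ * x * g₁⁻¹) * (g₂ * g₁⁻¹)⁻¹
  group

end Cfsg.Agent.LocalStructure.AltFourGL
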