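import Cfsg.Agent.Lib.LocalStructure.WeaklyClosed
import Cfsg.Agent.Lib.PGroup.ElementaryAbelian

/-! Averaging over the cosets of a Sylow subgroup, and the A × B lemma for abelian groups. -/

set_option autoImplicit false

open Subgroup
open scoped commutatorElement

namespace Cfsg.Agent.LocalStructure

variable {G : Type*} [Group G] {p : ℕ}

/-- If `T ≤ L` centralises `z` in the abelian `L`-invariant group `V` and `L` moves `z` only
inside `W`, then `z ^ |L : T|` is congruent modulo `W` to a point fixed by `L`. -/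
theorem exists_average [Finite G] {V L T W : Subgroup G} (hV : IsMulCommutative ↥V)
    (hLV : L ≤ normalizer (V : Set G)) {z : G} (hz : z ∈ V)
    (hT : T ≤ Subgroup.centralizer ({z} : Set G))
    (hW : ∀ g ∈ L, g * z * g⁻¹ * z⁻¹ ∈ W) :
    ∃ N ∈ V ⊓ Subgroup.centralizer (L : Set G), z ^ T.relIndex L * N⁻¹ ∈ V ⊓ W := by
  classical
  letI : CommGroup ↥V :=
    { (inferInstance : Group ↥V) with mul_comm := fun a b => hV.is_comm.comm a b }
  letI : Fintype (↥L ⧸ T.subgroupOf L) := Fintype.ofFinite _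
  let c : ↥L → ↥V := fun l =>
    ⟨(l : G) * z * (l : G)⁻¹, (mem_normalizer_iff.1 (hLV l.2) z).1 hz⟩
  have hc : ∀ a b : ↥L, a⁻¹ * b ∈ T.subgroupOf L → c a = c b := by
    intro a b h
    have hcm : ((a⁻¹ * b : ↥L) : G) * z = z * ((a⁻¹ * b : ↥L) : G) :=
      Subgroup.mem_centralizer_singleton_iff.1 (hT h)
    refine Subtype.ext ?_
    have e : (b : G) = (a : G) * ((a⁻¹ * b : ↥L) : G) := by simp
    show (a : G) * z * (a : G)⁻¹ = (b : G) * z * (b : G)⁻¹
    rw [e]
    calc (a : G) * z * (a : G)⁻¹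
        = a * (z * ((a⁻¹ * b : ↥L) : G)) * ((a⁻¹ * b : ↥L) : G)⁻¹ * (a : G)⁻¹ := by group
      _ = a * (((a⁻¹ * b : ↥L) : G) * z) * ((a⁻¹ * b : ↥L) : G)⁻¹ * (a : G)⁻¹ := by rw [hcm]
      _ = _ := by group
  let f : ↥L ⧸ T.subgroupOf L → ↥V := fun q =>
    Quotient.liftOn' q c fun a b h => hc a b (by rwa [QuotientGroup.leftRel_apply] at h)
  have hf : ∀ l : ↥L, f (QuotientGroup.mk l) = c l := fun l => rfl
  set N := ∏ q, f q with hN
  refine ⟨(N : G), ⟨N.2, Subgroup.mem_centralizer_iff.2 fun l hl => ?_⟩, ?_⟩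
  · let φ : ↥V →* ↥V :=
      { toFun := fun v => ⟨l * (v : G) * l⁻¹, (mem_normalizer_iff.1 (hLV hl) _).1 v.2⟩
        map_one' := Subtype.ext (by simp)
        map_mul' := fun a b => Subtype.ext (by simp [mul_assoc]) }
    have h1 : φ N = N := by
      rw [hN, map_prod]
      refine Fintype.prod_equiv (MulAction.toPerm (⟨l, hl⟩ : ↥L)) _ _ fun q => ?_
      induction q using QuotientGroup.induction_on with
      | H a =>
        refine Subtype.ext ?_
        show l * ((a : G) * z * (a : G)⁻¹) * l⁻¹ = ((f ((⟨l, hl⟩ : ↥L) • (QuotientGroup.mk a))) : G)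
        show _ = ((c (⟨l, hl⟩ * a)) : G)
        show _ = (l * (a : G)) * z * (l * (a : G))⁻¹
        group
    have h2 := congrArg Subtype.val h1
    show l * (N : G) = (N : G) * l
    calc l * (N : G) = l * (N : G) * l⁻¹ * l := by group
      _ = (N : G) * l := by rw [show l * (N : G) * l⁻¹ = (N : G) from h2]
  · set zz : ↥V := ⟨z, hz⟩
    have h1 : ∀ q, f q * zz⁻¹ ∈ W.subgroupOf V := by
      intro q
      induction q using QuotientGroup.induction_on with
      | H a =>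
        rw [Subgroup.mem_subgroupOf, hf]
        exact hW a a.2
    have h2 : N * (zz ^ T.relIndex L)⁻¹ ∈ W.subgroupOf V := by
      have h3 := prod_mem (t := Finset.univ) (fun q (_ : q ∈ Finset.univ) => h1 q)
      rwa [Finset.prod_mul_distrib, Finset.prod_const, Finset.card_univ, ← Nat.card_eq_fintype_card,
        inv_pow, ← hN] at h3
    have h4 := (W.subgroupOf V).inv_mem h2
    rw [mul_inv_rev, inv_inv] at h4
    exact ⟨V.mul_mem (V.pow_mem hz _) (V.inv_mem N.2), by simpa [Subgroup.mem_subgroupOf, zz] using h4⟩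

/-- A vector fixed by a Sylow subgroup of `L` is congruent modulo `⁅V, O^p(L)⁆` to one fixed by
`L`. -/
theorem mem_fixed_sup [Finite G] [Fact p.Prime] {V L R : Subgroup G}
    (hV : IsElementaryAbelian p V) (hLV : L ≤ normalizer (V : Set G)) (hR : IsSylowIn p R L)
    {z : G} (hz : z ∈ V) (hzR : R ≤ Subgroup.centralizer ({z} : Set G)) :
    z ∈ (V ⊓ Subgroup.centralizer (L : Set G)) ⊔ ⁅V, resOf p L⁆ := by
  have hn : (R.relIndex L).Coprime p := by
    obtain ⟨P, hP⟩ := hR.exists_sylow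
    rw [Subgroup.relIndex, ← hP]
    exact ((Fact.out : p.Prime).coprime_iff_not_dvd.2 P.not_dvd_index).symm
  have hrR : R ≤ normalizer (resOf p L : Set G) := hR.1.trans (le_normalizer_resOf p L)
  obtain ⟨N, hN, hw⟩ := exists_average (W := ⁅V, resOf p L⁆) hV.1 hLV hz hzR (fun g hg => by
    obtain ⟨r, hr, t, ht, rfl⟩ : ∃ r ∈ resOf p L, ∃ t ∈ R, r * t = g := by
      rw [← hR.resOf_sup, sup_comm] at hg
      exact exists_mul_of_mem_sup' hrR hg
    have h1 : t * z = z * t := Subgroup.mem_centralizer_singleton_iff.1 (hzR ht)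
    have e : r * t * z * (r * t)⁻¹ * z⁻¹ = ⁅r, z⁆ := by
      rw [commutatorElement_def]
      calc r * t * z * (r * t)⁻¹ * z⁻¹ = r * (t * z) * t⁻¹ * r⁻¹ * z⁻¹ := by group
        _ = r * (z * t) * t⁻¹ * r⁻¹ * z⁻¹ := by rw [h1]
        _ = r * z * r⁻¹ * z⁻¹ := by group
    rw [e, Subgroup.commutator_comm]
    exact commutator_mem_commutator hr hz)
  have h2 : z ^ R.relIndex L ∈ (V ⊓ Subgroup.centralizer (L : Set G)) ⊔ ⁅V, resOf p L⁆ := by
    have := mul_mem (le_sup_right (a := V ⊓ Subgroup.centralizer (L : Set G)) hw.2)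
      (le_sup_left (b := ⁅V, resOf p L⁆) hN)
    simpa using this
  obtain ⟨m, hm⟩ := exists_pow_eq_self_of_coprime (x := z) (n := R.relIndex L)
    (hn.coprime_dvd_right (orderOf_dvd_of_pow_eq_one (hV.2 z hz)))
  rw [← hm]
  exact pow_mem h2 m

/-- A × B lemma for abelian `V`: a `p'`-element commuting with the action of the `p`-group `D`
on `V` and centralising `C_V(D)` centralises `V`. -/
theorem commute_of_centralize_fixed [Finite G] [Fact p.Prime] {V D : Subgroup G}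
    (hV : IsMulCommutative ↥V) (hVp : IsPGroup p ↥V)
    (hDV : D ≤ normalizer (V : Set G)) (hD : IsPGroup p D) {x : G}
    (hxV : x ∈ normalizer (V : Set G)) (hx : (orderOf x).Coprime p)
    (hcomm : ∀ d ∈ D, ⁅d, x⁆ ∈ Subgroup.centralizer (V : Set G))
    (hfix : ∀ v ∈ V ⊓ Subgroup.centralizer (D : Set G), Commute x v) :
    ∀ v ∈ V, Commute x v := by
  have hVc : ∀ a ∈ V, ∀ b ∈ V, a * b = b * a := fun a ha b hb =>
    PGroup.mul_comm_of_isMulCommutative hV ha hb
  have hmem : ∀ v ∈ V, x * v * x⁻¹ ∈ V := fun v hv => (mem_normalizer_iff.1 hxV v).1 hv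
  let W : Subgroup G :=
    { carrier := {w | ∃ v ∈ V, x * v * x⁻¹ * v⁻¹ = w}
      one_mem' := ⟨1, V.one_mem, by simp⟩
      mul_mem' := by
        rintro _ _ ⟨a, ha, rfl⟩ ⟨b, hb, rfl⟩
        refine ⟨a * b, V.mul_mem ha hb, ?_⟩
        have e := hVc _ (V.inv_mem ha) _ (V.mul_mem (hmem b hb) (V.inv_mem hb))
        calc x * (a * b) * x⁻¹ * (a * b)⁻¹
            = (x * a * x⁻¹) * ((x * b * x⁻¹ * b⁻¹) * a⁻¹) := by group
          _ = (x * a * x⁻¹) * (a⁻¹ * (x * b * x⁻¹ * b⁻¹)) := by rw [e]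
          _ = x * a * x⁻¹ * a⁻¹ * (x * b * x⁻¹ * b⁻¹) := by group
      inv_mem' := by
        rintro _ ⟨a, ha, rfl⟩
        refine ⟨a⁻¹, V.inv_mem ha, ?_⟩
        have e := hVc _ (hmem _ (V.inv_mem ha)) _ ha
        calc x * a⁻¹ * x⁻¹ * a⁻¹⁻¹ = (x * a⁻¹ * x⁻¹) * a := by group
          _ = a * (x * a⁻¹ * x⁻¹) := e
          _ = _ := by group }
  have hWV : W ≤ V := by
    rintro _ ⟨v, hv, rfl⟩
    exact V.mul_mem (hmem v hv) (V.inv_mem hv)
  have hDW : D ≤ normalizer (W : Set G) := by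
    rw [le_normalizer_iff]
    rintro d hd _ ⟨v, hv, rfl⟩
    have hv' : d * v * d⁻¹ ∈ V := (mem_normalizer_iff.1 (hDV hd) v).1 hv
    refine ⟨_, hv', ?_⟩
    have e := Subgroup.mem_centralizer_iff.1 (hcomm d hd) _ (hmem _ hv')
    calc x * (d * v * d⁻¹) * x⁻¹ * (d * v * d⁻¹)⁻¹
        = ((x * (d * v * d⁻¹) * x⁻¹) * ⁅d, x⁆) * ⁅d, x⁆⁻¹ * (d * v * d⁻¹)⁻¹ := by group
      _ = (⁅d, x⁆ * (x * (d * v * d⁻¹) * x⁻¹)) * ⁅d, x⁆⁻¹ * (d * v * d⁻¹)⁻¹ := by rw [e]
      _ = _ := by rw [commutatorElement_def]; group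
  intro v hv
  by_contra hne
  have hW1 : W ≠ ⊥ := fun e => hne (by
    have h1 : x * v * x⁻¹ * v⁻¹ ∈ W := ⟨v, hv, rfl⟩
    rw [e, Subgroup.mem_bot] at h1
    exact mul_inv_eq_iff_eq_mul.1 (mul_inv_eq_one.1 h1))
  apply inf_centralizer_ne_bot (hVp.to_le hWV) hW1 hD hDW
  rw [eq_bot_iff]
  intro w hw
  obtain ⟨u, hu, e⟩ := hw.1
  have hxw : Commute x w := hfix w ⟨hWV hw.1, hw.2⟩
  have huw : Commute x u := commute_of_stabilize (W := Subgroup.zpowers w)
    (hVp.to_le (zpowers_le.2 (hWV hw.1))) hx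
    (fun w' hw' => by
      obtain ⟨k, rfl⟩ := Subgroup.mem_zpowers_iff.1 hw'
      exact hxw.zpow_right k)
    (by rw [commutatorElement_def, e]; exact mem_zpowers w)
  rw [Subgroup.mem_bot, ← e, huw.eq]
  group

end Cfsg.Agent.LocalStructure
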