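import Mathlib.GroupTheory.SpecificGroups.Dihedral
import Mathlib.GroupTheory.Sylow
import Mathlib.Data.ZMod.Basic
import Mathlib.Algebra.Field.ZMod
import Cfsg.Agent.Lib.Involution.Dihedral

/-!
An involution inverting an element which acts fixed-point-freely on a normal subgroup.
-/

set_option autoImplicit false

namespace Cfsg.Agent.LocalStructure

open Subgroup

variable {G : Type*} [Group G] [Finite G]

theorem eq_one_of_commute {Q : Subgroup G} {x : G} (hfp : ∀ q ∈ Q, q * x = x * q → q = 1)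
    {u v : G} (hu : u ∈ Q) (hv : v ∈ Q) (h : u * x * u⁻¹ = v * x * v⁻¹) : u = v := by
  have h1 : v⁻¹ * u = 1 := by
    refine hfp _ (Q.mul_mem (Q.inv_mem hv) hu) ?_
    calc v⁻¹ * u * x = v⁻¹ * (u * x * u⁻¹) * u := by group
      _ = v⁻¹ * (v * x * v⁻¹) * u := by rw [h]
      _ = x * (v⁻¹ * u) := by group
  exact (inv_mul_eq_one.1 h1).symm

theorem exists_conj_eq_mul {Q : Subgroup G} [Q.Normal] {x : G}
    (hfp : ∀ q ∈ Q, q * x = x * q → q = 1) {q : G} (hq : q ∈ Q) :
    ∃ w ∈ Q, w * x * w⁻¹ = q * x := by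
  have hn : Q.Normal := inferInstance
  let f : Q → Q := fun w => ⟨(w : G) * x * (w : G)⁻¹ * x⁻¹, by
    rw [show (w : G) * x * (w : G)⁻¹ * x⁻¹ = (w : G) * (x * (w : G)⁻¹ * x⁻¹) by group]
    exact Q.mul_mem w.2 (hn.conj_mem _ (Q.inv_mem w.2) x)⟩
  have hinj : Function.Injective f := fun u v h => Subtype.ext <|
    eq_one_of_commute hfp u.2 v.2 (mul_right_cancel (congrArg Subtype.val h))
  obtain ⟨w, hw⟩ := Finite.surjective_of_injective hinj ⟨q, hq⟩
  exact ⟨w, w.2, mul_inv_eq_iff_eq_mul.1 (congrArg Subtype.val hw)⟩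

theorem orderOf_mul_eq {Q : Subgroup G} [Q.Normal] {x : G}
    (hfp : ∀ q ∈ Q, q * x = x * q → q = 1) {q : G} (hq : q ∈ Q) :
    orderOf (q * x) = orderOf x := by
  obtain ⟨w, -, hw⟩ := exists_conj_eq_mul hfp hq
  rw [← hw]
  exact orderOf_injective (MulAut.conj w).toMonoidHom (MulAut.conj w).injective x

theorem card_mul_card_centralizer {Q : Subgroup G} [Q.Normal] {x a : G}
    (hfp : ∀ q ∈ Q, q * x = x * q → q = 1) (ha : a * a = 1) (hinv : a * x * a⁻¹ = x⁻¹) :
    Nat.card ↥(Q ⊓ centralizer ({a} : Set G)) * Nat.card ↥(Q ⊓ centralizer ({a * x} : Set G)) =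
      Nat.card Q := by
  have hn : Q.Normal := inferInstance
  have hainv : a⁻¹ = a := inv_eq_of_mul_eq_one_left ha
  let F : ↥Q × (↥(Q ⊓ centralizer ({a} : Set G)) × ↥(Q ⊓ centralizer ({a * x} : Set G))) →
      ↥Q × ↥Q := fun p => (p.1 * ⟨p.2.1, p.2.1.2.1⟩, p.1 * ⟨p.2.2, p.2.2.2.1⟩)
  have hF : Function.Bijective F := by
    constructor
    · rintro ⟨w, s, t⟩ ⟨w', s', t'⟩ h
      have h1 : (w : G) * s = w' * s' := congrArg (fun p : ↥Q × ↥Q => (p.1 : G)) h
      have h2 : (w : G) * t = w' * t' := congrArg (fun p : ↥Q × ↥Q => (p.2 : G)) h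
      have hd : ((w' : G)⁻¹ * w) = 1 := by
        have e1 : (w' : G)⁻¹ * w = s' * (s : G)⁻¹ := by
          rw [eq_mul_inv_iff_mul_eq, mul_assoc, h1, inv_mul_cancel_left]
        have e2 : (w' : G)⁻¹ * w = t' * (t : G)⁻¹ := by
          rw [eq_mul_inv_iff_mul_eq, mul_assoc, h2, inv_mul_cancel_left]
        have c1 := Subgroup.mul_mem _ s'.2.2 (Subgroup.inv_mem _ s.2.2)
        have c2 := Subgroup.mul_mem _ t'.2.2 (Subgroup.inv_mem _ t.2.2)
        rw [← e1] at c1
        rw [← e2] at c2
        rw [mem_centralizer_singleton_iff] at c1 c2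
        refine hfp _ (Q.mul_mem (Q.inv_mem w'.2) w.2) ?_
        set d := (w' : G)⁻¹ * w
        calc d * x = d * (a * (a * x)) := by rw [← mul_assoc a, ha, one_mul]
          _ = (d * a) * (a * x) := by group
          _ = (a * d) * (a * x) := by rw [c1]
          _ = a * (d * (a * x)) := by group
          _ = a * ((a * x) * d) := by rw [c2]
          _ = (a * a) * (x * d) := by group
          _ = x * d := by rw [ha, one_mul]
      have hw : w = w' := Subtype.ext (inv_mul_eq_one.1 hd).symm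
      subst hw
      have hs : s = s' := Subtype.ext (mul_left_cancel h1)
      have ht : t = t' := Subtype.ext (mul_left_cancel h2)
      rw [hs, ht]
    · rintro ⟨u, v⟩
      set b := (u : G) * a * (u : G)⁻¹ with hb
      set c := (v : G) * (a * x) * (v : G)⁻¹ with hc
      have hq : b * c * x⁻¹ ∈ Q := by
        rw [← QuotientGroup.eq_one_iff, hb, hc]
        have hu := (QuotientGroup.eq_one_iff (u : G)).2 u.2
        have hv := (QuotientGroup.eq_one_iff (v : G)).2 v.2
        simp only [QuotientGroup.mk_mul, QuotientGroup.mk_inv, hu, hv, one_mul, inv_one, mul_one]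
        rw [← mul_assoc, ← QuotientGroup.mk_mul, ha, QuotientGroup.mk_one, one_mul, mul_inv_cancel]
      obtain ⟨w, hw, hwx⟩ := exists_conj_eq_mul hfp hq
      rw [inv_mul_cancel_right] at hwx
      have hax : a * x * (a * x) = 1 := by
        calc a * x * (a * x) = (a * x * a⁻¹) * (a * a) * x := by group
          _ = 1 := by rw [hinv, ha]; group
      have hbb : b * b = 1 := by
        calc b * b = (u : G) * (a * a) * (u : G)⁻¹ := by rw [hb]; group
          _ = 1 := by rw [ha]; group
      have hcc : c * c = 1 := by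
        calc c * c = (v : G) * (a * x * (a * x)) * (v : G)⁻¹ := by rw [hc]; group
          _ = 1 := by rw [hax]; group
      have hbinv : b⁻¹ = b := inv_eq_of_mul_eq_one_left hbb
      have hcinv : c⁻¹ = c := inv_eq_of_mul_eq_one_left hcc
      set b' := w⁻¹ * b * w with hb'
      set c' := w⁻¹ * c * w with hc'
      have hx' : b' * c' = x := by
        calc b' * c' = w⁻¹ * (b * c) * w := by rw [hb', hc']; group
          _ = x := by rw [← hwx]; group
      have hbx : b' * x * b'⁻¹ = x⁻¹ := by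
        rw [← hx']
        calc b' * (b' * c') * b'⁻¹ = w⁻¹ * (b * b * c * b⁻¹) * w := by rw [hb', hc']; group
          _ = w⁻¹ * (c * b) * w := by rw [hbb, one_mul, hbinv]
          _ = w⁻¹ * (c⁻¹ * b⁻¹) * w := by rw [hbinv, hcinv]
          _ = (b' * c')⁻¹ := by rw [hb', hc']; group
      have hdQ : a⁻¹ * b' ∈ Q := by
        rw [← QuotientGroup.eq, hb', hb]
        have hu := (QuotientGroup.eq_one_iff (u : G)).2 u.2
        have hwq := (QuotientGroup.eq_one_iff (w : G)).2 hw
        simp only [QuotientGroup.mk_mul, QuotientGroup.mk_inv, hu, hwq, one_mul, inv_one, mul_one]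
      have hba : b' = a := by
        have : a⁻¹ * b' = 1 := by
          refine hfp _ hdQ ?_
          have e : a⁻¹ * b' * x * (a⁻¹ * b')⁻¹ = x := by
            calc a⁻¹ * b' * x * (a⁻¹ * b')⁻¹ = a⁻¹ * (b' * x * b'⁻¹) * a := by group
              _ = a⁻¹ * (a * x * a⁻¹) * a := by rw [hbx, hinv]
              _ = x := by group
          exact mul_inv_eq_iff_eq_mul.1 e
        exact (inv_mul_eq_one.1 this).symm
      have hca : c' = a * x := by
        have h : c' = b'⁻¹ * x := by rw [← hx', inv_mul_cancel_left]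
        rw [h, hba, hainv]
      refine ⟨(⟨w, hw⟩, ⟨w⁻¹ * u, Q.mul_mem (Q.inv_mem hw) u.2, ?_⟩,
        ⟨w⁻¹ * v, Q.mul_mem (Q.inv_mem hw) v.2, ?_⟩), ?_⟩
      · refine mem_centralizer_singleton_iff.2 ?_
        rw [hb', hb] at hba
        calc w⁻¹ * u * a = (w⁻¹ * (u * a * (u : G)⁻¹) * w) * (w⁻¹ * u) := by group
          _ = a * (w⁻¹ * u) := by rw [hba]
      · refine mem_centralizer_singleton_iff.2 ?_
        rw [hc', hc] at hca
        calc w⁻¹ * v * (a * x) = (w⁻¹ * (v * (a * x) * (v : G)⁻¹) * w) * (w⁻¹ * v) := by group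
          _ = a * x * (w⁻¹ * v) := by rw [hca]
      · exact Prod.ext (Subtype.ext (mul_inv_cancel_left w u)) (Subtype.ext (mul_inv_cancel_left w v))
  have h := Nat.card_congr (Equiv.ofBijective F hF)
  rw [Nat.card_prod, Nat.card_prod, Nat.card_prod] at h
  exact Nat.eq_of_mul_eq_mul_left Nat.card_pos h

omit [Finite G] in
theorem dihedral_mul_pow_eq_one {r : ℕ} [Fact r.Prime] (hr : r ≠ 2) (N : Type*) [Group N]
    (φ : N ≃* DihedralGroup r) {e f : N} (he : orderOf e = 2) (hf : orderOf f = 2) :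
    (e * f) ^ r = 1 := by
  apply φ.injective
  rw [← φ.orderOf_eq] at he hf
  rw [map_pow, map_mul, map_one]
  have h2 : ∀ i : ZMod r, orderOf (DihedralGroup.r i) = 2 → False := by
    intro i hi
    have := orderOf_dvd_natCard (DihedralGroup.r i)
    have hp := pow_orderOf_eq_one (DihedralGroup.r i)
    rw [hi, DihedralGroup.r_pow, ← DihedralGroup.r_zero, DihedralGroup.r.injEq] at hp
    have h2ne : (2 : ZMod r) ≠ 0 := by
      intro h
      have h' : ((2 : ℕ) : ZMod r) = 0 := by exact_mod_cast h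
      rw [ZMod.natCast_eq_zero_iff] at h'
      exact hr ((Nat.prime_dvd_prime_iff_eq Fact.out Nat.prime_two).1 h')
    rcases mul_eq_zero.1 hp with h | h
    · rw [h, DihedralGroup.r_zero, orderOf_one] at hi
      norm_num at hi
    · exact h2ne (by exact_mod_cast h)
  rcases he' : φ e with i | i <;> rcases hf' : φ f with j | j <;> rw [he'] at he <;> rw [hf'] at hf
  · exact (h2 i he).elim
  · exact (h2 i he).elim
  · exact (h2 j hf).elim
  · rw [DihedralGroup.sr_mul_sr, DihedralGroup.r_pow, ZMod.natCast_self, mul_zero,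
      DihedralGroup.r_zero]

omit [Finite G] in
theorem dihedral_inverts {r : ℕ} [Fact r.Prime] (hr : r ≠ 2) (N : Type*) [Group N]
    (φ : N ≃* DihedralGroup r) {e y : N} (he : orderOf e = 2) (hy : orderOf y = r) :
    e * y * e⁻¹ = y⁻¹ := by
  apply φ.injective
  rw [← φ.orderOf_eq] at he hy
  rw [map_mul, map_mul, map_inv, map_inv]
  rcases he' : φ e with i | i <;> rcases hy' : φ y with j | j <;> rw [he'] at he <;> rw [hy'] at hy
  · exfalso
    have hd := orderOf_dvd_of_pow_eq_one (x := DihedralGroup.r i) (n := r) (by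
      rw [DihedralGroup.r_pow, ZMod.natCast_self, mul_zero, DihedralGroup.r_zero])
    rw [he] at hd
    exact hr ((Nat.prime_dvd_prime_iff_eq Nat.prime_two Fact.out).1 hd).symm
  · rw [DihedralGroup.orderOf_sr] at hy; exact (hr hy.symm).elim
  · simp [DihedralGroup.inv_sr, DihedralGroup.inv_r, DihedralGroup.sr_mul_r, DihedralGroup.sr_mul_sr]
  · rw [DihedralGroup.orderOf_sr] at hy; exact (hr hy.symm).elim

end Cfsg.Agent.LocalStructure
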