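import Cfsg.Agent.Lib.LocalStructure.FrakM

/-! Members of `ℌ_G(O_p(M))`. -/

set_option autoImplicit false
set_option linter.unusedSectionVars false

open Subgroup
open scoped commutatorElement

namespace Cfsg.Agent.LocalStructure

variable {G : Type*} [Group G] {p : ℕ} [Finite G] [Fact p.Prime] {M Q H : Subgroup G}

/-- A Sylow subgroup of `H` containing `O_p(M)` normalises `O_p(M)` and `Y_M`. -/
theorem frakH_sylow (S : Sylow p G) (hQ : IsPGroup p Q) (hQ1 : Q ≠ ⊥) (hQl : IsLarge Q)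
    (hSM : (S : Subgroup G) ≤ M) (hM : IsInFrakM p M)
    (hasym : ¬ IsSymmetricIn (largestPReducedOf p M)) (hPH : pCoreOf p M ≤ H) :
    ∃ R : Subgroup G, IsSylowIn p R H ∧ pCoreOf p M ≤ R ∧
      R ≤ normalizer (pCoreOf p M : Set G) ∧
      R ≤ normalizer (largestPReducedOf p M : Set G) ∧
      R ≤ M ⊔ Subgroup.centralizer (largestPReducedOf p M : Set G) := by
  obtain ⟨R, hPR, hR⟩ := exists_isSylowIn_le (isPGroup_pCoreOf p M) hPH
  have h1 := wc_le_normalizer (frakM_wc S hQ hQ1 hQl hSM hM hasym) hR.2.1 hPR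
  have h2 := h1.trans (frakM_normalizer_core_le S hQ hQ1 hQl hSM hM)
  exact ⟨R, hR, hPR, h1, h2.trans (frakM_le_normalizer p M), h2⟩

/-- `⁅O^p(H), Y_M⁆ = O^p(H)`, `H = O^p(H) O_p(M)`, and the two normal closures. -/
theorem frakH_facts (S : Sylow p G) (hQ : IsPGroup p Q) (hQ1 : Q ≠ ⊥) (hQl : IsLarge Q)
    (hSM : (S : Subgroup G) ≤ M) (hM : IsInFrakM p M)
    (hasym : ¬ IsSymmetricIn (largestPReducedOf p M)) (hH : IsInFrakH p M H) :
    ⁅resOf p H, largestPReducedOf p M⁆ = resOf p H ∧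
      resOf p H ⊔ pCoreOf p M = H ∧
      resOf p H ⊔ largestPReducedOf p M = (Subgroup.normalClosure
        ((((largestPReducedOf p M)).subgroupOf H : Subgroup ↥H) : Set ↥H)).map H.subtype ∧
      (Subgroup.normalClosure (((pCoreOf p M).subgroupOf H : Subgroup ↥H) : Set ↥H)).map
        H.subtype = H := by
  set Y := largestPReducedOf p M
  set P := pCoreOf p M
  set R := resOf p H
  have hPH : P ≤ H := hH.2.1
  have hYP : Y ≤ P := frakM_largest_le p M
  have hYH : Y ≤ H := hYP.trans hPH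
  obtain ⟨T, hT, hPT, hTP, hTY, -⟩ := frakH_sylow S hQ hQ1 hQl hSM hM hasym hPH
  have hTR : T ≤ normalizer (R : Set G) := hT.1.trans (le_normalizer_resOf p H)
  set N := ⁅R, Y⁆ with hN
  have hTN : T ≤ normalizer (N : Set G) := le_normalizer_commutator hTR hTY
  have hHeq : R ⊔ T = H := hT.resOf_sup
  have hHN : H ≤ normalizer (N : Set G) :=
    hHeq ▸ sup_le (normalizer_commutator_ge_left R Y) hTN
  have hNR : N ≤ R := le_normalizer_iff_commutator_le_left.1 ((hYH).trans (le_normalizer_resOf p H))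
  have hHK : H ≤ normalizer ((N ⊔ Y : Subgroup G) : Set G) := by
    refine hHeq ▸ sup_le ?_ (le_normalizer_sup hTN hTY)
    rw [le_normalizer_iff]
    intro r hr k hk
    obtain ⟨n, hn, y, hy, rfl⟩ :=
      exists_mul_of_mem_sup' ((hYP.trans hPT).trans hTN) (by rwa [sup_comm] at hk)
    have e : r * (n * y) * r⁻¹ = (r * n * r⁻¹) * ⁅r, y⁆ * y := by
      rw [commutatorElement_def]; group
    rw [e]
    exact mul_mem (mul_mem
      (le_sup_left (b := Y) ((mem_normalizer_iff.1 (normalizer_commutator_ge_left R Y hr) n).1 hn))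
      (le_sup_left (b := Y) (commutator_mem_commutator hr hy))) (le_sup_right (a := N) hy)
  have hPN : P ≤ normalizer (N : Set G) := hPH.trans hHN
  have htop : P ⊔ N = H := by
    by_contra hne
    have hJ : P ⊔ N ≤ H := sup_le hPH (hNR.trans (resOf_le p H))
    have hYJ := hH.2.2.2 (P ⊔ N) le_sup_left (lt_of_le_of_ne hJ hne)
    have hKJ : N ⊔ Y ≤ P ⊔ N := sup_le le_sup_right (hYP.trans le_sup_left)
    have h1 : Y ≤ pCoreOf p (N ⊔ Y) := (le_inf hYJ le_sup_right).trans (pCoreOf_inf_le hKJ)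
    exact hH.2.2.1 (h1.trans (le_pCoreOf ((pCoreOf_le p _).trans (hKJ.trans hJ))
      (hHK.trans (normalizer_le_normalizer_pCoreOf _)) (isPGroup_pCoreOf p _)))
  have hRN : R ≤ N := resOf_le_of_le_sup hPN (isPGroup_pCoreOf p M)
    ((resOf_le p H).trans htop.ge)
  have hNeq : N = R := le_antisymm hNR hRN
  have hRP : R ⊔ P = H := by rw [← hNeq, sup_comm, htop]
  refine ⟨hNeq, hRP, le_antisymm ?_ ?_, le_antisymm (Subgroup.map_subtype_le _) ?_⟩
  · refine sup_le (hNeq.ge.trans (Subgroup.commutator_le.2 fun r hr y hy => ?_))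
      (le_map_normalClosure hYH)
    rw [commutatorElement_def]
    exact mul_mem ((mem_normalizer_iff.1 (le_normalizer_map_normalClosure (resOf_le p H hr)) y).1
      (le_map_normalClosure hYH hy)) (inv_mem (le_map_normalClosure hYH hy))
  · exact map_normalClosure_le hYH le_sup_right (hNeq ▸ hHK)
  · conv_lhs => rw [← hRP]
    refine sup_le (hNeq.ge.trans (Subgroup.commutator_le.2 fun r hr y hy => ?_))
      (le_map_normalClosure hPH)
    rw [commutatorElement_def]
    exact mul_mem ((mem_normalizer_iff.1 (le_normalizer_map_normalClosure (resOf_le p H hr)) y).1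
      (le_map_normalClosure hPH (hYP hy))) (inv_mem (le_map_normalClosure hPH (hYP hy)))

/-- A Sylow subgroup of `K` conjugated by an element of `K` is a Sylow subgroup of `K`. -/
theorem IsSylowIn.map_conj {R K : Subgroup G} (h : IsSylowIn p R K) {l : G} (hl : l ∈ K) :
    IsSylowIn p (R.map (MulAut.conj l).toMonoidHom) K := by
  refine ⟨map_conj_le h.1 hl, isPGroup_map_conj h.2.1 l, fun R' h1 h2 h3 => ?_⟩
  have e := h.2.2 (R'.map (MulAut.conj l⁻¹).toMonoidHom)
    ((map_conj_inv_map_conj R l).ge.trans (Subgroup.map_mono h1))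
    (map_conj_le h2 (K.inv_mem hl)) (isPGroup_map_conj h3 _)
  rw [← e, ← map_conj_mul, mul_inv_cancel, map_conj_one]

/-- The `p`-subgroups of a normal subgroup `N` centralised modulo the `p`-core `O` by `O^p(N)`
lie in `O_p(N) O`. -/
theorem le_pCoreOf_of_centralized {N K O R : Subgroup G} (hO : IsPGroup p O)
    (hOK : O ≤ K) (hKO : K ≤ normalizer (O : Set G)) (hNK : N ≤ K)
    (hR : IsSylowIn p R N) (hc : ⁅resOf p N, R⁆ ≤ O) : R ≤ pCoreOf p (N ⊔ O) := by
  have hNO : N ≤ normalizer (O : Set G) := hNK.trans hKO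
  refine le_sup_left.trans (le_pCoreOf (sup_le_sup_right hR.1 O) ?_
    (isPGroup_sup hR.2.1 hO (hR.1.trans hNO)))
  refine sup_le ?_ (le_sup_right.trans Subgroup.le_normalizer)
  conv_lhs => rw [← hR.resOf_sup]
  refine sup_le ?_ (le_normalizer_sup Subgroup.le_normalizer (hR.1.trans hNO))
  rw [le_normalizer_iff]
  intro x hx k hk
  obtain ⟨a, ha, o, ho, rfl⟩ := exists_mul_of_mem_sup (hR.1.trans hNO) hk
  have e : x * (a * o) * x⁻¹ = ⁅x, a⁆ * a * (x * o * x⁻¹) := by
    rw [commutatorElement_def]; group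
  rw [e]
  exact mul_mem (mul_mem (le_sup_right (a := R) (hc (commutator_mem_commutator hx ha)))
    (le_sup_left (b := O) ha))
    (le_sup_right (a := R) ((mem_normalizer_iff.1 (hNO (resOf_le p N hx)) o).1 ho))

end Cfsg.Agent.LocalStructure
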