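import Cfsg.Agent.Lib.LocalStructure.StabilizerSub
import Cfsg.Agent.Lib.LocalStructure.FrakH
import Cfsg.Agent.Lib.Involution.BaerSuzuki
import Cfsg.Agent.Lib.Components.Subnormal
import Cfsg.Agent.Lib.Coprime.Commutator
import Cfsg.Agent.Lib.PGroup.Basic
import Cfsg.Agent.Lib.PGroup.Frattini

/-! Minimal subgroups of members of `ℌ_G(O_p(M))` containing `Y_M` outside the `p`-core. -/

set_option autoImplicit false

open Subgroup
open scoped commutatorElement

namespace Cfsg.Agent.LocalStructure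

variable {G : Type*} [Group G]

/-- What is used about `H ∈ ℌ_G(O_p(M))`, `Y = Y_M`, `P = O_p(M)` and the minimal subgroup `L`. -/
structure MinPair (p : ℕ) (Y P H L : Subgroup G) : Prop where
  elem : IsElementaryAbelian p Y
  asym : ¬ IsSymmetricIn Y
  YP : Y ≤ P
  PC : P ≤ Subgroup.centralizer (Y : Set G)
  Pp : IsPGroup p P
  PH : P ≤ H
  wc : IsWeaklyClosedSubgroup p P
  NPY : normalizer (P : Set G) ≤ normalizer (Y : Set G)
  charp : H ⊓ Subgroup.centralizer (pCoreOf p H : Set G) ≤ pCoreOf p H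
  notO : ¬ Y ≤ pCoreOf p H
  sub : ∀ X : Subgroup G, P ≤ X → X < H → Y ≤ pCoreOf p X
  gen : resOf p H ⊔ P = H
  ncl : resOf p H ⊔ Y = (Subgroup.normalClosure ((Y.subgroupOf H : Subgroup ↥H) : Set ↥H)).map H.subtype
  LH : L ≤ H
  YL : Y ≤ L
  notOL : ¬ Y ≤ pCoreOf p L
  min : ∀ L' : Subgroup G, L' ≤ L → Y ≤ L' → ¬ Y ≤ pCoreOf p L' → L' = L

variable {p : ℕ} {Y P H L : Subgroup G} [Finite G] [Fact p.Prime]

theorem comm_aux {Q : Type*} [Group Q] {o d a v : Q}
    (h1 : o * (d * (a * v) * d⁻¹) = d * (a * v) * d⁻¹ * o) (hc : d * a = a * d)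
    (h2 : a * v = v * a) : o * (d * (a * v) * d⁻¹) * o⁻¹ * (a * v)⁻¹ * ⁅d, v⁆⁻¹ = 1 := by
  have e1 : d * (a * v) * d⁻¹ = a * (d * v * d⁻¹) := by
    rw [← mul_assoc, hc]; group
  have e2 : a * (d * v * d⁻¹) = d * v * d⁻¹ * a := by
    rw [← e1, h2]
    calc d * (v * a) * d⁻¹ = d * v * d⁻¹ * (d * a) * d⁻¹ := by group
      _ = d * v * d⁻¹ * a := by rw [hc]; group
  rw [h1, mul_inv_cancel_right, e1, e2, h2, commutatorElement_def]
  group

namespace MinPair

omit [Finite G] [Fact p.Prime] in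
theorem YH (h : MinPair p Y P H L) : Y ≤ H := h.YP.trans h.PH

theorem sub_le (h : MinPair p Y P H L) {X : Subgroup G} (hX : X < L) (hYX : Y ≤ X) :
    Y ≤ pCoreOf p X :=
  by_contra fun hc => hX.ne (h.min X hX.le hYX hc)

theorem core_conj (h : MinPair p Y P H L) {X : Subgroup G} (hX : X < L) {l : G} (hl : l ∈ L)
    (hYX : Y.map (MulAut.conj l).toMonoidHom ≤ X) :
    Y.map (MulAut.conj l).toMonoidHom ≤ pCoreOf p X := by
  have h1 : Y ≤ X.map (MulAut.conj l⁻¹).toMonoidHom :=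
    (map_conj_inv_map_conj Y l).ge.trans (Subgroup.map_mono hYX)
  have h2 : X.map (MulAut.conj l⁻¹).toMonoidHom < L := by
    conv_rhs => rw [← map_conj_eq_self (Subgroup.le_normalizer (L.inv_mem hl))]
    exact (Subgroup.map_lt_map_iff_of_injective (MulAut.conj l⁻¹).injective).2 hX
  have h3 := (h.sub_le h2 h1).trans (pCoreOf_map_conj_le _)
  refine (Subgroup.map_mono h3).trans (le_of_eq ?_)
  rw [← map_conj_mul, mul_inv_cancel, map_conj_one]

theorem sup_P (h : MinPair p Y P H L) : L ⊔ P = H := by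
  by_contra hne
  have h1 := h.sub (L ⊔ P) le_sup_right (lt_of_le_of_ne (sup_le h.LH h.PH) hne)
  exact h.notOL ((le_inf h1 h.YL).trans (pCoreOf_inf_le le_sup_left))

theorem exists_gen (h : MinPair p Y P H L) :
    ∃ l ∈ L, Y ⊔ Y.map (MulAut.conj l).toMonoidHom = L := by
  by_contra hc
  push Not at hc
  apply h.notOL
  intro y hy
  set x : ↥L := ⟨y, h.YL hy⟩ with hx
  have hb : IsPGroup p (Subgroup.normalClosure ({x} : Set ↥L)) := by
    refine Cfsg.Agent.Involution.baer_suzuki x fun g => ?_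
    set Xg := Y ⊔ Y.map (MulAut.conj (g : G)).toMonoidHom with hXg
    have hlt : Xg < L := lt_of_le_of_ne (sup_le h.YL (map_conj_le h.YL g.2)) (hc g g.2)
    have hle : Subgroup.closure ({x, g * x * g⁻¹} : Set ↥L) ≤ (pCoreOf p Xg).subgroupOf L := by
      rw [Subgroup.closure_le]
      rintro z (rfl | rfl)
      · exact h.sub_le hlt le_sup_left hy
      · exact h.core_conj hlt g.2 le_sup_right (conj_mem_map_conj hy)
    exact ((isPGroup_pCoreOf p Xg).comap_of_injective L.subtype L.subtype_injective).to_le hle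
  have h1 := le_pCore (p := p) (Subgroup.normalClosure_normal) hb
    (Subgroup.subset_normalClosure (Set.mem_singleton x))
  rw [← subgroupOf_pCoreOf p L] at h1
  exact h1

theorem O_le (h : MinPair p Y P H L) : pCoreOf p H ≤ normalizer (P : Set G) :=
  wc_le_normalizer' h.wc (isPGroup_pCoreOf p H) (h.PH.trans (le_normalizer_pCoreOf p H))

theorem O_le_conj (h : MinPair p Y P H L) {g : G} (hg : g ∈ H) :
    pCoreOf p H ≤ normalizer (Y.map (MulAut.conj g).toMonoidHom : Set G) :=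
  (map_conj_eq_self (le_normalizer_pCoreOf p H hg)).ge.trans
    ((Subgroup.map_mono (h.O_le.trans h.NPY)).trans (le_normalizer_map _))

theorem comm_mem (h : MinPair p Y P H L) {g : G} (hg : g ∈ H) {y v : G}
    (hy : y ∈ Y.map (MulAut.conj g).toMonoidHom) (hv : v ∈ pCoreOf p H) :
    ⁅y, v⁆ ∈ (pCoreOf p H ⊓ Y).map (MulAut.conj g).toMonoidHom := by
  rw [Subgroup.map_inf _ _ _ (MulAut.conj g).injective, map_conj_eq_self (le_normalizer_pCoreOf p H hg)]
  refine ⟨?_, ?_⟩
  · rw [commutatorElement_def]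
    exact (pCoreOf p H).mul_mem ((mem_normalizer_iff.1
      (le_normalizer_pCoreOf p H (map_conj_le h.YH hg hy)) v).1 hv) ((pCoreOf p H).inv_mem hv)
  · rw [commutatorElement_def, mul_assoc, mul_assoc, ← mul_assoc v]
    exact mul_mem hy ((mem_normalizer_iff.1 (h.O_le_conj hg hv) _).1 (inv_mem hy))

/-- `O_p(H) ∩ Y` is not normal in `H`. -/
theorem not_le_normalizer (h : MinPair p Y P H L) :
    ¬ H ≤ normalizer ((pCoreOf p H ⊓ Y : Subgroup G) : Set G) := by
  intro hn
  set V := pCoreOf p H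
  set A := V ⊓ Y
  have hV : H ≤ normalizer (V : Set G) := le_normalizer_pCoreOf p H
  set S := stabSub H ⊥ (A : Set G) le_normalizer_of_normal ⊓ stabSub H A (V : Set G) hn with hS
  have hHS : H ≤ normalizer (S : Set G) := le_normalizer_inf
    (le_normalizer_stabSub _ _ _ _ fun g hg v hv => (mem_normalizer_iff.1 (hn hg) v).1 hv)
    (le_normalizer_stabSub _ _ _ _ fun g hg v hv => (mem_normalizer_iff.1 (hV hg) v).1 hv)
  have hSp : IsPGroup p S := by
    refine isPGroup_of_forall_coprime fun d hd hc => ?_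
    have hdA : ∀ a ∈ A, Commute d a := fun a ha =>
      commutatorElement_eq_one_iff_commute.1 (Subgroup.mem_bot.1 (hd.1.2 a ha))
    refine eq_one_of_isPGroup (isPGroup_pCoreOf p H) (h.charp ⟨hd.1.1, ?_⟩) hc
    exact Subgroup.mem_centralizer_iff.2 fun v hv =>
      (commute_of_stabilize ((isPGroup_pCoreOf p H).to_le inf_le_left) hc hdA (hd.2.2 v hv)).eq.symm
  apply h.notO
  refine le_trans ?_ (le_pCoreOf (inf_le_left.trans (stabSub_le _ _ _ _)) hHS hSp)
  intro y hy
  refine ⟨⟨h.YH hy, fun a ha => ?_⟩, h.YH hy, fun v hv => ?_⟩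
  · rw [Subgroup.mem_bot, commutatorElement_eq_one_iff_mul_comm]
    exact Cfsg.Agent.PGroup.mul_comm_of_isMulCommutative h.elem.1 hy ha.2
  · have := h.comm_mem (g := 1) H.one_mem (by rwa [map_conj_one]) hv
    rwa [map_conj_one] at this

/-- The normal closure of `O_p(H) ∩ Y` in `H`. -/
def V1 (p : ℕ) (Y H : Subgroup G) : Subgroup G :=
  (Subgroup.normalClosure (((pCoreOf p H ⊓ Y).subgroupOf H : Subgroup ↥H) : Set ↥H)).map H.subtype

theorem A_le_V1 (h : MinPair p Y P H L) : pCoreOf p H ⊓ Y ≤ V1 p Y H :=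
  le_map_normalClosure (inf_le_right.trans h.YH)

theorem V1_le (h : MinPair p Y P H L) : V1 p Y H ≤ pCoreOf p H :=
  map_normalClosure_le (inf_le_right.trans h.YH) inf_le_left (le_normalizer_pCoreOf p H)

omit [Finite G] [Fact p.Prime] in
theorem H_le_V1 (p : ℕ) (Y H : Subgroup G) : H ≤ normalizer (V1 p Y H : Set G) :=
  le_normalizer_map_normalClosure

/-- `C_H(V₁)` is a `p`-group. -/
theorem isPGroup_centralizer_V1 (h : MinPair p Y P H L) :
    IsPGroup p (H ⊓ Subgroup.centralizer (V1 p Y H : Set G) : Subgroup G) := by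
  set V := pCoreOf p H with hV
  set C := H ⊓ Subgroup.centralizer (V1 p Y H : Set G) with hC
  have hCH : H ≤ normalizer (C : Set G) :=
    le_normalizer_inf Subgroup.le_normalizer (le_normalizer_centralizer (H_le_V1 p Y H))
  have hHV : H ≤ normalizer (V : Set G) := le_normalizer_pCoreOf p H
  have hPC : P ⊔ C < H := by
    refine lt_of_le_of_ne (sup_le h.PH inf_le_left) fun e => h.not_le_normalizer ?_
    have hR : resOf p H ≤ C :=
      resOf_le_of_le_sup (h.PH.trans hCH) h.Pp ((resOf_le p H).trans e.ge)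
    calc H = resOf p H ⊔ P := h.gen.symm
      _ ≤ _ := sup_le
        ((hR.trans inf_le_right).trans ((Subgroup.centralizer_le h.A_le_V1).trans (centralizer_le_normalizer _)))
        ((h.PC.trans (Subgroup.centralizer_le (inf_le_right : V ⊓ Y ≤ Y))).trans (centralizer_le_normalizer _))
  have hCV : pCoreOf p C ≤ V := le_pCoreOf ((pCoreOf_le p C).trans inf_le_left)
    (hCH.trans (normalizer_le_normalizer_pCoreOf C)) (isPGroup_pCoreOf p C)
  have hcy : ∀ c ∈ C, ∀ y ∈ Y, ⁅y, c⁆ ∈ V := by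
    intro c hc y hy
    refine hCV (pCoreOf_inf_le (le_sup_right : C ≤ P ⊔ C) ⟨?_, ?_⟩)
    · have hy' := h.sub _ le_sup_left hPC hy
      rw [commutatorElement_def, mul_assoc, mul_assoc, ← mul_assoc c]
      exact mul_mem hy' ((mem_normalizer_iff.1
        (le_normalizer_pCoreOf p _ (Subgroup.mem_sup_right hc)) _).1 (inv_mem hy'))
    · rw [commutatorElement_def]
      exact C.mul_mem ((mem_normalizer_iff.1 (hCH (h.YH hy)) c).1 hc) (C.inv_mem hc)
  set Φ := (frattini ↥V).map V.subtype with hΦdef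
  have hHΦ : H ≤ normalizer (Φ : Set G) :=
    hHV.trans (Cfsg.Agent.Components.normalizer_le_normalizer_map_of_characteristic V (frattini ↥V))
  have hΦV : Φ ≤ V := Subgroup.map_subtype_le _
  have hVV : ⁅V, V⁆ ≤ Φ := by
    have h := Subgroup.map_mono (f := V.subtype) (Cfsg.Agent.PGroup.commutator_le_frattini (isPGroup_pCoreOf p H))
    rw [_root_.commutator_def, map_commutator, ← MonoidHom.range_eq_map, range_subtype] at h
    exact h
  let U : Set G := {u | ∃ d ∈ C, (orderOf d).Coprime p ∧ ∃ v ∈ V, u = ⁅d, v⁆}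
  have hUinv : ∀ g ∈ H, ∀ u ∈ U, g * u * g⁻¹ ∈ U := by
    rintro g hg _ ⟨d, hd, hdc, v, hv, rfl⟩
    exact ⟨g * d * g⁻¹, (mem_normalizer_iff.1 (hCH hg) d).1 hd, by rwa [orderOf_conj],
      g * v * g⁻¹, (mem_normalizer_iff.1 (hHV hg) v).1 hv, by simp only [commutatorElement_def]; group⟩
  let π := QuotientGroup.mk' (Φ.subgroupOf (normalizer (Φ : Set G)))
  have hπ : ∀ (z : G) (hz : z ∈ normalizer (Φ : Set G)), π ⟨z, hz⟩ = 1 ↔ z ∈ Φ := fun z hz =>
    QuotientGroup.eq_one_iff _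
  have hcommV : ∀ (a : G) (ha : a ∈ normalizer (Φ : Set G)) (b : G) (hb : b ∈ normalizer (Φ : Set G)),
      ⁅a, b⁆ ∈ Φ → π ⟨a, ha⟩ * π ⟨b, hb⟩ = π ⟨b, hb⟩ * π ⟨a, ha⟩ := by
    intro a ha b hb hab
    rw [← commutatorElement_eq_one_iff_mul_comm, ← map_commutatorElement]
    exact (QuotientGroup.eq_one_iff _).2 hab
  have hYU : Y ≤ stabSub H Φ U hHΦ := by
    intro y hy
    refine ⟨h.YH hy, ?_⟩
    rintro _ ⟨d, hd, hdc, v, hv, rfl⟩
    have hyN := hHΦ (h.YH hy)
    have hdN := hHΦ hd.1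
    have hvN := hHΦ (pCoreOf_le p H hv)
    set o := ⁅y, d⁆ with ho
    have hoV : o ∈ V := hcy d hd y hy
    set a := ⁅y, v⁆ with ha
    have haA : a ∈ V ⊓ Y := by
      have := h.comm_mem (g := 1) H.one_mem (by rwa [map_conj_one]) hv
      rwa [map_conj_one] at this
    have hda : d * a = a * d := (Subgroup.mem_centralizer_iff.1 hd.2 a (h.A_le_V1 haA)).symm
    have hN : ⁅y, ⁅d, v⁆⁆ ∈ normalizer (Φ : Set G) := hHΦ (Subgroup.commutator_le_self H
      (commutator_mem_commutator (h.YH hy) (Subgroup.commutator_le_self H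
        (commutator_mem_commutator hd.1 (pCoreOf_le p H hv)))))
    rw [← hπ _ hN]
    set y' : ↥(normalizer (Φ : Set G)) := ⟨y, hyN⟩
    set d' : ↥(normalizer (Φ : Set G)) := ⟨d, hdN⟩
    set v' : ↥(normalizer (Φ : Set G)) := ⟨v, hvN⟩
    set o' : ↥(normalizer (Φ : Set G)) := ⟨o, hHΦ (pCoreOf_le p H hoV)⟩
    set a' : ↥(normalizer (Φ : Set G)) := ⟨a, hHΦ (pCoreOf_le p H haA.1)⟩
    have e1 : (⁅y', ⁅d', v'⁆⁆ : ↥(normalizer (Φ : Set G))) =
        (o' * (d' * (a' * v') * d'⁻¹) * o'⁻¹ * (a' * v')⁻¹) * ⁅d', v'⁆⁻¹ :=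
      Subtype.ext (by
        show ⁅y, ⁅d, v⁆⁆ = o * (d * (a * v) * d⁻¹) * o⁻¹ * (a * v)⁻¹ * ⁅d, v⁆⁻¹
        rw [ho, ha]; simp only [commutatorElement_def]; group)
    show π ⁅y', ⁅d', v'⁆⁆ = 1
    rw [e1]
    have hc : π d' * π a' = π a' * π d' := by
      rw [← map_mul, ← map_mul]; exact congrArg π (Subtype.ext hda)
    have habel : ∀ (s : G) (hs : s ∈ V) (t : G) (ht : t ∈ V),
        π ⟨s, hHΦ (pCoreOf_le p H hs)⟩ * π ⟨t, hHΦ (pCoreOf_le p H ht)⟩ =
          π ⟨t, hHΦ (pCoreOf_le p H ht)⟩ * π ⟨s, hHΦ (pCoreOf_le p H hs)⟩ := fun s hs t ht =>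
      hcommV _ _ _ _ (hVV (commutator_mem_commutator hs ht))
    have hz : d * (a * v) * d⁻¹ ∈ V :=
      (mem_normalizer_iff.1 (hHV hd.1) _).1 (V.mul_mem haA.1 hv)
    have h1 : π o' * π (d' * (a' * v') * d'⁻¹) = π (d' * (a' * v') * d'⁻¹) * π o' := by
      exact habel o hoV _ hz
    have h2 : π a' * π v' = π v' * π a' := habel a haA.1 v hv
    simp only [map_mul, map_inv, map_commutatorElement] at h1 ⊢
    exact comm_aux h1 hc h2
  have hRU : resOf p H ≤ stabSub H Φ U hHΦ :=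
    le_sup_left.trans (h.ncl.le.trans (map_normalClosure_le h.YH hYU
      (le_normalizer_stabSub _ _ _ _ hUinv)))
  refine isPGroup_of_forall_coprime fun d hd hdc => ?_
  have hdR := hRU (mem_resOf hd.1 hdc)
  refine eq_one_of_isPGroup (isPGroup_pCoreOf p H) (h.charp ⟨hd.1, ?_⟩) hdc
  refine Cfsg.Agent.Coprime.le_centralizer_of_frattini (A := Subgroup.zpowers d)
    ((Subgroup.zpowers_le.2 hd.1).trans hHV) ?_ ?_ (Subgroup.mem_zpowers d)
  · obtain ⟨n, hn⟩ := ((isPGroup_pCoreOf p H).to_subgroup (frattini ↥V)).exists_card_eq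
    rw [Nat.card_zpowers, hn]
    exact hdc.pow_right n
  intro a ha v hv
  obtain ⟨k, rfl⟩ : ∃ k : ℕ, d ^ k = a :=
    (isOfFinOrder_of_finite d).mem_powers_iff_mem_zpowers.2 ha
  have hdN := hHΦ hd.1
  have hvN := hHΦ (pCoreOf_le p H hv)
  have hu : ⁅d, v⁆ ∈ V := by
    rw [commutatorElement_def]
    exact V.mul_mem ((mem_normalizer_iff.1 (hHV hd.1) v).1 hv) (V.inv_mem hv)
  set u := π ⁅(⟨d, hdN⟩ : ↥(normalizer (Φ : Set G))), (⟨v, hvN⟩ : ↥(normalizer (Φ : Set G)))⁆ with hudef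
  set δ := π ⟨d, hdN⟩
  set ν := π ⟨v, hvN⟩
  have hdu : Commute δ u := hcommV d hdN ⁅d, v⁆ (hHΦ (pCoreOf_le p H hu))
    (hdR.2 _ ⟨d, hd, hdc, v, hv, rfl⟩)
  have hu' : δ * ν * δ⁻¹ = u * ν := by
    rw [hudef, map_commutatorElement, commutatorElement_def, inv_mul_cancel_right]
  have hpow : ∀ n : ℕ, δ ^ n * ν * (δ ^ n)⁻¹ = u ^ n * ν := by
    intro n
    induction n with
    | zero => simp
    | succ n ih =>
      calc δ ^ (n + 1) * ν * (δ ^ (n + 1))⁻¹ = δ * (δ ^ n * ν * (δ ^ n)⁻¹) * δ⁻¹ := by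
            rw [pow_succ']; group
        _ = (δ * u ^ n) * ν * δ⁻¹ := by rw [ih]; group
        _ = u ^ n * (δ * ν * δ⁻¹) := by rw [(hdu.pow_right n).eq]; group
        _ = u ^ n * (u * ν) := by rw [hu']
        _ = u ^ (n + 1) * ν := by rw [pow_succ, mul_assoc]
  have hu1 : u = 1 := by
    have h1 := hpow (orderOf d)
    have hd1 : δ ^ orderOf d = 1 := by
      rw [← map_pow, ← map_one π]
      exact congrArg π (Subtype.ext (pow_orderOf_eq_one d))
    rw [hd1] at h1
    have h2 : u ^ orderOf d = 1 := by simpa using h1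
    obtain ⟨j, hj⟩ := isPGroup_pCoreOf p H ⟨_, hu⟩
    have hj' : u ^ p ^ j = 1 := by
      rw [hudef, ← map_pow, ← map_one π]
      exact congrArg π (Subtype.ext (by simpa [Subtype.ext_iff, commutatorElement_def] using hj))
    exact orderOf_eq_one_iff.1 (Nat.eq_one_of_dvd_coprimes (hdc.pow_right j)
      (orderOf_dvd_of_pow_eq_one h2) (orderOf_dvd_of_pow_eq_one hj'))
  have h3 := hpow k
  rw [hu1, one_pow, one_mul] at h3
  rw [← hπ _ (hHΦ (H.mul_mem (H.mul_mem (H.mul_mem (H.pow_mem hd.1 k) (pCoreOf_le p H hv))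
    (H.inv_mem (H.pow_mem hd.1 k))) (H.inv_mem (pCoreOf_le p H hv))))]
  show π (((⟨d, hdN⟩ : ↥(normalizer (Φ : Set G))) ^ k) * ⟨v, hvN⟩ * ((⟨d, hdN⟩ : ↥(normalizer (Φ : Set G))) ^ k)⁻¹ * (⟨v, hvN⟩)⁻¹) = 1
  simp only [map_mul, map_inv, map_pow]
  rw [h3, mul_inv_cancel]

/-- The decomposition of `V₁` and the shape of `C_{V₁}(Y)`. -/
theorem V1_facts (h : MinPair p Y P H L) {l : G} (hl : l ∈ L)
    (hgen : Y ⊔ Y.map (MulAut.conj l).toMonoidHom = L) :
    let A := pCoreOf p H ⊓ Y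
    let A' := A.map (MulAut.conj l).toMonoidHom
    L ≤ normalizer ((A ⊔ A' : Subgroup G) : Set G) ∧
      (A ⊔ A') ⊓ Subgroup.centralizer (Y : Set G) ≤ A ∧
      (∀ v ∈ V1 p Y H ⊓ Subgroup.centralizer (Y : Set G),
        ∃ a ∈ A, ∃ b ∈ Subgroup.centralizer (L : Set G), a * b = v) ∧
      (∀ v ∈ V1 p Y H, ∃ a ∈ A', ∃ b ∈ V1 p Y H ⊓ Subgroup.centralizer (Y : Set G), a * b = v) := by
  intro A A'
  set V := pCoreOf p H with hVdef
  have hlH : l ∈ H := h.LH hl
  have hHV : H ≤ normalizer (V : Set G) := le_normalizer_pCoreOf p H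
  have hA'V : A' ≤ V := (Subgroup.map_mono inf_le_left).trans (map_conj_eq_self (hHV hlH)).le
  have hside : ∀ g ∈ H, ∀ B : Subgroup G, B ≤ V →
      Y.map (MulAut.conj g).toMonoidHom ≤
        normalizer ((A.map (MulAut.conj g).toMonoidHom ⊔ B : Subgroup G) : Set G) := by
    intro g hg B hB
    set K := A.map (MulAut.conj g).toMonoidHom ⊔ B
    have hK : K ≤ V := sup_le ((Subgroup.map_mono inf_le_left).trans (map_conj_eq_self (hHV hg)).le) hB
    rw [le_normalizer_iff]
    intro y hy k hk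
    rw [show y * k * y⁻¹ = ⁅y, k⁆ * k by rw [commutatorElement_def, inv_mul_cancel_right]]
    exact K.mul_mem (Subgroup.mem_sup_left (h.comm_mem hg hy (hK hk))) hk
  have h1 : ∀ B : Subgroup G, B ≤ V → Y ≤ normalizer ((A ⊔ B : Subgroup G) : Set G) := by
    intro B hB
    have := hside 1 H.one_mem B hB
    rwa [map_conj_one, map_conj_one] at this
  have hLE : L ≤ normalizer ((A ⊔ A' : Subgroup G) : Set G) := by
    conv_lhs => rw [← hgen]
    refine sup_le (h1 A' hA'V) ?_
    rw [sup_comm A A']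
    exact hside l hlH A inf_le_left
  have hYY : Y ≤ Subgroup.centralizer (Y : Set G) := fun x hx =>
    Subgroup.mem_centralizer_iff.2 fun y hy => Cfsg.Agent.PGroup.mul_comm_of_isMulCommutative h.elem.1 hy hx
  have hYl : ∀ a ∈ Y.map (MulAut.conj l).toMonoidHom,
      a ∈ Subgroup.centralizer ((Y.map (MulAut.conj l).toMonoidHom : Subgroup G) : Set G) := by
    intro a ha
    rw [← coe_map_conj_centralizer]
    exact Subgroup.map_mono hYY ha
  have hA'A : A' ≤ normalizer (A : Set G) := hA'V.trans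
    (le_normalizer_inf Subgroup.le_normalizer (h.O_le.trans h.NPY))
  refine ⟨hLE, ?_, ?_⟩
  · rintro e ⟨he, hec⟩
    obtain ⟨a, ha, b, hb, rfl⟩ := exists_mul_of_mem_sup' hA'A (by rwa [sup_comm] at he)
    have hbY : b ∈ Subgroup.centralizer (Y : Set G) := by
      simpa using mul_mem (inv_mem (hYY ha.2)) hec
    have hbY' : b ∈ Y.map (MulAut.conj l).toMonoidHom := Subgroup.map_mono inf_le_right hb
    have hbL : L ≤ Subgroup.centralizer ({b} : Set G) := by
      rw [← hgen]
      refine sup_le (fun y hy => ?_) fun y hy => ?_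
      · exact Subgroup.mem_centralizer_singleton_iff.2 (Subgroup.mem_centralizer_iff.1 hbY y hy)
      · exact Subgroup.mem_centralizer_singleton_iff.2 (Subgroup.mem_centralizer_iff.1 (hYl b hbY') y hy)
    obtain ⟨c, hc, rfl⟩ := hb
    have hcl : l * (l * c * l⁻¹) = (l * c * l⁻¹) * l :=
      Subgroup.mem_centralizer_singleton_iff.1 (hbL hl)
    have hceq : l * c * l⁻¹ = c := by
      have h2 : l * c = c * l := mul_left_cancel (a := l) (by
        calc l * (l * c) = l * (l * c * l⁻¹) * l := by group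
          _ = (l * c * l⁻¹) * l * l := by rw [hcl]
          _ = l * (c * l) := by group)
      rw [h2, mul_inv_cancel_right]
    show a * (l * c * l⁻¹) ∈ A
    rw [hceq]
    exact A.mul_mem ha hc
  set W := V1 p Y H with hW
  set B := W ⊓ Subgroup.centralizer (Y : Set G) with hB
  have hWV : W ≤ V := h.V1_le
  have hVN : V ≤ normalizer (Y : Set G) := h.O_le.trans h.NPY
  have hBn : V ≤ normalizer (B : Set G) := le_normalizer_inf
    ((pCoreOf_le p H).trans (H_le_V1 p Y H)) (le_normalizer_centralizer hVN)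
  have hEW : A ⊔ A' ≤ W := sup_le h.A_le_V1
    ((Subgroup.map_mono h.A_le_V1).trans (map_conj_eq_self (H_le_V1 p Y H hlH)).le)
  have hF : W = A ⊔ A' ⊔ B := by
    refine le_antisymm (map_normalClosure_le (inf_le_right.trans h.YH)
      (le_sup_left.trans le_sup_left) ?_) (sup_le hEW inf_le_left)
    rw [← h.sup_P]
    refine sup_le ?_ ?_
    · conv_lhs => rw [← hgen]
      refine sup_le ?_ ?_
      · rw [sup_assoc]
        exact h1 _ (sup_le hA'V (inf_le_left.trans hWV))
      · rw [sup_comm A A', sup_assoc]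
        exact hside l hlH _ (sup_le inf_le_left (inf_le_left.trans hWV))
    · intro t ht
      refine mem_normalizer_of_map_conj_le ?_
      rw [Subgroup.map_sup, Subgroup.map_sup]
      have htA : t ∈ normalizer (A : Set G) :=
        centralizer_le_normalizer _ (Subgroup.centralizer_le (inf_le_right : A ≤ Y) (h.PC ht))
      have htB : t ∈ normalizer (B : Set G) := le_normalizer_inf (h.PH.trans (H_le_V1 p Y H))
        (le_normalizer_centralizer (h.PC.trans (centralizer_le_normalizer Y))) ht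
      refine sup_le (sup_le ((map_conj_eq_self htA).le.trans (le_sup_left.trans le_sup_left)) ?_)
        ((map_conj_eq_self htB).le.trans le_sup_right)
      rintro _ ⟨a, ha, rfl⟩
      show t * a * t⁻¹ ∈ A ⊔ A' ⊔ B
      rw [show t * a * t⁻¹ = ⁅t, a⁆ * a by rw [commutatorElement_def, inv_mul_cancel_right]]
      refine mul_mem (Subgroup.mem_sup_right ⟨?_, h.PC ?_⟩) (Subgroup.mem_sup_left (Subgroup.mem_sup_right ha))
      · rw [commutatorElement_def]
        exact W.mul_mem ((mem_normalizer_iff.1 (H_le_V1 p Y H (h.PH ht)) a).1 (hEW (Subgroup.mem_sup_right ha)))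
          (W.inv_mem (hEW (Subgroup.mem_sup_right ha)))
      · rw [commutatorElement_def, mul_assoc, mul_assoc, ← mul_assoc a]
        exact P.mul_mem ht ((mem_normalizer_iff.1 (h.O_le (hA'V ha)) _).1 (P.inv_mem ht))
  refine ⟨fun v hv => ?_, fun v hv => ?_⟩
  · set B' := B.map (MulAut.conj l).toMonoidHom with hB'
    have hW' : W = A ⊔ A' ⊔ B' := by
      have e := congrArg (Subgroup.map (MulAut.conj l).toMonoidHom) hF
      rwa [map_conj_eq_self (H_le_V1 p Y H hlH), Subgroup.map_sup, map_conj_eq_self (hLE hl)] at e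
    have hEn : A ⊔ A' ≤ normalizer (B' : Set G) := (sup_le inf_le_left hA'V).trans
      ((map_conj_eq_self (hHV hlH)).ge.trans ((Subgroup.map_mono hBn).trans (le_normalizer_map _)))
    obtain ⟨e, he, b, hb, rfl⟩ := exists_mul_of_mem_sup hEn (hW' ▸ hv.1)
    obtain ⟨a, ha, a2, ha2, rfl⟩ := exists_mul_of_mem_sup' hA'A (by rwa [sup_comm] at he)
    refine ⟨a, ha, a2 * b, ?_, (mul_assoc _ _ _).symm⟩
    rw [← hgen]
    have hY : a2 * b ∈ Subgroup.centralizer (Y : Set G) := by
      have := mul_mem (inv_mem (hYY ha.2)) hv.2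
      rwa [← mul_assoc, inv_mul_cancel_left] at this
    have hY' : a2 * b ∈ Subgroup.centralizer ((Y.map (MulAut.conj l).toMonoidHom : Subgroup G) : Set G) := by
      refine mul_mem (hYl a2 (Subgroup.map_mono inf_le_right ha2)) ?_
      rw [← coe_map_conj_centralizer]
      exact Subgroup.map_mono inf_le_right hb
    have h2 : Y ⊔ Y.map (MulAut.conj l).toMonoidHom ≤ Subgroup.centralizer ({a2 * b} : Set G) :=
      sup_le (fun y hy => Subgroup.mem_centralizer_singleton_iff.2 (Subgroup.mem_centralizer_iff.1 hY y hy))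
        fun y hy => Subgroup.mem_centralizer_singleton_iff.2 (Subgroup.mem_centralizer_iff.1 hY' y hy)
    exact Subgroup.mem_centralizer_iff.2 fun y hy => Subgroup.mem_centralizer_singleton_iff.1 (h2 hy)
  · have hF' : W = A' ⊔ (A ⊔ B) := by
      rw [hF, sup_comm A A', sup_assoc]
    have hAB : A ⊔ B ≤ W ⊓ Subgroup.centralizer (Y : Set G) :=
      sup_le (le_inf h.A_le_V1 (inf_le_right.trans hYY)) le_rfl
    obtain ⟨a, ha, b, hb, rfl⟩ := exists_mul_of_mem_sup
      (hA'A.trans' le_rfl |> fun h0 => le_normalizer_sup h0 (hA'V.trans hBn)) (hF' ▸ hv)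
    exact ⟨a, ha, b, hAB hb, rfl⟩

/-- An element of `L` moving `Y` to a conjugate commuting with it normalises `Y`. -/
theorem key (h : MinPair p Y P H L) {x : G} (hx : x ∈ L)
    (hc : Y.map (MulAut.conj x).toMonoidHom ≤ Subgroup.centralizer (Y : Set G)) :
    x ∈ normalizer (Y : Set G) := by
  obtain ⟨l, hl, hgen⟩ := h.exists_gen
  obtain ⟨hLE, hEC, hB, -⟩ := h.V1_facts hl hgen
  set V := pCoreOf p H
  set A := V ⊓ Y
  set W := V1 p Y H
  set B := W ⊓ Subgroup.centralizer (Y : Set G) with hBdef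
  have hxH : x ∈ H := h.LH hx
  have hxA : x ∈ normalizer (A : Set G) := by
    refine mem_normalizer_of_map_conj_le ?_
    refine le_trans (le_inf ?_ ((Subgroup.map_mono inf_le_right).trans hc)) hEC
    exact (Subgroup.map_mono le_sup_left).trans (map_conj_eq_self (hLE hx)).le
  have hYY : Y ≤ Subgroup.centralizer (Y : Set G) := fun a ha =>
    Subgroup.mem_centralizer_iff.2 fun y hy => Cfsg.Agent.PGroup.mul_comm_of_isMulCommutative h.elem.1 hy ha
  have hAB : A ≤ B := le_inf h.A_le_V1 (inf_le_right.trans hYY)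
  have hxv : ∀ v ∈ B, ⁅x, v⁆ ∈ A ∧ x * v * x⁻¹ ∈ B := by
    intro v hv
    obtain ⟨a, ha, b, hb, rfl⟩ := hB v hv
    have hbx : x * b = b * x := Subgroup.mem_centralizer_iff.1 hb x hx
    have e : x * (a * b) * x⁻¹ = (x * a * x⁻¹) * b := by
      calc x * (a * b) * x⁻¹ = x * a * x⁻¹ * (x * b) * x⁻¹ := by group
        _ = _ := by rw [hbx]; group
    have hax := (mem_normalizer_iff.1 hxA a).1 ha
    refine ⟨?_, ?_⟩
    · have e2 : ⁅x, a * b⁆ = x * a * x⁻¹ * a⁻¹ := by
        rw [commutatorElement_def, e]; group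
      rw [e2]
      exact A.mul_mem hax (A.inv_mem ha)
    · rw [e]
      have hbB : b ∈ B := by simpa using B.mul_mem (B.inv_mem (hAB ha)) hv
      exact B.mul_mem (hAB hax) hbB
  have hxB : x ∈ normalizer (B : Set G) :=
    mem_normalizer_of_map_conj_le (by rintro _ ⟨v, hv, rfl⟩; exact (hxv v hv).2)
  set G0 := H ⊓ (normalizer (A : Set G) ⊓ normalizer (B : Set G)) with hG0
  have g1 : G0 ≤ normalizer ((⊥ : Subgroup G) : Set G) := le_normalizer_of_normal
  have g2 : G0 ≤ normalizer (A : Set G) := inf_le_right.trans inf_le_left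
  have g3 : G0 ≤ normalizer (B : Set G) := inf_le_right.trans inf_le_right
  set S1 := stabSub G0 ⊥ (A : Set G) g1
  set S2 := stabSub G0 A (B : Set G) g2
  set S3 := stabSub G0 B (W : Set G) g3
  have hn1 : G0 ≤ normalizer (S1 : Set G) :=
    le_normalizer_stabSub _ _ _ _ fun g hg v hv => (mem_normalizer_iff.1 (g2 hg) v).1 hv
  have hn2 : G0 ≤ normalizer (S2 : Set G) :=
    le_normalizer_stabSub _ _ _ _ fun g hg v hv => (mem_normalizer_iff.1 (g3 hg) v).1 hv
  have hn3 : G0 ≤ normalizer (S3 : Set G) :=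
    le_normalizer_stabSub _ _ _ _ fun g hg v hv => (mem_normalizer_iff.1 (H_le_V1 p Y H hg.1) v).1 hv
  set K := S1 ⊓ S3 ⊓ S2 with hK
  have hKn : G0 ≤ normalizer (K : Set G) := le_normalizer_inf (le_normalizer_inf hn1 hn3) hn2
  have hKp : IsPGroup p K := by
    refine isPGroup_of_forall_coprime fun d hd hdc => ?_
    have hdA : ∀ a ∈ A, Commute d a := fun a ha =>
      commutatorElement_eq_one_iff_commute.1 (Subgroup.mem_bot.1 (hd.1.1.2 a ha))
    have hdB : ∀ b ∈ B, Commute d b := fun b hb =>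
      commute_of_stabilize ((isPGroup_pCoreOf p H).to_le inf_le_left) hdc hdA (hd.2.2 b hb)
    refine eq_one_of_isPGroup h.isPGroup_centralizer_V1 ⟨hd.1.1.1.1, ?_⟩ hdc
    exact Subgroup.mem_centralizer_iff.2 fun w hw => (commute_of_stabilize
      ((isPGroup_pCoreOf p H).to_le (inf_le_left.trans h.V1_le)) hdc hdB (hd.1.2.2 w hw)).eq.symm
  have hxG : x ∈ G0 := ⟨hxH, hxA, hxB⟩
  have hPG : P ≤ G0 := le_inf h.PH (le_inf
    ((h.PC.trans (Subgroup.centralizer_le (inf_le_right : A ≤ Y))).trans (centralizer_le_normalizer _))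
    (le_normalizer_inf (h.PH.trans (H_le_V1 p Y H))
      (le_normalizer_centralizer (h.PC.trans (centralizer_le_normalizer Y)))))
  have hPJ : P ≤ S1 ⊓ S3 := by
    intro t ht
    refine ⟨⟨hPG ht, fun a ha => ?_⟩, hPG ht, fun w hw => ⟨?_, h.PC ?_⟩⟩
    · rw [Subgroup.mem_bot, commutatorElement_eq_one_iff_mul_comm]
      exact (Subgroup.mem_centralizer_iff.1 (h.PC ht) a ha.2).symm
    · rw [commutatorElement_def]
      exact W.mul_mem ((mem_normalizer_iff.1 (H_le_V1 p Y H (h.PH ht)) w).1 hw) (W.inv_mem hw)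
    · rw [commutatorElement_def, mul_assoc, mul_assoc, ← mul_assoc w]
      exact P.mul_mem ht ((mem_normalizer_iff.1 (h.O_le (h.V1_le hw)) _).1 (P.inv_mem ht))
  have hle : P.map (MulAut.conj x).toMonoidHom ≤ P ⊔ K := by
    rintro _ ⟨t, ht, rfl⟩
    show x * t * x⁻¹ ∈ P ⊔ K
    rw [show x * t * x⁻¹ = ⁅x, t⁆ * t by rw [commutatorElement_def, inv_mul_cancel_right]]
    refine mul_mem (Subgroup.mem_sup_right (Subgroup.mem_inf.2 ⟨?_, ?_⟩)) (Subgroup.mem_sup_left ht)
    · rw [commutatorElement_def]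
      exact mul_mem ((mem_normalizer_iff.1 (le_normalizer_inf hn1 hn3 hxG) t).1 (hPJ ht)) (inv_mem (hPJ ht))
    · have hx2 : x ∈ S2 := ⟨hxG, fun v hv => (hxv v hv).1⟩
      rw [commutatorElement_def, mul_assoc, mul_assoc, ← mul_assoc t]
      exact mul_mem hx2 ((mem_normalizer_iff.1 (hn2 (hPG ht)) _).1 (inv_mem hx2))
  exact h.NPY (mem_normalizer_of_map_conj (wc_map_conj_eq h.wc
    (isPGroup_sup h.Pp hKp (hPG.trans hKn)) le_sup_left hle))

/-- Mutually normalising conjugates under `L` coincide. -/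
theorem mem_of_mutual (h : MinPair p Y P H L) {x : G} (hx : x ∈ L)
    (h1 : Y.map (MulAut.conj x).toMonoidHom ≤ normalizer (Y : Set G))
    (h2 : Y.map (MulAut.conj x⁻¹).toMonoidHom ≤ normalizer (Y : Set G)) :
    x ∈ normalizer (Y : Set G) := by
  refine h.key hx ?_
  have h3 : Y ≤ normalizer (Y.map (MulAut.conj x).toMonoidHom : Set G) := by
    have := (Subgroup.map_mono (f := (MulAut.conj x).toMonoidHom) h2).trans (le_normalizer_map _)
    rwa [← map_conj_mul, mul_inv_cancel, map_conj_one] at this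
  have hc := asym_commute h.asym x 1 (by rwa [map_conj_one]) (by rwa [map_conj_one])
  rintro _ ⟨a, ha, rfl⟩
  refine Subgroup.mem_centralizer_iff.2 fun y hy => ?_
  have := hc a ha y hy
  simp only [one_mul, inv_one, mul_one] at this
  exact this.symm

/-- Every proper subgroup of `L` containing `Y` normalises `Y`. -/
theorem proper_le (h : MinPair p Y P H L) {X : Subgroup G} (hX : X < L) (hYX : Y ≤ X) :
    X ≤ normalizer (Y : Set G) := by
  set K := pCoreOf p X
  have hYK : Y ≤ K := h.sub_le hX hYX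
  have hKX : K ≤ X := pCoreOf_le p X
  have hKn : K ≤ normalizer (Y : Set G) := by
    by_contra hne
    obtain ⟨k, hk, hkn, hknot⟩ := exists_mem_normalizer_of_lt (isPGroup_pCoreOf p X)
      (lt_of_le_of_ne (inf_le_left : K ⊓ normalizer (Y : Set G) ≤ K) fun e => hne (e.ge.trans inf_le_right))
    have hY0 : Y ≤ K ⊓ normalizer (Y : Set G) := le_inf hYK Subgroup.le_normalizer
    exact hknot ⟨hk, h.mem_of_mutual (hX.le (hKX hk))
      ((Subgroup.map_mono hY0).trans ((map_conj_eq_self hkn).le.trans inf_le_right))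
      ((Subgroup.map_mono hY0).trans ((map_conj_eq_self (inv_mem hkn)).le.trans inf_le_right))⟩
  intro x hx
  have hn := le_normalizer_pCoreOf p X
  exact h.mem_of_mutual (hX.le hx)
    ((Subgroup.map_mono hYK).trans ((map_conj_eq_self (hn hx)).le.trans hKn))
    ((Subgroup.map_mono hYK).trans ((map_conj_eq_self (inv_mem (hn hx))).le.trans hKn))

theorem not_le (h : MinPair p Y P H L) : ¬ L ≤ normalizer (Y : Set G) := fun hn =>
  h.notOL (le_pCoreOf h.YL hn (h.Pp.to_le h.YP))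

theorem inf_lt (h : MinPair p Y P H L) : L ⊓ normalizer (Y : Set G) < L :=
  lt_of_le_of_ne inf_le_left fun e => h.not_le (inf_eq_left.1 e)

theorem sup_conj (h : MinPair p Y P H L) {g : G} (hg : g ∈ L) (hgn : g ∉ normalizer (Y : Set G)) :
    Y ⊔ Y.map (MulAut.conj g).toMonoidHom = L := by
  by_contra hne
  set X := Y ⊔ Y.map (MulAut.conj g).toMonoidHom
  have hX : X < L := lt_of_le_of_ne (sup_le h.YL (map_conj_le h.YL hg)) hne
  apply hgn
  refine h.mem_of_mutual hg (le_sup_right.trans (h.proper_le hX le_sup_left)) ?_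
  have hX' : X.map (MulAut.conj g⁻¹).toMonoidHom < L := by
    conv_rhs => rw [← map_conj_eq_self (Subgroup.le_normalizer (L.inv_mem hg))]
    exact (Subgroup.map_lt_map_iff_of_injective (MulAut.conj g⁻¹).injective).2 hX
  exact (Subgroup.map_mono le_sup_left).trans
    (h.proper_le hX' ((map_conj_inv_map_conj Y g).ge.trans (Subgroup.map_mono le_sup_right)))

end MinPair

end Cfsg.Agent.LocalStructure
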