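import Cfsg.Agent.Lib.LocalStructure.FrakM

/-! Existence of members of `𝔐_H` above a parabolic subgroup of characteristic `p`. -/

set_option autoImplicit false
set_option linter.unusedSectionVars false

open Subgroup
open scoped commutatorElement

namespace Cfsg.Agent.LocalStructure

variable {G : Type*} [Group G] {p : ℕ} [Finite G] [Fact p.Prime]

theorem mem_charP_of_le (T : Sylow p G) {L K : Subgroup G} (hTL : (T : Subgroup G) ≤ L)
    (hLK : L ≤ K) (hK : K ∈ charPSubgroups p G) : L ∈ charPSubgroups p G := by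
  have hle : pCoreOf p K ≤ pCoreOf p L :=
    LocalStructure.le_pCoreOf ((pCoreOf_le_sylow T (hTL.trans hLK)).trans hTL)
      (hLK.trans (le_normalizer_pCoreOf p K)) (isPGroup_pCoreOf p K)
  refine ⟨fun e => hK.1 ((pCoreOf_eq_bot_iff K).1 (eq_bot_mono hle ((pCoreOf_eq_bot_iff L).2 e))),
    ?_⟩
  exact (Subgroup.centralizer_le hle).trans (hK.2.trans hle)

theorem hasCharP_of_mem {K : Subgroup G} (hK : K ∈ charPSubgroups p G) :
    K ⊓ Subgroup.centralizer (pCoreOf p K : Set G) ≤ pCoreOf p K :=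
  inf_le_right.trans hK.2

theorem largest_ne_bot (T : Sylow p G) {L : Subgroup G} (hTL : (T : Subgroup G) ≤ L)
    (hL : L ∈ charPSubgroups p G) : largestPReducedOf p L ≠ ⊥ := by
  intro e
  have hT : (T : Subgroup G) ≠ ⊥ := fun e' =>
    hL.1 ((pCoreOf_eq_bot_iff L).1 (eq_bot_mono (pCoreOf_le_sylow T hTL) e'))
  have hZ := inf_centralizer_ne_bot T.2 hT T.2 Subgroup.le_normalizer
  set Z := (T : Subgroup G) ⊓ Subgroup.centralizer ((T : Subgroup G) : Set G) with hZdef
  have hdvd : p ∣ Nat.card Z := by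
    obtain ⟨n, hn⟩ := (T.2.to_le (inf_le_left : Z ≤ T)).exists_card_eq
    rcases n with _ | n
    · exact absurd (Subgroup.card_eq_one.1 (by rw [hn, pow_zero])) hZ
    · exact ⟨p ^ n, by rw [hn, pow_succ']⟩
  obtain ⟨x, hx⟩ := exists_prime_orderOf_dvd_card' p hdvd
  have hx' : (x : G) ∈ omegaOne p Z :=
    PGroup.mem_omegaOne_of_pow_eq_one x.2
      (orderOf_dvd_iff_pow_eq_one.1 (by rw [Subgroup.orderOf_coe, hx]))
  have := omegaZ_sylow_le_largest (hasCharP_of_mem hL) (isSylowIn_of_sylow T hTL) hx'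
  rw [e, Subgroup.mem_bot] at this
  have h1 : x = 1 := Subtype.ext this
  rw [h1, orderOf_one] at hx
  exact (Fact.out : p.Prime).one_lt.ne hx

/-- `L* ≤ X` with the same `Y` and the same product with `C(Y_L)`. -/
theorem exists_star (T : Sylow p G) {L L₁ X : Subgroup G} (hTL : (T : Subgroup G) ≤ L)
    (hL : L ∈ charPSubgroups p G) (hTL₁ : (T : Subgroup G) ≤ L₁) (hL₁X : L₁ ≤ X)
    (hX : X ∈ charPSubgroups p G)
    (heq : L₁ ⊔ Subgroup.centralizer (largestPReducedOf p L : Set G) =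
      L ⊔ Subgroup.centralizer (largestPReducedOf p L : Set G)) :
    ∃ Ls : Subgroup G, (T : Subgroup G) ≤ Ls ∧ Ls ≤ L₁ ∧ Ls ∈ charPSubgroups p G ∧
      largestPReducedOf p Ls = largestPReducedOf p L ∧
      L ⊔ Subgroup.centralizer (largestPReducedOf p L : Set G) =
        Ls ⊔ Subgroup.centralizer (largestPReducedOf p L : Set G) := by
  set Y := largestPReducedOf p L with hY
  set C := Subgroup.centralizer (Y : Set G) with hC
  set T₀ := (T : Subgroup G) ⊓ C with hT₀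
  have hLN : L ≤ normalizer (Y : Set G) := le_normalizer_largest L
  have hMN : L₁ ≤ normalizer (Y : Set G) :=
    le_sup_left.trans (heq.le.trans (sup_le hLN (LocalStructure.centralizer_le_normalizer Y)))
  have hR : IsSylowIn p T₀ C := isSylowIn_inf_centralizer T (hTL.trans hLN)
  have hTT₀ : (T : Subgroup G) ≤ normalizer (T₀ : Set G) :=
    le_normalizer_inf Subgroup.le_normalizer (le_normalizer_centralizer (hTL.trans hLN))
  set Ls := L₁ ⊓ normalizer (T₀ : Set G) with hLs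
  have hTLs : (T : Subgroup G) ≤ Ls := le_inf hTL₁ hTT₀
  have hLsC : L₁ ⊔ C = Ls ⊔ C := by
    refine le_antisymm (sup_le ?_ le_sup_right) (sup_le_sup_right inf_le_left _)
    intro m hm
    have hR' : IsSylowIn p T₀ (L₁ ⊓ C) :=
      hR.mono (le_inf (inf_le_left.trans hTL₁) hR.1) inf_le_right
    obtain ⟨n, hn, hnm⟩ := hR'.frattini
      (le_normalizer_inf L₁.le_normalizer (le_normalizer_centralizer hMN)) hm
    have h1 : n * m ∈ Ls := ⟨mul_mem hn.1 hm, hnm⟩
    simpa using mul_mem (le_sup_right (a := Ls) (inv_mem hn.2)) (le_sup_left (b := C) h1)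
  have heq' : L ⊔ C = Ls ⊔ C := heq.symm.trans hLsC
  have hY1 : Y ≤ largestPReducedOf p Ls := le_largestPReducedOf
    ((isPRedIn_largest p L).transfer
      ((largest_le_pCoreOf L).trans ((pCoreOf_le_sylow T hTL).trans hTLs)) heq'.symm)
  refine ⟨Ls, hTLs, inf_le_left, mem_charP_of_le T hTLs (inf_le_left.trans hL₁X) hX,
    le_antisymm ?_ hY1, heq'⟩
  have hYs := isPRedIn_largest p Ls
  have hT0Ls : T₀ ≤ pCoreOf p Ls :=
    LocalStructure.le_pCoreOf (inf_le_left.trans hTLs) inf_le_right hR.2.1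
  have hOT : pCoreOf p L ≤ T₀ :=
    le_inf (pCoreOf_le_sylow T hTL) (pCoreOf_le_centralizer_largest L)
  have hc : largestPReducedOf p Ls ≤ Subgroup.centralizer (pCoreOf p L : Set G) :=
    Subgroup.le_centralizer_iff.1 ((hOT.trans hT0Ls).trans hYs.pCoreOf_le_centralizer)
  refine le_largest_of_piece (isSylowIn_of_sylow T hTL) (le_omegaOne hYs.2.2.1.2
    (le_inf ((le_inf (hYs.le_pCoreOf.trans ((pCoreOf_le_sylow T hTLs).trans hTL)) hc).trans
      (hasCharP_of_mem hL)) hc)) fun D hDL hD hpow => ?_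
  have hDC : D ≤ C := (isPRedIn_largest p L).2.2.2 D hDL hD fun x hx =>
    (hpow x hx).imp fun _ hk => Subgroup.centralizer_le hY1 hk
  exact (inf_le_inf_left _ hDC).trans (hT0Ls.trans hYs.pCoreOf_le_centralizer)

/-- A conjugate under `D` of the Sylow subgroup lies in a supplement of `D` containing the
Sylow subgroup `R` of `D`. -/
theorem exists_conj_le_of_supplement (T : Sylow p G) {M D K : Subgroup G}
    (hTM : (T : Subgroup G) ≤ M) (hDM : D ≤ M) (hn : M ≤ normalizer (D : Set G))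
    (hKM : K ≤ M) (hKD : M ≤ D ⊔ K) (hRK : (T : Subgroup G) ⊓ D ≤ K)
    (hR : M ≤ normalizer (((T : Subgroup G) ⊓ D : Subgroup G) : Set G)) :
    ∃ c ∈ D, (T : Subgroup G).map (MulAut.conj c).toMonoidHom ≤ K := by
  set R := (T : Subgroup G) ⊓ D with hRdef
  have hRs : IsSylowIn p R D := (isSylowIn_of_sylow T hTM).inf_normal hDM hn
  set U := (T : Subgroup G) ⊔ D with hU
  have hUM : U ≤ M := sup_le hTM hDM
  set K₁ := K ⊓ U with hK₁
  obtain ⟨Q₁, hQ₁⟩ := exists_isSylowIn p K₁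
  have hres : resOf p K₁ ≤ D := by
    refine resOf_le_of_le_sup (hTM.trans hn) T.2 ?_
    exact (resOf_le p _).trans inf_le_right
  have hK₁Q : K₁ ≤ D ⊔ Q₁ := hQ₁.resOf_sup.ge.trans (sup_le_sup_right hres _)
  have hQ₁U : Q₁ ≤ U := hQ₁.1.trans inf_le_right
  have hRQ : R ≤ Q₁ := by
    have e := hQ₁.2.2 (Q₁ ⊔ R) le_sup_left
      (sup_le hQ₁.1 (le_inf hRK (inf_le_right.trans le_sup_right)))
      (isPGroup_sup hQ₁.2.1 hRs.2.1 ((hQ₁U.trans hUM).trans hR))
    exact e ▸ le_sup_right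
  have hUeq : U ≤ D ⊔ Q₁ := by
    intro u hu
    obtain ⟨d, hd, k, hk, rfl⟩ :=
      exists_mul_of_mem_sup' (hKM.trans hn) (sup_comm D K ▸ hKD (hUM hu))
    have hk' : k ∈ U := by
      have := mul_mem (inv_mem (le_sup_right (a := (T : Subgroup G)) hd : d ∈ U)) hu
      simpa using this
    exact mul_mem (le_sup_left (b := Q₁) hd) (hK₁Q ⟨hk, hk'⟩)
  have hQU : IsSylowIn p Q₁ U := by
    refine ⟨hQ₁U, hQ₁.2.1, fun Q' h1 h2 h3 => le_antisymm (fun x hx => ?_) h1⟩
    obtain ⟨d, hd, q, hq, rfl⟩ :=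
      exists_mul_of_mem_sup' ((hQ₁U.trans hUM).trans hn) (sup_comm D Q₁ ▸ hUeq (h2 hx))
    have hd' : d ∈ Q' := by simpa using mul_mem hx (inv_mem (h1 hq))
    have hdR : d ∈ R := by
      obtain ⟨l, hl, hle⟩ := hRs.exists_conj_le (h3.to_le (inf_le_left : Q' ⊓ D ≤ Q')) inf_le_right
      exact hRs.eq_of_le_normalizer (h3.to_le inf_le_left) inf_le_right
        (hDM.trans hR) ⟨hd', hd⟩
    exact mul_mem (hRQ hdR) hq
  obtain ⟨u, hu, hle⟩ := hQU.exists_conj_le T.2 le_sup_left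
  obtain ⟨c, hc, t, ht, rfl⟩ := exists_mul_of_mem_sup' (hTM.trans hn) hu
  refine ⟨c, hc, ?_⟩
  rw [map_conj_mul, map_conj_eq_self (Subgroup.le_normalizer ht)] at hle
  exact hle.trans (hQ₁.1.trans inf_le_left)

/-- `S2847`, with the hypothesis that parabolic `p`-locals lie in `𝓛`. -/
theorem exists_frakM (T : Sylow p G)
    (hloc : ∀ R : Subgroup G, IsPGroup p R → R ≠ ⊥ → (T : Subgroup G) ≤ normalizer (R : Set G) →
      Subgroup.centralizer (pCoreOf p (normalizer (R : Set G)) : Set G) ≤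
        pCoreOf p (normalizer (R : Set G)))
    {L : Subgroup G} (hTL : (T : Subgroup G) ≤ L) (hL : L ∈ charPSubgroups p G) :
    ∃ M Ls : Subgroup G, (T : Subgroup G) ≤ M ∧ IsInFrakM p M ∧ (T : Subgroup G) ≤ Ls ∧ Ls ≤ M ∧
      Ls ∈ charPSubgroups p G ∧ largestPReducedOf p L = largestPReducedOf p Ls ∧
      largestPReducedOf p L ≤ largestPReducedOf p M ∧
      L ⊔ Subgroup.centralizer (largestPReducedOf p L : Set G) =
        Ls ⊔ Subgroup.centralizer (largestPReducedOf p L : Set G) := by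
  set CL := Subgroup.centralizer (largestPReducedOf p L : Set G) with hCL
  set F : Set (Subgroup G) := {K | (T : Subgroup G) ≤ K ∧ K ∈ charPSubgroups p G ∧
    ∃ L₁, (T : Subgroup G) ≤ L₁ ∧ L₁ ≤ K ∧ L₁ ⊔ CL = L ⊔ CL} with hF
  obtain ⟨K, ⟨hTK, hK, L₁, hTL₁, hL₁K, hL₁⟩, hmax⟩ := Set.Finite.exists_maximalFor
    (fun K : Subgroup G => Nat.card (largestPReducedOf p K)) F (Set.toFinite _)
    ⟨L, hTL, hL, L, hTL, le_rfl, rfl⟩
  have hmax' : ∀ Z ∈ F, largestPReducedOf p K ≤ largestPReducedOf p Z →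
      largestPReducedOf p Z = largestPReducedOf p K := fun Z hZ hle =>
    (Subgroup.eq_of_le_of_card_ge hle (hmax hZ (Subgroup.card_le_of_le hle))).symm
  set X := normalizer (largestPReducedOf p K : Set G) with hXdef
  have hKX : K ≤ X := le_normalizer_largest K
  have hTX : (T : Subgroup G) ≤ X := hTK.trans hKX
  have hYK := largest_ne_bot T hTK hK
  have hYKp : IsPGroup p (largestPReducedOf p K) :=
    (isPGroup_pCoreOf p K).to_le (largest_le_pCoreOf K)
  have hX : X ∈ charPSubgroups p G :=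
    ⟨pCore_ne_bot_of_le_normalizer hYKp hYK, hloc _ hYKp hYK hTX⟩
  have hYX : largestPReducedOf p X = largestPReducedOf p K :=
    hmax' X ⟨hTX, hX, L₁, hTL₁, hL₁K.trans hKX, hL₁⟩
      (largest_mono T hTK hKX (hasCharP_of_mem hX))
  obtain ⟨L₂, hTL₂, hL₂L₁, hL₂, hY₂, hL₂eq⟩ :=
    exists_star T hTL hL hTL₁ (hL₁K.trans hKX) hX hL₁
  have hLX : largestPReducedOf p L ≤ largestPReducedOf p X := hY₂ ▸
    largest_mono T hTL₂ (hL₂L₁.trans (hL₁K.trans hKX)) (hasCharP_of_mem hX)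
  set C := Subgroup.centralizer (largestPReducedOf p X : Set G) with hC
  have hCX : C ≤ X := by
    rw [hC, hYX]
    exact LocalStructure.centralizer_le_normalizer _
  have hCCL : C ≤ CL := Subgroup.centralizer_le hLX
  obtain ⟨M, ⟨hTM, hMX, hMC⟩, hmin⟩ := Set.Finite.exists_minimalFor
    (fun M : Subgroup G => Nat.card M)
    {M : Subgroup G | (T : Subgroup G) ≤ M ∧ M ≤ X ∧ X ≤ M ⊔ C} (Set.toFinite _)
    ⟨X, hTX, le_rfl, le_sup_left⟩
  have hmin' : ∀ M' : Subgroup G, (T : Subgroup G) ≤ M' → M' ≤ X → X ≤ M' ⊔ C →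
      Nat.card M' ≤ Nat.card M → Nat.card M ≤ Nat.card M' := fun M' h1 h2 h3 h4 =>
    hmin ⟨h1, h2, h3⟩ h4
  have hMCeq : M ⊔ C = X := le_antisymm (sup_le hMX hCX) hMC
  have hM : M ∈ charPSubgroups p G := mem_charP_of_le T hTM hMX hX
  have hYM : largestPReducedOf p M = largestPReducedOf p X := by
    refine le_antisymm (largest_mono T hTM hMX (hasCharP_of_mem hX)) (le_largestPReducedOf
      ((isPRedIn_largest p X).transfer
        ((largest_le_pCoreOf X).trans ((pCoreOf_le_sylow T hTX).trans hTM)) ?_))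
    rw [← hC, hMCeq, sup_eq_left.2 hCX]
  set L₃ := M ⊓ (L₂ ⊔ C) with hL₃
  have hTL₃ : (T : Subgroup G) ≤ L₃ := le_inf hTM (hTL₂.trans le_sup_left)
  have hL₂X : L₂ ≤ X := hL₂L₁.trans (hL₁K.trans hKX)
  have hL₂3 : L₂ ≤ L₃ ⊔ C := by
    intro x hx
    obtain ⟨m, hm, c, hc, rfl⟩ := exists_mul_of_mem_sup
      (hMX.trans (le_normalizer_centralizer (le_normalizer_largest X))) (hMC (hL₂X hx))
    refine mul_mem (le_sup_left (b := C) ⟨hm, ?_⟩) (le_sup_right (a := L₃) hc)
    simpa using mul_mem (le_sup_left (b := C) hx) (le_sup_right (a := L₂) (inv_mem hc))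
  have hL₃eq : L₃ ⊔ CL = L ⊔ CL := by
    rw [hL₂eq]
    refine le_antisymm (sup_le (inf_le_right.trans (sup_le_sup_left hCCL _)) le_sup_right)
      (sup_le (hL₂3.trans (sup_le_sup_left hCCL _)) le_sup_right)
  obtain ⟨Ls, hTLs, hLs3, hLs, hYs, hLseq⟩ := exists_star T hTL hL hTL₃ inf_le_left hM hL₃eq
  have huniq : ∀ Z ∈ charPSubgroups p G, M ≤ Z → Z ≤ X := by
    intro Z hZ hMZ
    have h1 : largestPReducedOf p K ≤ largestPReducedOf p Z := by
      rw [← hYX, ← hYM]; exact largest_mono T hTM hMZ (hasCharP_of_mem hZ)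
    have h2 := hmax' Z ⟨hTM.trans hMZ, hZ, L₃, hTL₃, inf_le_left.trans hMZ, hL₃eq⟩ h1
    rw [hXdef, ← h2]
    exact le_normalizer_largest Z
  have hXmax : X ∈ maxCharPSubgroups p G :=
    ⟨hX, fun Z hZ hXZ => le_antisymm (huniq Z hZ (hMX.trans hXZ)) hXZ⟩
  set D := M ⊓ C with hD
  have hDn : M ≤ normalizer (D : Set G) := le_normalizer_inf M.le_normalizer
    (hMX.trans (le_normalizer_centralizer (le_normalizer_largest X)))
  set R := (T : Subgroup G) ⊓ D with hRdef
  have hR : IsSylowIn p R D := (isSylowIn_of_sylow T hTM).inf_normal inf_le_left hDn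
  have hMR : M ≤ normalizer (R : Set G) := by
    have hT' : (T : Subgroup G) ≤ M ⊓ normalizer (R : Set G) :=
      le_inf hTM (le_normalizer_inf Subgroup.le_normalizer (hTM.trans hDn))
    have hXle : X ≤ M ⊓ normalizer (R : Set G) ⊔ C := by
      refine hMC.trans (sup_le (fun m hm => ?_) le_sup_right)
      obtain ⟨n, hn, hnm⟩ := hR.frattini hDn hm
      simpa using mul_mem (le_sup_right (a := M ⊓ normalizer (R : Set G)) (inv_mem hn.2))
        (le_sup_left (b := C) (⟨mul_mem hn.1 hm, hnm⟩ : n * m ∈ M ⊓ normalizer (R : Set G)))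
    have h1 := hmin' _ hT' (inf_le_left.trans hMX) hXle (Subgroup.card_le_of_le inf_le_left)
    exact (Subgroup.eq_of_le_of_card_ge inf_le_left h1).ge.trans inf_le_right
  have hfr : (D.subgroupOf M).map (QuotientGroup.mk' (pCore p ↥M)) ≤
      frattini (↥M ⧸ pCore p ↥M) := by
    have := pCore_normal p ↥M
    refine le_iInf₂ fun Kq hKq => ?_
    by_contra hne
    set π := QuotientGroup.mk' (pCore p ↥M) with hπ
    have hπs : Function.Surjective π := QuotientGroup.mk'_surjective _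
    set K₀ := (Kq.comap π).map M.subtype with hK₀
    have hKM : K₀ ≤ M := Subgroup.map_subtype_le _
    have hKD : M ≤ D ⊔ K₀ := by
      intro m hm
      have h1 : Kq < Kq ⊔ (D.subgroupOf M).map π :=
        lt_of_le_of_ne le_sup_left fun e => hne (e ▸ le_sup_right)
      have h2 : ((⟨m, hm⟩ : ↥M) : ↥M) ∈ Kq.comap π ⊔ D.subgroupOf M := by
        have h3 : π ⟨m, hm⟩ ∈ Kq ⊔ (D.subgroupOf M).map π := by
          rw [hKq.2 _ h1]; trivial
        have h4 : π ⟨m, hm⟩ ∈ (Kq.comap π ⊔ D.subgroupOf M).map π := by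
          rwa [Subgroup.map_sup, Subgroup.map_comap_eq_self_of_surjective hπs Kq]
        obtain ⟨y, hy, e⟩ := h4
        have h5 : y⁻¹ * ⟨m, hm⟩ ∈ Kq.comap π := by
          show π (y⁻¹ * ⟨m, hm⟩) ∈ Kq
          rw [map_mul, map_inv, e, inv_mul_cancel]
          exact one_mem _
        simpa using mul_mem hy (le_sup_left (b := D.subgroupOf M) h5)
      have := Subgroup.mem_map_of_mem M.subtype h2
      rw [Subgroup.map_sup, subgroupOf_map_subtype, inf_eq_left.2 (inf_le_left : D ≤ M),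
        sup_comm] at this
      exact this
    have hPK : pCoreOf p M ≤ K₀ := Subgroup.map_mono (by
      intro x hx
      show π x ∈ Kq
      rw [hπ, QuotientGroup.mk'_apply, (QuotientGroup.eq_one_iff x).2 hx]
      exact one_mem _)
    obtain ⟨c, hc, hcK⟩ := exists_conj_le_of_supplement T hTM (inf_le_left : D ≤ M) hDn hKM hKD
      ((LocalStructure.le_pCoreOf (hR.1.trans inf_le_left) hMR hR.2.1).trans hPK) hMR
    set K₁ := K₀.map (MulAut.conj c⁻¹).toMonoidHom with hK₁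
    have hTK₁ : (T : Subgroup G) ≤ K₁ := by
      refine le_trans (le_of_eq ?_) (Subgroup.map_mono hcK)
      rw [← map_conj_mul, inv_mul_cancel, map_conj_one]
    have hXK₁ : X ≤ K₁ ⊔ C := by
      refine hMC.trans (sup_le (hKD.trans (sup_le (inf_le_right.trans le_sup_right) ?_)) le_sup_right)
      intro k hk
      have hk' : c⁻¹ * k * c⁻¹⁻¹ ∈ K₁ := conj_mem_map_conj hk
      simpa [mul_assoc] using mul_mem (mul_mem (le_sup_right (a := K₁) hc.2)
        (le_sup_left (b := C) hk')) (le_sup_right (a := K₁) (inv_mem hc.2))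
    have h1 := hmin' K₁ hTK₁ ((map_conj_le hKM (inv_mem hc.1)).trans hMX) hXK₁
      (by rw [card_map_conj]; exact Subgroup.card_le_of_le hKM)
    rw [card_map_conj] at h1
    have h2 : K₀ = M := Subgroup.eq_of_le_of_card_ge hKM h1
    apply hKq.1
    rw [← Subgroup.map_comap_eq_self_of_surjective hπs Kq]
    have h3 : Kq.comap π = ⊤ := by
      rw [eq_top_iff]
      intro x _
      obtain ⟨y, hy, e⟩ := h2.ge x.2
      rwa [Subtype.ext e] at hy
    rw [h3, ← MonoidHom.range_eq_map, MonoidHom.range_eq_top.2 hπs]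
  refine ⟨M, Ls, hTM, ?_, hTLs, hLs3.trans inf_le_left, hLs, hYs.symm, ?_, hLseq⟩
  · rw [IsInFrakM, hYM, ← hC, hMCeq]
    refine ⟨hM, hXmax, fun Z hZ hMZ => ?_, rfl, (isPClosed_sub_iff_sylow hR).2 ?_, hfr⟩
    · exact (hZ.2 X hX (huniq Z hZ.1 hMZ)).symm
    · exact inf_le_left.trans hMR
  · exact hYM ▸ hLX

end Cfsg.Agent.LocalStructure
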