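import Cfsg.Agent.Lib.LocalStructure.Minimal
import Cfsg.Agent.Lib.PGroup.ElementaryAbelian
import Cfsg.Agent.S2836

/-! Fixed points on `O_p(L)/C` in a `Y`-minimal group with `O_p(L) = ⟨(Y ∩ O_p(L))^L⟩`. -/

set_option autoImplicit false
set_option linter.unusedSectionVars false

open Subgroup
open scoped commutatorElement

namespace Cfsg.Agent.LocalStructure

variable {L : Type*} [Group L] [Finite L] {p : ℕ} [Fact p.Prime]

/-- The hypotheses on `(L, Y)`. -/
structure YSetup (p : ℕ) (Y : Subgroup L) : Prop where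
  char : Subgroup.centralizer (pCore p L : Set L) ≤ pCore p L
  elem : IsElementaryAbelian p Y
  min : IsMinimalOver Y
  coatom : IsCoatom (normalizer (Y : Set L))
  normalizes : pCore p L ≤ normalizer (Y : Set L)
  closure : pCore p L = Subgroup.normalClosure ((Y ⊓ pCore p L : Subgroup L) : Set L)

variable {Y : Subgroup L}

/-- The conjugate `aYa⁻¹`. -/
abbrev cnj (a : L) (K : Subgroup L) : Subgroup L := K.map (MulAut.conj a).toMonoidHom

namespace YSetup

theorem not_mem (h : YSetup p Y) : ∃ g : L, g ∉ normalizer (Y : Set L) := by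
  by_contra hc
  push Not at hc
  exact h.coatom.1 (eq_top_iff.2 fun x _ => hc x)

theorem map_core (a : L) : cnj a (pCore p L) = pCore p L :=
  map_conj_eq_self ((normalizer_eq_top_iff.2 (pCore_normal p L)).ge (Subgroup.mem_top a))

theorem comm_Y (h : YSetup p Y) {a u v : L} (hu : u ∈ cnj a Y) (hv : v ∈ cnj a Y) :
    u * v = v * u :=
  PGroup.mul_comm_of_elementaryAbelian (PGroup.isElementaryAbelian_map h.elem _) hu hv

theorem normalizer_conj (a : L) : cnj a (normalizer (Y : Set L)) ≤ normalizer (cnj a Y : Set L) :=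
  le_normalizer_map _

theorem core_le_normalizer (h : YSetup p Y) (a : L) :
    pCore p L ≤ normalizer (cnj a Y : Set L) :=
  (map_core a).ge.trans ((Subgroup.map_mono h.normalizes).trans (normalizer_conj a))

/-- `aBa⁻¹`, where `B = Y ∩ O_p(L)`. -/
theorem mem_BB (a x : L) : x ∈ cnj a (Y ⊓ pCore p L) ↔ x ∈ cnj a Y ∧ x ∈ pCore p L := by
  have e : cnj a (Y ⊓ pCore p L) = cnj a Y ⊓ pCore p L := by
    show (Y ⊓ pCore p L).map _ = _
    rw [Subgroup.map_inf _ _ _ (MulAut.conj a).injective]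
    exact congrArg _ (map_core a)
  rw [e]
  exact Subgroup.mem_inf

theorem commutator_mem_BB (h : YSetup p Y) {a y x : L} (hy : y ∈ cnj a Y) (hx : x ∈ pCore p L) :
    ⁅y, x⁆ ∈ cnj a (Y ⊓ pCore p L) := by
  rw [mem_BB, commutatorElement_def]
  refine ⟨?_, mul_mem ((pCore_normal p L).conj_mem x hx y) (inv_mem hx)⟩
  rw [show y * x * y⁻¹ * x⁻¹ = y * (x * y⁻¹ * x⁻¹) by group]
  exact mul_mem hy ((mem_normalizer_iff.1 (core_le_normalizer h a hx) _).1 (inv_mem hy))

theorem center_le (h : YSetup p Y) : Subgroup.center L ≤ pCore p L :=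
  (Subgroup.center_le_centralizer _).trans h.char

theorem mem_cnj_of_center {K : Subgroup L} (a : L) {x : L} (hx : x ∈ K)
    (hc : x ∈ Subgroup.center L) : x ∈ cnj a K := by
  refine mem_map_conj.2 ?_
  rw [mul_assoc, ← Subgroup.mem_center_iff.1 hc a, ← mul_assoc, inv_mul_cancel, one_mul]
  exact hx

theorem C_le_BB (h : YSetup p Y) (a : L) :
    Y ⊓ Subgroup.center L ≤ cnj a (Y ⊓ pCore p L) := fun _ hx =>
  mem_cnj_of_center a ⟨hx.1, h.center_le hx.2⟩ hx.2

theorem C_conj {c : L} (hc : c ∈ Y ⊓ Subgroup.center L) (g : L) : g * c * g⁻¹ = c := by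
  rw [Subgroup.mem_center_iff.1 hc.2 g, mul_assoc, mul_inv_cancel, mul_one]

/-- `Y^a ∩ Y^b = C` unless the conjugates coincide. -/
theorem inf_cnj (h : YSetup p Y) {a b : L} (hab : a⁻¹ * b ∉ normalizer (Y : Set L)) {x : L}
    (ha : x ∈ cnj a Y) (hb : x ∈ cnj b Y) : x ∈ Y ⊓ Subgroup.center L := by
  have hgen : cnj a Y ⊔ cnj b Y = ⊤ := by
    have e := minOver_sup_conj h.min h.coatom Subgroup.le_normalizer hab
    have e' := congrArg (cnj a) e
    simp only [cnj] at e'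
    rw [Subgroup.map_sup, ← map_conj_mul, mul_inv_cancel_left,
      Subgroup.map_top_of_surjective (MulAut.conj a).toMonoidHom (MulAut.conj a).surjective] at e'
    exact e'
  have hc : x ∈ Subgroup.center L := by
    have hle : cnj a Y ⊔ cnj b Y ≤ Subgroup.centralizer ({x} : Set L) := sup_le
      (fun y hy => Subgroup.mem_centralizer_singleton_iff.2 (h.comm_Y hy ha))
      (fun y hy => Subgroup.mem_centralizer_singleton_iff.2 (h.comm_Y hy hb))
    rw [hgen] at hle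
    exact Subgroup.mem_center_iff.2 fun y =>
      Subgroup.mem_centralizer_singleton_iff.1 (hle (Subgroup.mem_top y))
  refine ⟨?_, hc⟩
  have := mem_map_conj.1 ha
  rwa [mul_assoc, ← Subgroup.mem_center_iff.1 hc a, ← mul_assoc, inv_mul_cancel, one_mul] at this

theorem core_eq (h : YSetup p Y) {g : L} (hg : g ∉ normalizer (Y : Set L)) :
    pCore p L = (Y ⊓ pCore p L) ⊔ cnj g (Y ⊓ pCore p L) := by
  set B := Y ⊓ pCore p L with hB
  have hn : ∀ a b : L, cnj a Y ≤ normalizer ((cnj a B ⊔ cnj b B : Subgroup L) : Set L) := by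
    intro a b y hy
    apply mem_normalizer_of_map_conj_le
    rw [Subgroup.map_sup]
    refine sup_le ?_ ?_
    · rintro _ ⟨x, hx, rfl⟩
      obtain ⟨hxY, hxO⟩ := (mem_BB a x).1 hx
      show y * x * y⁻¹ ∈ _
      rw [h.comm_Y hy hxY, mul_inv_cancel_right]
      exact le_sup_left (b := cnj b B) hx
    · rintro _ ⟨x, hx, rfl⟩
      obtain ⟨-, hxO⟩ := (mem_BB b x).1 hx
      show y * x * y⁻¹ ∈ _
      rw [show y * x * y⁻¹ = ⁅y, x⁆ * x by rw [commutatorElement_def]; group]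
      exact mul_mem (le_sup_left (b := cnj b B) (h.commutator_mem_BB hy hxO))
        (le_sup_right (a := cnj a B) hx)
  have hgen : Y ⊔ cnj g Y = ⊤ := minOver_sup_conj h.min h.coatom Subgroup.le_normalizer hg
  have h1 := hn 1 g
  have h2 := hn g 1
  simp only [cnj, map_conj_one] at h1 h2
  rw [sup_comm] at h2
  have hnorm : (B ⊔ cnj g B).Normal :=
    normalizer_eq_top_iff.1 (top_le_iff.1 (hgen ▸ sup_le h1 h2))
  refine le_antisymm (h.closure.le.trans (Subgroup.normalClosure_le_normal (le_sup_left : B ≤ B ⊔ _)))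
    (sup_le inf_le_right fun x hx => ((mem_BB g x).1 hx).2)

theorem decomp (h : YSetup p Y) {g x : L} (hg : g ∉ normalizer (Y : Set L)) (hx : x ∈ pCore p L) :
    ∃ b ∈ Y ⊓ pCore p L, ∃ b' ∈ cnj g (Y ⊓ pCore p L), b * b' = x := by
  refine exists_mul_of_mem_sup' (fun b hb => ?_) (sup_comm (Y ⊓ pCore p L) _ ▸ (h.core_eq hg).le hx)
  have hb' : b ∈ pCore p L := ((mem_BB g b).1 hb).2
  exact inf_normalizer_le_normalizer_inf ⟨h.normalizes hb', Subgroup.le_normalizer hb'⟩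

/-- `[O_p(L), O_p(L)] ≤ C`. -/
theorem commutator_core (h : YSetup p Y) {x z : L} (hx : x ∈ pCore p L) (hz : z ∈ pCore p L) :
    ⁅x, z⁆ ∈ Y ⊓ Subgroup.center L := by
  obtain ⟨g, hg⟩ := h.not_mem
  have hg' : (1 : L)⁻¹ * g ∉ normalizer (Y : Set L) := by simpa using hg
  have key : ∀ a z' : L, z' ∈ pCore p L → ∀ b ∈ cnj a (Y ⊓ pCore p L), ∀ a' : L,
      a⁻¹ * a' ∉ normalizer (Y : Set L) → ∀ b' ∈ cnj a' (Y ⊓ pCore p L), ⁅b, b'⁆ ∈ Y ⊓ Subgroup.center L := by
    intro a z' _ b hb a' haa b' hb'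
    obtain ⟨hbY, hbO⟩ := (mem_BB a b).1 hb
    obtain ⟨hb'Y, hb'O⟩ := (mem_BB a' b').1 hb'
    have h1 := ((mem_BB a _).1 (h.commutator_mem_BB hbY hb'O)).1
    have h2 := ((mem_BB a' _).1 (h.commutator_mem_BB hb'Y hbO)).1
    rw [← commutatorElement_inv] at h2
    exact h.inf_cnj haa h1 (by simpa using inv_mem h2)
  obtain ⟨b₁, hb₁, b₂, hb₂, rfl⟩ := h.decomp hg hx
  obtain ⟨c₁, hc₁, c₂, hc₂, rfl⟩ := h.decomp hg hz
  have hb₁' : b₁ ∈ cnj 1 (Y ⊓ pCore p L) := by simpa [cnj, map_conj_one] using hb₁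
  have hc₁' : c₁ ∈ cnj 1 (Y ⊓ pCore p L) := by simpa [cnj, map_conj_one] using hc₁
  have e1 : ⁅b₁, c₁⁆ = 1 := commutatorElement_eq_one_iff_mul_comm.2
    (PGroup.mul_comm_of_elementaryAbelian h.elem hb₁.1 hc₁.1)
  have e2 : ⁅b₂, c₂⁆ = 1 := commutatorElement_eq_one_iff_mul_comm.2
    (h.comm_Y ((mem_BB g _).1 hb₂).1 ((mem_BB g _).1 hc₂).1)
  have hC12 := key 1 b₁ hb₁.2 b₁ hb₁' g hg' c₂ hc₂
  have hC21 := inv_mem (key 1 b₁ hb₁.2 c₁ hc₁' g hg' b₂ hb₂)
  rw [commutatorElement_inv] at hC21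
  have e : ⁅b₁ * b₂, c₁ * c₂⁆ =
      b₁ * (⁅b₂, c₁⁆ * (c₁ * ⁅b₂, c₂⁆ * c₁⁻¹)) * b₁⁻¹ * (⁅b₁, c₁⁆ * (c₁ * ⁅b₁, c₂⁆ * c₁⁻¹)) := by
    simp only [commutatorElement_def]; group
  rw [e, e1, e2, one_mul, mul_one, mul_inv_cancel, mul_one, C_conj hC21, C_conj hC12]
  exact mul_mem hC21 hC12

/-- The elements centralising `x` modulo `C`. -/
def stab (Y : Subgroup L) (x : L) : Subgroup L where
  carrier := {g | ⁅g, x⁆ ∈ Y ⊓ Subgroup.center L}
  one_mem' := by simp [one_mem]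
  mul_mem' := by
    intro a b ha hb
    have e : ⁅a * b, x⁆ = a * ⁅b, x⁆ * a⁻¹ * ⁅a, x⁆ := by simp only [commutatorElement_def]; group
    show ⁅a * b, x⁆ ∈ Y ⊓ Subgroup.center L
    rw [e, C_conj hb]
    exact mul_mem hb ha
  inv_mem' := by
    intro a ha
    have e : ⁅a⁻¹, x⁆ = a⁻¹ * ⁅a, x⁆⁻¹ * a := by simp only [commutatorElement_def]; group
    show ⁅a⁻¹, x⁆ ∈ Y ⊓ Subgroup.center L
    rw [e]
    have h2 := C_conj (inv_mem ha) a⁻¹
    rw [inv_inv] at h2
    rw [h2]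
    exact inv_mem ha

theorem mem_stab {g x : L} : g ∈ stab Y x ↔ ⁅g, x⁆ ∈ Y ⊓ Subgroup.center L := Iff.rfl

theorem core_le_stab (h : YSetup p Y) {x : L} (hx : x ∈ pCore p L) : pCore p L ≤ stab Y x :=
  fun _ hg => h.commutator_core hg hx

/-- `C_{Ā}(y) = B̄` for `y ∈ Y ∖ O_p(L)`. -/
theorem mem_B_of_fixed (h : YSetup p Y) {y x : L} (hy : y ∈ Y) (hyO : y ∉ pCore p L)
    (hx : x ∈ pCore p L) (hfix : ⁅y, x⁆ ∈ Y ⊓ Subgroup.center L) : x ∈ Y ⊓ pCore p L := by
  obtain ⟨g, hg⟩ := h.not_mem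
  obtain ⟨b, hb, b', hb', rfl⟩ := h.decomp hg hx
  refine mul_mem hb ?_
  obtain ⟨hb'Y, hb'O⟩ := (mem_BB g b').1 hb'
  have hyb' : ⁅y, b'⁆ ∈ Y ⊓ Subgroup.center L := by
    have e0 : ⁅y, b⁆ = 1 := commutatorElement_eq_one_iff_mul_comm.2
      (PGroup.mul_comm_of_elementaryAbelian h.elem hy hb.1)
    have e : ⁅y, b'⁆ = b⁻¹ * (⁅y, b⁆⁻¹ * ⁅y, b * b'⁆) * b := by
      simp only [commutatorElement_def]; group
    rw [e, e0, inv_one, one_mul]
    have h2 := C_conj hfix b⁻¹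
    rw [inv_inv] at h2
    rw [h2]
    exact hfix
  suffices hb'C : b' ∈ Y ⊓ Subgroup.center L from ⟨hb'C.1, h.center_le hb'C.2⟩
  have hg' : (1 : L)⁻¹ * g ∉ normalizer (Y : Set L) := by simpa using hg
  have hone : ∀ z, z ∈ Y → z ∈ cnj 1 Y := fun z hz => by simpa [cnj, map_conj_one] using hz
  by_cases hK : stab Y b' = ⊤
  · have h1 : ⁅g⁻¹, b'⁆ ∈ Y ⊓ Subgroup.center L := mem_stab.1 (hK ▸ Subgroup.mem_top g⁻¹)
    have h2 : g⁻¹ * b' * g ∈ Y := mem_map_conj.1 hb'Y
    refine h.inf_cnj hg' (hone b' ?_) hb'Y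
    rw [show b' = ⁅g⁻¹, b'⁆⁻¹ * (g⁻¹ * b' * g) by rw [commutatorElement_def]; group]
    exact mul_mem (inv_mem h1.1) h2
  · have hle : stab Y b' ≤ normalizer (cnj g Y : Set L) := by
      refine le_trans ?_ (normalizer_conj g)
      have hY' : cnj g Y ≤ stab Y b' := fun u hu => by
        rw [mem_stab, commutatorElement_eq_one_iff_mul_comm.2 (h.comm_Y hu hb'Y)]
        exact one_mem _
      intro u hu
      rw [mem_map_conj]
      have h1 : Y ≤ cnj g⁻¹ (stab Y b') := by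
        intro z hz
        rw [mem_map_conj]
        simpa using hY' (conj_mem_map_conj (g := g) hz)
      have h2 : cnj g⁻¹ (stab Y b') ≠ ⊤ := fun e => hK (by
        rw [← map_conj_inv_map_conj (stab Y b') g⁻¹, inv_inv]
        show (cnj g⁻¹ (stab Y b')).map _ = ⊤
        rw [e]
        exact Subgroup.map_top_of_surjective _ (MulAut.conj g).surjective)
      have h3 := minOver_le h.min h.coatom Subgroup.le_normalizer h1 h2 (conj_mem_map_conj (g := g⁻¹) hu)
      simpa using h3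
    have hyn : y ∈ normalizer (cnj g Y : Set L) := hle (mem_stab.2 hyb')
    -- `y` centralises all of `O_p(L)` modulo `C`
    set N₀ : Subgroup L := ⨅ z : (pCore p L : Subgroup L), stab Y (z : L) with hN₀
    have hN₀n : N₀.Normal := ⟨fun n hn l => by
      rw [hN₀, Subgroup.mem_iInf] at hn ⊢
      intro z
      have h1 := hn ⟨l⁻¹ * z * l, by
        have := (pCore_normal p L).conj_mem (z : L) z.2 l⁻¹
        rwa [inv_inv] at this⟩
      rw [mem_stab] at h1 ⊢
      have h2 := C_conj h1 l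
      rw [show l * ⁅n, l⁻¹ * (z : L) * l⁆ * l⁻¹ = ⁅l * n * l⁻¹, (z : L)⁆ by
        simp only [commutatorElement_def]; group] at h2
      rw [h2]; exact h1⟩
    have hyN : y ∈ N₀ := by
      rw [hN₀, Subgroup.mem_iInf]
      intro z
      rw [mem_stab]
      obtain ⟨c, hc, c', hc', e⟩ := h.decomp hg z.2
      have e0 : ⁅y, c⁆ = 1 := commutatorElement_eq_one_iff_mul_comm.2
        (PGroup.mul_comm_of_elementaryAbelian h.elem hy hc.1)
      have hcY := ((mem_BB g c').1 hc').1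
      have h1 : ⁅y, c'⁆ ∈ cnj g Y := by
        rw [commutatorElement_def]
        exact mul_mem ((mem_normalizer_iff.1 hyn c').1 hcY) (inv_mem hcY)
      have h2 : ⁅y, c'⁆ ∈ cnj 1 Y :=
        ((mem_BB 1 _).1 (h.commutator_mem_BB (hone y hy) ((mem_BB g c').1 hc').2)).1
      have h3 := h.inf_cnj hg' h2 h1
      rw [← e, show ⁅y, c * c'⁆ = ⁅y, c⁆ * (c * ⁅y, c'⁆ * c⁻¹) by
        simp only [commutatorElement_def]; group, e0, one_mul, C_conj h3]
      exact h3
    exfalso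
    by_cases hNL : N₀ ≤ normalizer (Y : Set L)
    · obtain ⟨T, hT⟩ := ((PGroup.isPGroup_of_elementaryAbelian h.elem).of_equiv
        (subgroupOfEquivOfLe (Subgroup.le_normalizer : Y ≤ normalizer (Y : Set L))).symm).exists_le_sylow
      have hYT : Y ≤ (T : Subgroup ↥(normalizer (Y : Set L))).map (normalizer (Y : Set L)).subtype :=
        fun z hz => ⟨⟨z, Subgroup.le_normalizer hz⟩, hT hz, rfl⟩
      obtain ⟨hcl, -, -⟩ := (Cfsg.Agent.S2836.result _ h.coatom T Y hYT h.min).2 N₀ hNL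
      exact hyO (le_pCore_of_isPClosed hN₀n hcl (Subgroup.zpowers_le.2 hyN)
        ((PGroup.isPGroup_of_elementaryAbelian h.elem).to_le (Subgroup.zpowers_le.2 hy))
        (Subgroup.mem_zpowers y))
    · have htop : N₀ ⊔ Y = ⊤ := by
        by_contra hne
        exact hNL (le_sup_left.trans (minOver_le h.min h.coatom Subgroup.le_normalizer le_sup_right hne))
      have hBC : ∀ z ∈ Y ⊓ pCore p L, z ∈ Y ⊓ Subgroup.center L := by
        intro z hz
        have h1 : N₀ ⊔ Y ≤ stab Y z := sup_le (iInf_le (fun w : (pCore p L : Subgroup L) =>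
          stab Y (w : L)) ⟨z, hz.2⟩) (fun u hu => by
            rw [mem_stab, commutatorElement_eq_one_iff_mul_comm.2
              (PGroup.mul_comm_of_elementaryAbelian h.elem hu hz.1)]
            exact one_mem _)
        rw [htop] at h1
        have h2 := mem_stab.1 (h1 (Subgroup.mem_top g))
        have h3 : g * z * g⁻¹ ∈ Y := by
          rw [show g * z * g⁻¹ = ⁅g, z⁆ * z by rw [commutatorElement_def]; group]
          exact mul_mem h2.1 hz.1
        have h4 := h.inf_cnj hg' (hone _ h3) (conj_mem_map_conj hz.1)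
        have h5 := C_conj h4 g⁻¹
        rw [show g⁻¹ * (g * z * g⁻¹) * g⁻¹⁻¹ = z by group] at h5
        rw [h5]; exact h4
      have hOC : pCore p L ≤ Subgroup.center L := h.closure.le.trans
        (Subgroup.normalClosure_le_normal fun z hz => (hBC z hz).2)
      have hLp : IsPGroup p L := by
        have h1 : (⊤ : Subgroup L) ≤ pCore p L := le_trans (fun u _ =>
          Subgroup.mem_centralizer_iff.2 fun z hz => (Subgroup.mem_center_iff.1 (hOC hz) u).symm) h.char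
        exact ((isPGroup_pCore (G := L) p).to_le h1).of_equiv Subgroup.topEquiv
      have := PGroup.normal_of_isCoatom hLp h.coatom
      have h2 := minOver_not_normal h.min h.coatom Subgroup.le_normalizer
      rw [normalizer_eq_top_iff.2 this] at h2
      exact h.coatom.1 h2.symm

theorem mem_BB_of_fixed (h : YSetup p Y) {a y x : L} (hy : y ∈ cnj a Y) (hyO : y ∉ pCore p L)
    (hx : x ∈ pCore p L) (hfix : ⁅y, x⁆ ∈ Y ⊓ Subgroup.center L) :
    x ∈ cnj a (Y ⊓ pCore p L) := by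
  rw [mem_map_conj]
  refine h.mem_B_of_fixed (mem_map_conj.1 hy) (fun e => hyO ?_) ?_ ?_
  · have := (pCore_normal p L).conj_mem _ e a
    simpa [mul_assoc] using this
  · simpa using (pCore_normal p L).conj_mem x hx a⁻¹
  · rw [show ⁅a⁻¹ * y * a, a⁻¹ * x * a⁆ = a⁻¹ * ⁅y, x⁆ * a by
      simp only [commutatorElement_def]; group]
    have := C_conj hfix a⁻¹
    rw [inv_inv] at this
    rw [this]; exact hfix

theorem isPGroup_sup_core (h : YSetup p Y) (a : L) :
    IsPGroup p (cnj a Y ⊔ pCore p L : Subgroup L) :=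
  isPGroup_sup (isPGroup_map_conj (PGroup.isPGroup_of_elementaryAbelian h.elem) a)
    (isPGroup_pCore p) (le_top.trans (normalizer_eq_top_iff.2 (pCore_normal p L)).ge)

/-- A product of elements of two conjugates of `Y` acts fixed point freely on `O_p(L)/C` unless
it is a `p`-element. -/
theorem fpf_of_mul (h : YSetup p Y) {a b u v o g x : L} (hu : u ∈ cnj a Y) (hv : v ∈ cnj b Y)
    (ho : o ∈ pCore p L) (e : g = u * v * o) (hnp : ¬ ∃ k : ℕ, g ^ p ^ k = 1)
    (hx : x ∈ pCore p L) (hfix : ⁅g, x⁆ ∈ Y ⊓ Subgroup.center L) :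
    x ∈ Y ⊓ Subgroup.center L := by
  have hpelt : ∀ K : Subgroup L, IsPGroup p K → g ∈ K → False := fun K hK hg => hnp
    ((hK ⟨g, hg⟩).elim fun k hk => ⟨k, by simpa [Subtype.ext_iff] using hk⟩)
  have hvO : v ∉ pCore p L := fun hv' => hpelt _ (h.isPGroup_sup_core a) (e ▸
    mul_mem (mul_mem (le_sup_left (b := pCore p L) hu) (le_sup_right (a := cnj a Y) hv'))
      (le_sup_right (a := cnj a Y) ho))
  have huO : u ∉ pCore p L := fun hu' => hpelt _ (h.isPGroup_sup_core b) (e ▸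
    mul_mem (mul_mem (le_sup_right (a := cnj b Y) hu') (le_sup_left (b := pCore p L) hv))
      (le_sup_right (a := cnj b Y) ho))
  have hab : a⁻¹ * b ∉ normalizer (Y : Set L) := by
    intro hn
    have he : cnj b Y = cnj a Y := by
      show Y.map _ = Y.map _
      rw [show b = a * (a⁻¹ * b) by group, map_conj_mul, map_conj_eq_self hn]
    exact hpelt _ (h.isPGroup_sup_core a) (e ▸
      mul_mem (mul_mem (le_sup_left (b := pCore p L) hu) (le_sup_left (b := pCore p L) (he ▸ hv)))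
        (le_sup_right (a := cnj a Y) ho))
  have huv : ⁅u * v, x⁆ ∈ Y ⊓ Subgroup.center L := by
    have h1 : g * o⁻¹ ∈ stab Y x :=
      mul_mem (mem_stab.2 hfix) (inv_mem (h.core_le_stab hx ho))
    rwa [e, mul_inv_cancel_right, mem_stab] at h1
  have hvb := h.commutator_mem_BB hv hx
  have hua := h.commutator_mem_BB hu hx
  have hvx : ⁅v, x⁆ ∈ cnj a Y := by
    have e2 : ⁅v, x⁆ = u⁻¹ * (⁅u * v, x⁆ * ⁅u, x⁆⁻¹) * u := by
      simp only [commutatorElement_def]; group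
    rw [e2]
    exact mul_mem (mul_mem (inv_mem hu) (mul_mem ((mem_BB a _).1 (h.C_le_BB a huv)).1
      (inv_mem ((mem_BB a _).1 hua).1))) hu
  have hvC := h.inf_cnj hab hvx ((mem_BB b _).1 hvb).1
  have hxb := h.mem_BB_of_fixed hv hvO hx hvC
  have huC : ⁅u, x⁆ ∈ Y ⊓ Subgroup.center L := by
    have h1 : u * v * v⁻¹ ∈ stab Y x := mul_mem (mem_stab.2 huv) (inv_mem (mem_stab.2 hvC))
    rwa [mul_inv_cancel_right, mem_stab] at h1
  exact h.inf_cnj hab ((mem_BB a _).1 (h.mem_BB_of_fixed hu huO hx huC)).1 ((mem_BB b _).1 hxb).1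

/-- `x` is modulo `O_p(L)` a product of two elements of conjugates of `Y`. -/
def Dec {Q : Type*} [Group Q] (f : L →* Q) (Y : Subgroup L) (x : Q) : Prop :=
  ∃ a b u v : L, u ∈ cnj a Y ∧ v ∈ cnj b Y ∧ x = f u * f v

/-- Reduction of the fixed point freeness to a decomposition property of the quotient. -/
theorem fpf_of_quotient (h : YSetup p Y) {Q : Type*} [Group Q] (f : L →* Q)
    (hker : f.ker = pCore p L)
    (hQ : ∀ x : Q, (orderOf x).Prime → orderOf x ≠ p → Dec f Y x ∨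
      ((∀ z, z * x = x * z) ∧ ∃ y ∈ Y, y ∉ pCore p L ∧ Dec f Y (x * f y)))
    {g x : L} (hnp : ¬ ∃ k : ℕ, g ^ p ^ k = 1) (hx : x ∈ pCore p L)
    (hfix : ⁅g, x⁆ ∈ Y ⊓ Subgroup.center L) : x ∈ Y ⊓ Subgroup.center L := by
  have hp : p.Prime := Fact.out
  have hkerp : ∀ z : L, f z = 1 → ∃ k : ℕ, z ^ p ^ k = 1 := fun z hz => by
    obtain ⟨k, hk⟩ := isPGroup_pCore (G := L) p ⟨z, hker ▸ hz⟩
    exact ⟨k, by simpa [Subtype.ext_iff] using hk⟩
  have hpimg : ∀ z : L, ∀ k : ℕ, f z ^ p ^ k = 1 → ∃ j : ℕ, z ^ p ^ j = 1 := fun z k hk => by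
    rw [← map_pow] at hk
    obtain ⟨j, hj⟩ := hkerp _ hk
    exact ⟨k + j, by rw [pow_add, pow_mul]; exact hj⟩
  have hdec : ∀ z : L, (¬ ∃ k : ℕ, z ^ p ^ k = 1) → Dec f Y (f z) → ∀ w ∈ pCore p L,
      ⁅z, w⁆ ∈ Y ⊓ Subgroup.center L → w ∈ Y ⊓ Subgroup.center L := by
    rintro z hz ⟨a, b, u, v, hu, hv, e⟩ w hw hf
    refine h.fpf_of_mul hu hv (o := (u * v)⁻¹ * z) ?_ (by group) hz hw hf
    rw [← hker, MonoidHom.mem_ker, map_mul, map_inv, map_mul, e, inv_mul_cancel]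
  have hF0 : 0 < orderOf (f g) := Nat.pos_of_dvd_of_pos (orderOf_map_dvd f g) (orderOf_pos g)
  obtain ⟨s, hs, hsd, hsp⟩ : ∃ s : ℕ, s.Prime ∧ s ∣ orderOf (f g) ∧ s ≠ p := by
    by_contra hc
    push Not at hc
    apply hnp
    have h0 : orderOf (f g) ≠ 0 := hF0.ne'
    obtain hk := Nat.eq_prime_pow_of_unique_prime_dvd h0 (fun {d} hd hdd => hc d hd hdd)
    exact hpimg g _ (hk ▸ pow_orderOf_eq_one (f g))
  obtain ⟨j, hj⟩ := hsd
  set g' := g ^ j with hg'
  have hord : orderOf (f g') = s := by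
    rw [hg', map_pow, orderOf_pow' _ (by
      rintro rfl
      exact hF0.ne' (by simpa using hj)), hj, Nat.gcd_mul_left_left,
      Nat.mul_div_cancel _ (Nat.pos_of_ne_zero (by
        rintro rfl
        exact hF0.ne' (by simpa using hj)))]
  have hnp' : ¬ ∃ k : ℕ, g' ^ p ^ k = 1 := by
    rintro ⟨k, hk⟩
    have h1 : s ∣ p ^ k := hord ▸ orderOf_dvd_of_pow_eq_one (by rw [← map_pow, hk, map_one])
    exact hsp ((Nat.prime_dvd_prime_iff_eq hs hp).1 (hs.dvd_of_dvd_pow h1))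
  have hfix' : ⁅g', x⁆ ∈ Y ⊓ Subgroup.center L := mem_stab.1 (pow_mem (mem_stab.2 hfix) j)
  rcases hQ (f g') (hord ▸ hs) (hord ▸ hsp) with hd | ⟨hcen, y, hy, hyO, hd⟩
  · exact hdec g' hnp' hd x hx hfix'
  by_contra hxC
  -- the fixed points of `g'` are invariant under `y`, so `y` fixes one of them
  have hy0 : y ∈ cnj 1 Y := by simpa [cnj, map_conj_one] using hy
  let W : Subgroup L :=
    { carrier := {w | w ∈ pCore p L ∧ ⁅g', w⁆ ∈ Y ⊓ Subgroup.center L}
      one_mem' := ⟨one_mem _, by simp [one_mem]⟩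
      mul_mem' := by
        rintro a b ⟨ha, ha'⟩ ⟨hb, hb'⟩
        refine ⟨mul_mem ha hb, ?_⟩
        rw [show ⁅g', a * b⁆ = ⁅g', a⁆ * (a * ⁅g', b⁆ * a⁻¹) by
          simp only [commutatorElement_def]; group, C_conj hb']
        exact mul_mem ha' hb'
      inv_mem' := by
        rintro a ⟨ha, ha'⟩
        refine ⟨inv_mem ha, ?_⟩
        rw [show ⁅g', a⁻¹⁆ = a⁻¹ * ⁅g', a⁆⁻¹ * a⁻¹⁻¹ by simp only [commutatorElement_def]; group,
          C_conj (inv_mem ha')]
        exact inv_mem ha' }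
  set N := Y ⊓ Subgroup.center L with hN
  have hNn : N.Normal := ⟨fun n hn l => by rw [C_conj hn]; exact hn⟩
  set π := QuotientGroup.mk' N with hπ
  have hWy : y ∈ normalizer (W : Set L) := by
    apply mem_normalizer_of_map_conj_le
    rintro _ ⟨w, hw, rfl⟩
    obtain ⟨hw1, hw2⟩ := hw
    show y * w * y⁻¹ ∈ pCore p L ∧ ⁅g', y * w * y⁻¹⁆ ∈ N
    refine ⟨(pCore_normal p L).conj_mem w hw1 y, ?_⟩
    have ho : y⁻¹ * g' * y * g'⁻¹ ∈ pCore p L := by
      rw [← hker, MonoidHom.mem_ker, map_mul, map_mul, map_mul, map_inv, map_inv,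
        mul_assoc ((f y)⁻¹), ← hcen (f y), ← mul_assoc, inv_mul_cancel, one_mul, mul_inv_cancel]
    have h2 : y⁻¹ * g' * y ∈ stab Y w := by
      have := mul_mem (h.core_le_stab hw1 ho) (mem_stab.2 hw2)
      rwa [inv_mul_cancel_right] at this
    have h3 := C_conj (mem_stab.1 h2) y
    rw [show y * ⁅y⁻¹ * g' * y, w⁆ * y⁻¹ = ⁅g', y * w * y⁻¹⁆ by
      simp only [commutatorElement_def]; group] at h3
    rw [h3]; exact mem_stab.1 h2
  have hR1 : W.map π ≠ ⊥ := by
    intro e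
    apply hxC
    have : π x ∈ W.map π := ⟨x, ⟨hx, hfix'⟩, rfl⟩
    rw [e, Subgroup.mem_bot, hπ, QuotientGroup.mk'_apply, QuotientGroup.eq_one_iff] at this
    exact this
  have hRp : IsPGroup p (W.map π) := ((isPGroup_pCore (G := L) p).to_le (H := W) fun w (hw : w ∈ W) => hw.1).map π
  have hne := inf_centralizer_ne_bot hRp hR1
    ((PGroup.isPGroup_of_elementaryAbelian h.elem).to_le (Subgroup.zpowers_le.2 hy) |>.map π)
    ((Subgroup.map_mono (Subgroup.zpowers_le.2 hWy)).trans (le_normalizer_map π))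
  obtain ⟨⟨w', hw'1, hw'2⟩, hw'ne⟩ := Subgroup.ne_bot_iff_exists_ne_one.1 hne
  obtain ⟨w, hw, rfl⟩ := hw'1
  have hwN : w ∉ N := fun hwN => hw'ne (Subtype.ext (by
    show π w = 1
    rw [hπ, QuotientGroup.mk'_apply, QuotientGroup.eq_one_iff]; exact hwN))
  have hyw : ⁅y, w⁆ ∈ N := by
    rw [← QuotientGroup.eq_one_iff, ← QuotientGroup.mk'_apply, ← hπ, map_commutatorElement,
      commutatorElement_eq_one_iff_mul_comm]
    exact Subgroup.mem_centralizer_iff.1 hw'2 (π y) ⟨y, Subgroup.mem_zpowers y, rfl⟩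
  refine hwN (hdec (g' * y) ?_ (by rwa [map_mul]) w hw.1
    (mem_stab.1 (mul_mem (mem_stab.2 hw.2) (mem_stab.2 hyw))))
  rintro ⟨k, hk⟩
  have hcomm : Commute (f g') (f y) := (hcen (f y)).symm
  have h1 : (f g' * f y) ^ p ^ k = 1 := by rw [← map_mul, ← map_pow, hk, map_one]
  rw [hcomm.mul_pow] at h1
  have h2 : f g' ^ p ^ (k + 1) = 1 := by
    have h3 : f y ^ p = 1 := by rw [← map_pow, h.elem.2 y hy, map_one]
    have h4 : (f g' ^ p ^ k * f y ^ p ^ k) ^ p = 1 := by rw [h1, one_pow]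
    rw [(hcomm.pow_pow _ _).mul_pow, ← pow_mul, ← pow_mul, mul_comm (p ^ k) p,
      pow_mul (f y) p, h3, one_pow, mul_one, mul_comm p] at h4
    rwa [pow_succ]
  obtain ⟨i, hi⟩ := hpimg g' _ h2
  exact hnp' ⟨i, hi⟩

end YSetup
end Cfsg.Agent.LocalStructure
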