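import Cfsg.Agent.Lib.LocalStructure.Basic
import Cfsg.Agent.Lib.GL.Basic

/-! Elements of prime order in the quotients occurring in `𝔏_G(Y_M)`: products of two elements
from conjugates of a given subgroup. -/

set_option autoImplicit false

open Subgroup
open scoped commutatorElement MatrixGroups

namespace Cfsg.Agent.LocalStructure

variable {Q : Type*} [Group Q]

/-- `x` is the product of two elements of conjugates of `Z`. -/
def DecQ (Z : Subgroup Q) (x : Q) : Prop :=
  ∃ a b u v : Q, u ∈ Z.map (MulAut.conj a).toMonoidHom ∧ v ∈ Z.map (MulAut.conj b).toMonoidHom ∧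
    x = u * v

theorem decQ_of_conj {Z : Subgroup Q} {x u v : Q}
    (hu : ∃ a : Q, u ∈ Z.map (MulAut.conj a).toMonoidHom)
    (hv : ∃ a : Q, v ∈ Z.map (MulAut.conj a).toMonoidHom) (e : x = u * v) : DecQ Z x := by
  obtain ⟨a, ha⟩ := hu
  obtain ⟨b, hb⟩ := hv
  exact ⟨a, b, u, v, ha, hb, e⟩

/-- The case `|Z| = 2` with `Q` generated by two conjugates of `Z`. -/
theorem decQ_of_card_two [Finite Q] {Z : Subgroup Q} (hZ : Nat.card Z = 2) {g : Q}
    (hgen : Z ⊔ Z.map (MulAut.conj g).toMonoidHom = ⊤) {x : Q} (hx : orderOf x ≠ 2) :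
    DecQ Z x := by
  haveI : Fact (Nat.Prime 2) := ⟨Nat.prime_two⟩
  have hne : Z ≠ ⊥ := fun e => by rw [e, Subgroup.card_bot] at hZ; omega
  obtain ⟨⟨t, ht⟩, ht1⟩ := Subgroup.ne_bot_iff_exists_ne_one.1 hne
  have ht1' : t ≠ 1 := fun e => ht1 (Subtype.ext e)
  have htt : t * t = 1 := by
    have h := pow_card_eq_one' (x := (⟨t, ht⟩ : Z))
    rw [hZ] at h
    simpa [Subtype.ext_iff, pow_two] using h
  have hZt : Z = Subgroup.zpowers t := (Subgroup.eq_of_le_of_card_ge (Subgroup.zpowers_le.2 ht)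
    (by rw [hZ, Nat.card_zpowers, orderOf_eq_prime (by rw [pow_two, htt]) ht1'])).symm
  set t' := g * t * g⁻¹ with ht'
  have hti : t⁻¹ = t := inv_eq_of_mul_eq_one_right htt
  have htt' : t' * t' = 1 := by
    rw [ht', show g * t * g⁻¹ * (g * t * g⁻¹) = g * (t * t) * g⁻¹ by group, htt]; group
  have hti' : t'⁻¹ = t' := inv_eq_of_mul_eq_one_right htt'
  set r := t * t' with hr
  have hrt : t * r * t⁻¹ = r⁻¹ := by
    rw [hr, _root_.mul_inv_rev, hti, hti', ← mul_assoc t t, htt, one_mul]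
  have hn : Subgroup.zpowers t ≤ normalizer (Subgroup.zpowers r : Set Q) := by
    rw [Subgroup.zpowers_le]
    apply mem_normalizer_of_map_conj_le
    rw [MonoidHom.map_zpowers, Subgroup.zpowers_le]
    show t * r * t⁻¹ ∈ _
    rw [hrt]
    exact inv_mem (Subgroup.mem_zpowers r)
  have htop : (⊤ : Subgroup Q) ≤ Subgroup.zpowers t ⊔ Subgroup.zpowers r := by
    rw [← hgen, hZt, MonoidHom.map_zpowers]
    refine sup_le le_sup_left (Subgroup.zpowers_le.2 ?_)
    show g * t * g⁻¹ ∈ _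
    rw [← ht', show t' = t * r by rw [hr, ← mul_assoc, htt, one_mul]]
    exact mul_mem (le_sup_left (b := Subgroup.zpowers r) (Subgroup.mem_zpowers t))
      (le_sup_right (a := Subgroup.zpowers t) (Subgroup.mem_zpowers r))
  obtain ⟨a, ha, n, hn', rfl⟩ := exists_mul_of_mem_sup hn (htop (Subgroup.mem_top x))
  obtain ⟨j, rfl⟩ := hn'
  have hinv : ∀ i : ℤ, t * r ^ i * t⁻¹ = (r ^ i)⁻¹ := fun i => by rw [← conj_zpow, hrt, _root_.inv_zpow]
  have ha' : a = 1 ∨ a = t := by
    obtain ⟨i, rfl⟩ := ha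
    rcases Int.even_or_odd' i with ⟨k, rfl | rfl⟩
    · left
      show t ^ (2 * k) = 1
      rw [_root_.zpow_mul, zpow_two, htt, _root_.one_zpow]
    · right
      show t ^ (2 * k + 1) = t
      rw [_root_.zpow_add, _root_.zpow_mul, zpow_two, htt, _root_.one_zpow, one_mul, _root_.zpow_one]
  have hconj : ∀ i : ℤ, ∃ c : Q, t * r ^ i ∈ Z.map (MulAut.conj c).toMonoidHom := by
    intro i
    have h1 : ∀ k : ℤ, t * r ^ k = (r ^ k)⁻¹ * t := fun k => by
      rw [← hinv k, inv_mul_cancel_right]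
    rcases Int.even_or_odd' i with ⟨k, rfl | rfl⟩
    · refine ⟨(r ^ k)⁻¹, mem_map_conj.2 ?_⟩
      have e : ((r ^ k)⁻¹)⁻¹ * (t * r ^ (2 * k)) * (r ^ k)⁻¹ = t := by
        rw [inv_inv, two_mul, _root_.zpow_add, ← mul_assoc t, h1]
        group
      rw [e]; exact ht
    · refine ⟨(r ^ k)⁻¹ * g, mem_map_conj.2 ?_⟩
      have e : ((r ^ k)⁻¹ * g)⁻¹ * (t * r ^ (2 * k + 1)) * ((r ^ k)⁻¹ * g) = t := by
        rw [show 2 * k + 1 = k + 1 + k by ring, _root_.zpow_add, _root_.zpow_add, _root_.zpow_one,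
          ← mul_assoc t, ← mul_assoc t, h1,
          show ((r ^ k)⁻¹ * g)⁻¹ * ((r ^ k)⁻¹ * t * r * r ^ k) * ((r ^ k)⁻¹ * g) = g⁻¹ * (t * r) * g by
            group,
          show t * r = t' by rw [hr, ← mul_assoc, htt, one_mul], ht']
        group
      rw [e]; exact ht
  rcases ha' with e | e <;> rw [e] at hx ⊢
  · refine decQ_of_conj (u := t) (v := t * r ^ j) ⟨1, mem_map_conj.2 (by simpa using ht)⟩ (hconj j) ?_
    show (1 : Q) * r ^ j = t * (t * r ^ j)
    rw [← mul_assoc t t, htt]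
  · have h2 : t * r ^ j * (t * r ^ j) = 1 := by
      rw [show t * r ^ j * (t * r ^ j) = t * r ^ j * t⁻¹ * (t * t) * r ^ j by group, hinv, htt]
      group
    have h1 : t * r ^ j = 1 := by
      by_contra h1
      exact hx (orderOf_eq_prime (by rw [pow_two]; exact h2) h1)
    refine decQ_of_conj (u := 1) (v := 1) ⟨1, one_mem _⟩ ⟨1, one_mem _⟩ ?_
    show t * r ^ j = 1 * 1
    rw [h1, one_mul]

/-- The case where all involutions are conjugate and the element is inverted by an involution. -/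
theorem decQ_of_inverting {Z : Subgroup Q} {t : Q} (ht : t ∈ Z) {x w : Q} (hw : w * w = 1)
    (hw1 : w ≠ 1) (hxw : w * x * w⁻¹ = x⁻¹) (hx : x * x ≠ 1)
    (hconj : ∀ y : Q, y * y = 1 → y ≠ 1 → ∃ g : Q, g * t * g⁻¹ = y) : DecQ Z x := by
  have hwi : w⁻¹ = w := inv_eq_of_mul_eq_one_right hw
  have key : ∀ y : Q, y * y = 1 → y ≠ 1 → ∃ c : Q, y ∈ Z.map (MulAut.conj c).toMonoidHom :=
    fun y hy hy1 => (hconj y hy hy1).elim fun c hc => ⟨c, hc ▸ conj_mem_map_conj ht⟩
  have h2 : x * w * (x * w) = 1 := by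
    have : w * x * w = x⁻¹ := by rw [hwi] at hxw; exact hxw
    rw [mul_assoc, ← mul_assoc w x w, this, mul_inv_cancel]
  refine decQ_of_conj (u := x * w) (v := w) (key _ h2 fun e => ?_) (key w hw hw1) ?_
  · exact hx (by rw [eq_inv_of_mul_eq_one_left e, hwi, hw])
  · rw [mul_assoc, hw, mul_one]

section SL2

variable {F : Type*} [Field F] [Fintype F] {p : ℕ} [Fact p.Prime] [CharP F p]

omit [Fintype F] in
theorem pow_eq_one_of_trace (M : SL(2, F)) (h : M.1 0 0 + M.1 1 1 = 2) : M ^ p = 1 := by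
  have hd : M.1 0 0 * M.1 1 1 - M.1 0 1 * M.1 1 0 = 1 := by rw [← Matrix.det_fin_two]; exact M.2
  set N : Matrix (Fin 2) (Fin 2) F := M.1 - 1 with hN
  have hNN : N * N = 0 := by
    ext i j
    fin_cases i <;> fin_cases j <;> simp [hN, Matrix.mul_apply, Fin.sum_univ_two, Matrix.one_apply]
    · linear_combination (M.1 0 0) * h - hd - h + (1 : F) * h
    · linear_combination (M.1 0 1) * h
    · linear_combination (M.1 1 0) * h
    · linear_combination (M.1 1 1) * h - hd - h + (1 : F) * h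
  have hk : ∀ k : ℕ, M.1 ^ k = 1 + (k : F) • N := by
    intro k
    induction k with
    | zero => simp
    | succ k ih =>
      rw [pow_succ, ih, show M.1 = 1 + N by rw [hN]; abel, add_mul, mul_add, mul_add, one_mul,
        Matrix.smul_mul, Matrix.smul_mul, hNN, mul_one, smul_zero, add_zero, Nat.cast_succ, add_smul,
        one_smul, one_mul]
      abel
  apply Subtype.ext
  rw [Matrix.SpecialLinearGroup.coe_pow, hk, CharP.cast_eq_zero, zero_smul, add_zero]
  rfl

omit [Fintype F] in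
/-- A noncentral element of `SL(2, F)` is the product of two elements of order dividing `p`. -/
theorem sl2_exists_mul (M : SL(2, F)) :
    (∃ u v : SL(2, F), u ^ p = 1 ∧ v ^ p = 1 ∧ M = u * v) ∨ ∀ z : SL(2, F), z * M = M * z := by
  have mk : ∀ (n₁ n₂ n₃ : F), n₁ * n₁ + n₂ * n₃ = 0 →
      n₁ * M.1 0 0 + n₂ * M.1 1 0 + (n₃ * M.1 0 1 - n₁ * M.1 1 1) = M.1 0 0 + M.1 1 1 - 2 →
      ∃ u v : SL(2, F), u ^ p = 1 ∧ v ^ p = 1 ∧ M = u * v := by
    intro n₁ n₂ n₃ h0 ht
    let w : SL(2, F) := ⟨!![1 - n₁, -n₂; -n₃, 1 + n₁], by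
      rw [Matrix.det_fin_two_of]; linear_combination -h0⟩
    have hw : w ^ p = 1 := pow_eq_one_of_trace w (by simp [w]; ring)
    refine ⟨w⁻¹, w * M, by rw [inv_pow, hw, inv_one], pow_eq_one_of_trace _ ?_, (inv_mul_cancel_left w M).symm⟩
    have hwv : (w * M).1 = !![1 - n₁, -n₂; -n₃, 1 + n₁] * M.1 := rfl
    rw [hwv]
    simp [Matrix.mul_apply, Fin.sum_univ_two]
    linear_combination -ht
  by_cases hc : M.1 1 0 = 0
  · by_cases hb : M.1 0 1 = 0
    · by_cases had : M.1 0 0 = M.1 1 1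
      · refine Or.inr fun z => ?_
        apply Subtype.ext
        ext i j
        fin_cases i <;> fin_cases j <;>
          simp [Matrix.mul_apply, Fin.sum_univ_two, hb, hc, had, mul_comm]
      · have hne : M.1 0 0 - M.1 1 1 ≠ 0 := sub_ne_zero.2 had
        set s := (M.1 0 0 + M.1 1 1 - 2) / (M.1 0 0 - M.1 1 1) with hs
        refine Or.inl (mk s s (-s) (by ring) ?_)
        rw [hc, hb]
        have := div_mul_cancel₀ (M.1 0 0 + M.1 1 1 - 2) hne
        rw [← hs] at this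
        linear_combination this
    · refine Or.inl (mk 0 0 ((M.1 0 0 + M.1 1 1 - 2) / M.1 0 1) (by ring) ?_)
      rw [div_mul_cancel₀ _ hb]; ring
  · refine Or.inl (mk 0 ((M.1 0 0 + M.1 1 1 - 2) / M.1 1 0) 0 (by ring) ?_)
    rw [div_mul_cancel₀ _ hc]; ring

/-- In `SL(2, q)` every element of prime order `≠ p` is a product of two elements of conjugates of
a subgroup `Z` of order `q`, or is central and becomes one after multiplying by an element of `Z`. -/
theorem decQ_sl2 {Z : Subgroup SL(2, F)} (hZp : IsPGroup p Z) (hZc : Nat.card Z = Fintype.card F)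
    {x : SL(2, F)} (hx : (orderOf x).Prime) (hxp : orderOf x ≠ p) :
    DecQ Z x ∨ ((∀ z, z * x = x * z) ∧ ∃ y ∈ Z, y ≠ 1 ∧ DecQ Z (x * y)) := by
  have hidx : ¬ p ∣ Z.index := by
    have e := Subgroup.card_mul_index Z
    rw [hZc, GL.card_SL2] at e
    rw [Nat.eq_of_mul_eq_mul_left Fintype.card_pos e]
    intro hdvd
    obtain ⟨k, hk⟩ := hZp.exists_card_eq
    rw [hZc] at hk
    have h1 : p ∣ Fintype.card F ^ 2 := by
      rcases k with _ | k
      · have := Fintype.one_lt_card (α := F); rw [hk] at this; simp at this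
      · exact dvd_pow (hk ▸ dvd_pow_self p k.succ_ne_zero) two_ne_zero
    have h2 := Nat.dvd_sub h1 hdvd
    have h3 : 1 ≤ Fintype.card F ^ 2 := Nat.one_le_pow _ _ Fintype.card_pos
    rw [Nat.sub_sub_self h3] at h2
    exact (Fact.out : p.Prime).not_dvd_one h2
  have hsyl : IsSylowIn p Z ⊤ :=
    ⟨le_top, hZp, fun R h1 _ h3 => (hZp.toSylow hidx).3 h3 h1⟩
  have key : ∀ u : SL(2, F), u ^ p = 1 → ∃ a, u ∈ Z.map (MulAut.conj a).toMonoidHom := by
    intro u hu
    obtain ⟨l, -, hl⟩ := hsyl.exists_conj_le (P := Subgroup.zpowers u) (by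
      obtain ⟨i, -, hi⟩ := (Nat.dvd_prime_pow (Fact.out : p.Prime) (m := 1)).1
        ((pow_one p).symm ▸ orderOf_dvd_of_pow_eq_one hu)
      exact IsPGroup.of_card (n := i) (by rw [Nat.card_zpowers, hi])) le_top
    refine ⟨l⁻¹, mem_map_conj.2 ?_⟩
    rw [inv_inv]
    exact hl (conj_mem_map_conj (Subgroup.mem_zpowers u))
  have hdec : ∀ M : SL(2, F), DecQ Z M ∨ ∀ z, z * M = M * z := fun M =>
    (sl2_exists_mul (p := p) M).imp (fun ⟨u, v, hu, hv, e⟩ => decQ_of_conj (key u hu) (key v hv) e) id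
  rcases hdec x with h | hcen
  · exact Or.inl h
  refine Or.inr ⟨hcen, ?_⟩
  have hZ1 : Z ≠ ⊥ := fun e => by
    have := Fintype.one_lt_card (α := F)
    rw [← hZc, e, Subgroup.card_bot] at this
    omega
  obtain ⟨⟨y, hy⟩, hy1⟩ := Subgroup.ne_bot_iff_exists_ne_one.1 hZ1
  refine ⟨y, hy, fun e => hy1 (Subtype.ext e), (hdec (x * y)).resolve_right fun hc => ?_⟩
  -- otherwise `y` is central, so `y = ±1`
  have hyc : ∀ z : SL(2, F), z * y = y * z := fun z => by
    apply mul_left_cancel (a := x)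
    rw [← mul_assoc, ← hcen z, mul_assoc, hc z, mul_assoc]
  -- a central element is a scalar with square one
  have hU : !![(1 : F), 1; 0, 1].det = 1 := by simp [Matrix.det_fin_two_of]
  have hL : !![(1 : F), 0; 1, 1].det = 1 := by simp [Matrix.det_fin_two_of]
  have e1 : !![(1 : F), 1; 0, 1] * y.1 = y.1 * !![(1 : F), 1; 0, 1] :=
    congrArg Subtype.val (hyc ⟨_, hU⟩)
  have e2 : !![(1 : F), 0; 1, 1] * y.1 = y.1 * !![(1 : F), 0; 1, 1] :=
    congrArg Subtype.val (hyc ⟨_, hL⟩)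
  have hd : y.1 0 0 * y.1 1 1 - y.1 0 1 * y.1 1 0 = 1 := by rw [← Matrix.det_fin_two]; exact y.2
  have a1 := congrFun (congrFun e1 0) 0
  have a2 := congrFun (congrFun e1 0) 1
  have a3 := congrFun (congrFun e2 0) 0
  simp [Matrix.mul_apply, Fin.sum_univ_two] at a1 a2 a3
  have hp' : ∃ k : ℕ, y ^ p ^ k = 1 :=
    (hZp ⟨y, hy⟩).elim fun k hk => ⟨k, by simpa [Subtype.ext_iff] using hk⟩
  obtain ⟨k, hk⟩ := hp'
  have h01 : y.1 0 1 = 0 := by linear_combination a3
  have h11 : y.1 1 1 = y.1 0 0 := by linear_combination a2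
  have hsq : y.1 0 0 * y.1 0 0 = 1 := by
    rw [h11, h01, zero_mul, sub_zero] at hd; exact hd
  have hy0 : y.1 0 0 = 1 := by
    have h2 : ∀ n : ℕ, (y ^ n).1 0 0 = y.1 0 0 ^ n := by
      intro n
      induction n with
      | zero => simp
      | succ n ih =>
        rw [pow_succ, Matrix.SpecialLinearGroup.coe_mul, Matrix.mul_apply, Fin.sum_univ_two, ih, a1,
          pow_succ]
        simp
    have h3 := h2 (p ^ k)
    rw [hk] at h3
    haveI : ExpChar F p := ExpChar.prime Fact.out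
    have h4 : y.1 0 0 ^ p ^ k = 1 ^ p ^ k := by rw [one_pow]; exact h3.symm.trans (by simp)
    exact iterateFrobenius_inj F p k (by simpa [iterateFrobenius_def] using h4)
  apply hy1
  apply Subtype.ext
  apply Subtype.ext
  ext i j
  fin_cases i <;> fin_cases j <;> simp [hy0, h11, h01, a1]

end SL2

end Cfsg.Agent.LocalStructure
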