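import Cfsg.Agent.Lib.LocalStructure.FrakL
import Cfsg.Agent.Lib.LocalStructure.FrakLQuot
import Cfsg.Agent.Lib.LocalStructure.PReduced

/-! From `L ∈ 𝔏_G(Y_M)` to the internal hypotheses on `(L, Y_M)`. -/

set_option autoImplicit false

open Subgroup

namespace Cfsg.Agent.LocalStructure

theorem frakL_setup {G : Type*} [Group G] [Finite G] {p : ℕ} [Fact p.Prime] {M L : Subgroup G}
    (hL : IsInFrakL p M L) : YSetup p ((largestPReducedOf p M).subgroupOf L) := by
  obtain ⟨hYL, hcl, hnorm, hmin, hchar, ⟨hlt, hmax⟩, -⟩ := hL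
  set Y := largestPReducedOf p M with hY
  have hYel := (isPRedIn_largest p M).2.2.1
  have hN : normalizer ((Y.subgroupOf L : Subgroup ↥L) : Set ↥L) =
      (normalizer (Y : Set G)).subgroupOf L := (subgroupOf_normalizer_eq hYL).symm
  refine ⟨hchar, (PGroup.isElementaryAbelian_map_iff L.subtype_injective).1 ?_, hmin, ?_, ?_, ?_⟩
  · rwa [subgroupOf_map_subtype, inf_eq_left.2 hYL]
  · rw [hN]
    refine ⟨fun e => hlt.ne ?_, fun X hX => ?_⟩
    · exact inf_eq_left.2 (subgroupOf_eq_top.1 e)
    · by_contra hne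
      have h1 : Y ≤ X.map L.subtype := fun y hy =>
        Subgroup.mem_map.2 ⟨⟨y, hYL hy⟩, hX.le (Subgroup.le_normalizer hy), rfl⟩
      have h2 : X.map L.subtype < L := lt_of_le_of_ne (Subgroup.map_subtype_le X) fun e => hne (by
        rw [eq_top_iff]
        intro x _
        obtain ⟨z, hz, e'⟩ := Subgroup.mem_map.1 (e.ge x.2)
        rwa [Subtype.ext e'] at hz)
      exact hX.not_ge fun x hx => (hmax _ h1 h2 (Subgroup.mem_map_of_mem L.subtype hx)).2
  · rw [hN, ← subgroupOf_pCoreOf p L]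
    exact fun x hx => hnorm hx
  · apply Subgroup.map_injective L.subtype_injective
    rw [← subgroupOf_pCoreOf p L, subgroupOf_map_subtype,
      inf_eq_left.2 (LocalStructure.pCoreOf_le p L)]
    exact hcl

end Cfsg.Agent.LocalStructure
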