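import Cfsg.Agent.Lib.LocalStructure.FrakLQuot
import Cfsg.Agent.Lib.PGroup.ElementaryAbelian
import Cfsg.Agent.Lib.Sz.Real

/-! The normalisers of `Ȳ` in the quotients occurring in `𝔏_G(Y_M)` act irreducibly on `Ȳ`. -/

set_option autoImplicit false

open Subgroup
open scoped commutatorElement MatrixGroups

namespace Cfsg.Agent.LocalStructure

/-- With `|Z| = 2` and `Q = ⟨Z, Z^g⟩`, the normaliser of `Z` is `Z`. -/
theorem normalizer_le_of_card_two {Q : Type*} [Group Q] [Finite Q] {Z : Subgroup Q}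
    (hZ : Nat.card Z = 2) {g : Q} (hgen : Z ⊔ Z.map (MulAut.conj g).toMonoidHom = ⊤) :
    normalizer (Z : Set Q) ≤ Z := by
  haveI : Fact (Nat.Prime 2) := ⟨Nat.prime_two⟩
  have hne : Z ≠ ⊥ := fun e => by rw [e, Subgroup.card_bot] at hZ; omega
  obtain ⟨⟨t, ht⟩, ht1⟩ := Subgroup.ne_bot_iff_exists_ne_one.1 hne
  have ht1' : t ≠ 1 := fun e => ht1 (Subtype.ext e)
  have htt : t * t = 1 := by
    have h := pow_card_eq_one' (x := (⟨t, ht⟩ : Z))
    rw [hZ] at h
    simpa [Subtype.ext_iff, pow_two] using h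
  have hot : orderOf t = 2 := orderOf_eq_prime (by rw [pow_two, htt]) ht1'
  have hZt : Z = Subgroup.zpowers t := (Subgroup.eq_of_le_of_card_ge (Subgroup.zpowers_le.2 ht)
    (by rw [hZ, Nat.card_zpowers, hot])).symm
  have hti : t⁻¹ = t := inv_eq_of_mul_eq_one_right htt
  set t' := g * t * g⁻¹ with ht'
  set r := t * t' with hr
  have htt' : t' * t' = 1 := by
    rw [ht', show g * t * g⁻¹ * (g * t * g⁻¹) = g * (t * t) * g⁻¹ by group, htt]; group
  have hrt : t * r * t⁻¹ = r⁻¹ := by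
    rw [hr, _root_.mul_inv_rev, hti, inv_eq_of_mul_eq_one_right htt', ← mul_assoc t t, htt, one_mul]
  have hinv : ∀ i : ℤ, t * r ^ i * t⁻¹ = (r ^ i)⁻¹ := fun i => by
    rw [← conj_zpow, hrt, _root_.inv_zpow]
  have hn : Subgroup.zpowers t ≤ normalizer (Subgroup.zpowers r : Set Q) := by
    rw [Subgroup.zpowers_le]
    apply mem_normalizer_of_map_conj_le
    rw [MonoidHom.map_zpowers, Subgroup.zpowers_le]
    show t * r * t⁻¹ ∈ _
    rw [hrt]
    exact inv_mem (Subgroup.mem_zpowers r)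
  have hdec : ∀ x : Q, ∃ a : Q, (a = 1 ∨ a = t) ∧ ∃ j : ℤ, x = a * r ^ j := by
    intro x
    have htop : (⊤ : Subgroup Q) ≤ Subgroup.zpowers t ⊔ Subgroup.zpowers r := by
      rw [← hgen, hZt, MonoidHom.map_zpowers]
      refine sup_le le_sup_left (Subgroup.zpowers_le.2 ?_)
      show g * t * g⁻¹ ∈ _
      rw [← ht', show t' = t * r by rw [hr, ← mul_assoc, htt, one_mul]]
      exact mul_mem (le_sup_left (b := Subgroup.zpowers r) (Subgroup.mem_zpowers t))
        (le_sup_right (a := Subgroup.zpowers t) (Subgroup.mem_zpowers r))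
    obtain ⟨a, ha, n, ⟨j, rfl⟩, rfl⟩ := exists_mul_of_mem_sup hn (htop (Subgroup.mem_top x))
    refine ⟨a, ?_, j, rfl⟩
    obtain ⟨i, rfl⟩ := ha
    rcases Int.even_or_odd' i with ⟨k, rfl | rfl⟩
    · exact Or.inl (show t ^ (2 * k) = 1 by rw [_root_.zpow_mul, zpow_two, htt, _root_.one_zpow])
    · exact Or.inr (show t ^ (2 * k + 1) = t by
        rw [_root_.zpow_add, _root_.zpow_mul, zpow_two, htt, _root_.one_zpow, one_mul, _root_.zpow_one])
  -- `r` has odd order
  have hcomm : ∀ i : ℤ, r ^ i * t * (r ^ i)⁻¹ = t * r ^ (-2 * i) := fun i => by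
    have h := hinv (-i)
    rw [_root_.zpow_neg, inv_inv] at h
    rw [show -2 * i = -i + -i by ring, _root_.zpow_add, _root_.zpow_neg]
    calc r ^ i * t * (r ^ i)⁻¹ = t * (r ^ i)⁻¹ * t⁻¹ * t * (r ^ i)⁻¹ := by rw [h]
      _ = t * ((r ^ i)⁻¹ * (r ^ i)⁻¹) := by group
  have hodd : ∃ n : ℤ, r ^ (2 * n + 1) = 1 := by
    obtain ⟨a, ha, i, hgi⟩ := hdec g
    have e : t * r = t' := by rw [hr, ← mul_assoc, htt, one_mul]
    have e2 : a * (t * r ^ (-2 * i)) * a⁻¹ = t * r := by
      rw [e, ht', hgi, ← hcomm i]; group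
    rcases ha with e' | e' <;> rw [e'] at e2
    · refine ⟨i, ?_⟩
      rw [one_mul, inv_one, mul_one] at e2
      have e3 := mul_left_cancel e2
      rw [show 2 * i + 1 = 1 + -(-2 * i) by ring, _root_.zpow_add, _root_.zpow_one, _root_.zpow_neg, e3,
        mul_inv_cancel]
    · refine ⟨i - 1, ?_⟩
      rw [← mul_assoc, htt, one_mul, hti] at e2
      have e4 : r ^ (-2 * i) * t = t * r ^ (2 * i) := by
        conv_lhs => rw [← mul_one (r ^ (-2 * i) * t), ← inv_mul_cancel (r ^ (-2 * i)),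
          show r ^ (-2 * i) * t * ((r ^ (-2 * i))⁻¹ * r ^ (-2 * i)) =
            r ^ (-2 * i) * t * (r ^ (-2 * i))⁻¹ * r ^ (-2 * i) by group, hcomm]
        group
      rw [e4] at e2
      have e3 := mul_left_cancel e2
      rw [show 2 * (i - 1) + 1 = 2 * i + -1 by ring, _root_.zpow_add, e3, _root_.zpow_neg,
        _root_.zpow_one, mul_inv_cancel]
  intro n hn'
  obtain ⟨a, ha, j, rfl⟩ := hdec n
  have haZ : a ∈ Z := by rcases ha with rfl | rfl; exacts [one_mem _, ht]
  have hj : r ^ j * t * (r ^ j)⁻¹ = t := by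
    have h1 : r ^ j ∈ normalizer (Z : Set Q) := by
      simpa using mul_mem (inv_mem (Subgroup.le_normalizer haZ)) hn'
    have h2 := (mem_normalizer_iff.1 h1 t).1 ht
    rw [hZt] at h2
    obtain ⟨i, hi⟩ := h2
    rcases Int.even_or_odd' i with ⟨k, rfl | rfl⟩
    · exfalso
      have e : r ^ j * t * (r ^ j)⁻¹ = 1 := hi.symm.trans
        (show t ^ (2 * k) = 1 by rw [_root_.zpow_mul, zpow_two, htt, _root_.one_zpow])
      exact ht1' (conj_eq_one_iff.1 e)
    · exact hi.symm.trans (show t ^ (2 * k + 1) = t by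
        rw [_root_.zpow_add, _root_.zpow_mul, zpow_two, htt, _root_.one_zpow, one_mul, _root_.zpow_one])
  rw [hcomm] at hj
  have h2j : r ^ (2 * j) = 1 := by
    have h3 : r ^ (-2 * j) = 1 := mul_eq_left.1 hj
    rw [show 2 * j = -(-2 * j) by ring, _root_.zpow_neg, h3, inv_one]
  obtain ⟨k, hk⟩ := hodd
  have hj1 : r ^ j = 1 := by
    rw [show j = (2 * k + 1) * j + -(k * (2 * j)) by ring, _root_.zpow_add, _root_.zpow_mul, hk,
      _root_.one_zpow, one_mul, _root_.zpow_neg, mul_comm k, _root_.zpow_mul, h2j, _root_.one_zpow,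
      inv_one]
  rw [hj1, mul_one]
  exact haZ

section SL2

variable {F : Type*} [Field F] [Fintype F] {p : ℕ} [Fact p.Prime] [CharP F p]

/-- The upper transvections. -/
def upperHom (F : Type*) [Field F] : Multiplicative F →* SL(2, F) where
  toFun x := ⟨!![1, x.toAdd; 0, 1], by simp [Matrix.det_fin_two_of]⟩
  map_one' := by
    apply Subtype.ext
    simp [Matrix.one_fin_two]
  map_mul' x y := by
    apply Subtype.ext
    show _ = !![1, x.toAdd; 0, 1] * !![(1 : F), y.toAdd; 0, 1]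
    simp [add_comm]

theorem sl2_unique {Z V : Subgroup SL(2, F)} (hZp : IsPGroup p Z)
    (hZc : Nat.card Z = Fintype.card F) (hV : IsPGroup p V) (hV1 : V ≠ ⊥)
    (hVN : V ≤ normalizer (Z : Set SL(2, F)))
    (hNV : normalizer (Z : Set SL(2, F)) ≤ normalizer (V : Set SL(2, F))) : V = Z := by
  have hinj : Function.Injective (upperHom F) := fun x y e => by
    have h : !![(1 : F), x.toAdd; 0, 1] 0 1 = !![(1 : F), y.toAdd; 0, 1] 0 1 :=
      congrArg (fun M : SL(2, F) => M.1 0 1) e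
    exact Multiplicative.toAdd.injective (by simpa using h)
  set U := (upperHom F).range with hU
  have hUc : Nat.card U = Fintype.card F := by
    rw [← Nat.card_congr (MonoidHom.ofInjective hinj).toEquiv, Nat.card_congr Multiplicative.toAdd,
      Nat.card_eq_fintype_card]
  have hUp : IsPGroup p U := by
    obtain ⟨k, hk⟩ := hZp.exists_card_eq
    exact IsPGroup.of_card (n := k) (by rw [hUc, ← hZc, hk])
  have hsyl : ∀ W : Subgroup SL(2, F), IsPGroup p W → Nat.card W = Fintype.card F →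
      IsSylowIn p W ⊤ := fun W hW hWc => by
    refine ⟨le_top, hW, fun R h1 _ h3 => (Subgroup.eq_of_le_of_card_ge h1 ?_).symm⟩
    obtain ⟨T, hT⟩ := h3.exists_le_sylow
    refine (Subgroup.card_le_of_le hT).trans (le_of_eq ?_)
    rw [T.card_eq_multiplicity, hWc, GL.card_SL2]
    obtain ⟨k, hk⟩ := hZp.exists_card_eq
    rw [hZc] at hk
    rw [hk, Nat.factorization_mul (pow_ne_zero _ (Fact.out : p.Prime).ne_zero) (by
        have h2 : 2 ≤ p ^ k := hk ▸ Fintype.one_lt_card
        have : 2 ^ 2 ≤ (p ^ k) ^ 2 := Nat.pow_le_pow_left h2 2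
        omega), Finsupp.add_apply, Nat.Prime.factorization_pow Fact.out, Finsupp.single_eq_same,
      Nat.factorization_eq_zero_of_not_dvd ?_, add_zero]
    intro hdvd
    have hk0 : k ≠ 0 := by
      rintro rfl
      have := Fintype.one_lt_card (α := F)
      rw [hk] at this; simp at this
    have h1 : p ∣ (p ^ k) ^ 2 := dvd_pow (dvd_pow_self p hk0) two_ne_zero
    have h2 := Nat.dvd_sub h1 hdvd
    rw [Nat.sub_sub_self (Nat.one_le_pow _ _ (pow_pos (Fact.out : p.Prime).pos k))] at h2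
    exact (Fact.out : p.Prime).not_dvd_one h2
  obtain ⟨a, -, ha⟩ := (hsyl Z hZp hZc).exists_conj_eq (hsyl U hUp hUc)
  set c := (MulAut.conj a).toMonoidHom with hc
  have hNU : normalizer (U : Set SL(2, F)) ≤ (normalizer (Z : Set SL(2, F))).map c := by
    intro x hx
    rw [mem_map_conj]
    refine mem_normalizer_iff.2 fun z => ?_
    have h1 := mem_normalizer_iff.1 hx (a * z * a⁻¹)
    have h2 : ∀ w, w ∈ Z ↔ a * w * a⁻¹ ∈ U := fun w => by
      rw [← ha, mem_map_conj]
      simp [mul_assoc]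
    rw [h2, h2, h1]
    simp [mul_assoc]
  set W := V.map c with hW
  have hWU : W ≤ U := by
    refine ((hsyl U hUp hUc).mono Subgroup.le_normalizer le_top).eq_of_le_normalizer
      (hV.map c) ((Subgroup.map_mono hVN).trans ?_) le_rfl
    rw [← ha]
    exact le_normalizer_map _
  have hNW : normalizer (U : Set SL(2, F)) ≤ normalizer (W : Set SL(2, F)) :=
    hNU.trans ((Subgroup.map_mono hNV).trans (le_normalizer_map _))
  suffices h : U ≤ W by
    have e : W = U := le_antisymm hWU h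
    exact Subgroup.map_injective (f := c) (MulAut.conj a).injective (e.trans ha.symm)
  have hW1 : W ≠ ⊥ := fun e => hV1 ((Subgroup.map_eq_bot_iff_of_injective _
    (MulAut.conj a).injective).1 e)
  obtain ⟨⟨w, hw⟩, hw1⟩ := Subgroup.ne_bot_iff_exists_ne_one.1 hW1
  obtain ⟨x₀, rfl⟩ := hWU hw
  set x := x₀.toAdd with hx
  have hx0 : x ≠ 0 := fun e => hw1 (Subtype.ext (by
    show upperHom F x₀ = 1
    rw [show x₀ = 1 from Multiplicative.toAdd.injective e, map_one]))
  have hsq : ∀ t : F, upperHom F (Multiplicative.ofAdd (t * t * x)) ∈ W := by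
    intro t
    by_cases ht : t = 0
    · subst ht
      rw [zero_mul, zero_mul, ofAdd_zero, map_one]; exact one_mem _
    let d : SL(2, F) := ⟨!![t, 0; 0, t⁻¹], by simp [Matrix.det_fin_two_of, ht]⟩
    have key : ∀ y : F, d * upperHom F (Multiplicative.ofAdd y) * d⁻¹ =
        upperHom F (Multiplicative.ofAdd (t * t * y)) := by
      intro y
      rw [mul_inv_eq_iff_eq_mul]
      apply Subtype.ext
      show !![t, 0; 0, t⁻¹] * !![1, y; 0, 1] = !![1, t * t * y; 0, 1] * !![t, 0; 0, t⁻¹]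
      simp [mul_comm, mul_left_comm, ht]
      field_simp
    have hd : d ∈ normalizer (U : Set SL(2, F)) := by
      refine mem_normalizer_of_map_conj_le ?_
      rintro _ ⟨_, ⟨y, rfl⟩, rfl⟩
      exact ⟨_, (key y.toAdd).symm⟩
    rw [← key x]
    exact (mem_normalizer_iff.1 (hNW hd) _).1 hw
  rintro _ ⟨y, rfl⟩
  obtain ⟨b, c', hbc⟩ : ∃ b c' : F, y.toAdd / x = b * b - c' * c' := by
    by_cases h2 : (2 : F) = 0
    · haveI : Fact (Nat.Prime 2) := ⟨Nat.prime_two⟩
      obtain ⟨r, hr⟩ := FiniteField.isSquare_of_char_two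
        (CharP.ringChar_of_prime_eq_zero Nat.prime_two (by exact_mod_cast h2)) (y.toAdd / x)
      exact ⟨r, 0, by rw [hr]; ring⟩
    · exact ⟨(y.toAdd / x + 1) / 2, (y.toAdd / x - 1) / 2, by field_simp; ring⟩
  have e : y = Multiplicative.ofAdd (b * b * x) / Multiplicative.ofAdd (c' * c' * x) := by
    apply Multiplicative.toAdd.injective
    show y.toAdd = b * b * x - c' * c' * x
    rw [← sub_mul, ← hbc, div_mul_cancel₀ _ hx0]
  rw [e, map_div]
  exact div_mem (hsq b) (hsq c')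

end SL2

end Cfsg.Agent.LocalStructure

namespace Cfsg.Agent.SZ

open Cfsg Matrix Cfsg.Agent.LocalStructure

variable {F : Type*} [Field F] [Fintype F] {m : ℕ}

theorem smul_inf_of_fix (hF : Fintype.card F = 2 ^ (2 * m + 1)) {g : Sz F m} {b : F} (hb : b ≠ 0)
    (h : T m 0 b • (g.1 • suzukiPointInfinity F) = g.1 • suzukiPointInfinity F) :
    g ∈ MulAction.stabilizer (Sz F m) (suzukiPointInfinity F) := by
  by_contra hne
  rcases mem_ovoid_iff.1 (smul_mem g.2 (inf_mem (F := F) (m := m))) with h' | ⟨x, y, h'⟩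
  · exact hne h'
  rw [h', T_smul_aff hF] at h
  have := (aff_inj h).2
  simp [hb] at this

theorem invol_stab (hm : 1 ≤ m) (hF : Fintype.card F = 2 ^ (2 * m + 1)) {g : Sz F m}
    (hg : g ∈ MulAction.stabilizer (Sz F m) (suzukiPointInfinity F)) (h2 : g * g = 1) :
    ∃ b : F, g = tS hF 0 b := by
  obtain ⟨a, b, u, rfl⟩ := stab_eq hm hF hg
  have h0 := h2
  have e1 : tS hF a b * hS hF u * (tS hF a b * hS hF u) =
      tS hF a b * (hS hF u * tS hF a b * (hS hF u)⁻¹) * (hS hF u * hS hF u) := by group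
  rw [e1, hS_conj_tS] at h2
  have e2 := congrArg Subtype.val h2
  change T m a b * T m _ _ * (H m u * H m u) = 1 at e2
  rw [T_mul hF, ← H_mul, ← T_zero (m := m), ← mul_one (T m 0 0), ← H_one] at e2
  obtain ⟨ea, -, eu⟩ := TH_inj hF e2
  have hu : u = 1 := Units.ext (sq_inj hF (by rw [Units.val_one, one_pow, pow_two, ← Units.val_mul, eu, Units.val_one]))
  subst hu
  refine ⟨b, ?_⟩
  have h1 : hS (m := m) hF (1 : Fˣ) = 1 := Subtype.ext H_one
  rw [h1, mul_one]
  have e3 : tS hF a b * tS hF a b = 1 := by rwa [h1, mul_one] at h0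
  rw [tS_sq hF] at e3
  rcases mul_eq_zero.1 (T_inj ((congrArg Subtype.val e3).trans T_zero.symm)).2 with h | h
  · rw [th_eq_zero.1 h]
  · rw [h]

/-- In `Sz(q)` the normaliser of an elementary abelian subgroup of order `q` acts irreducibly on
it and has no other normal elementary abelian `2`-subgroup. -/
theorem sz_unique (hm : 1 ≤ m) (hF : Fintype.card F = 2 ^ (2 * m + 1)) {Z V : Subgroup (Sz F m)}
    (hZ : ∀ z ∈ Z, z * z = 1) (hZc : Nat.card Z = Fintype.card F) (hV : ∀ v ∈ V, v * v = 1)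
    (hV1 : V ≠ ⊥) (hVN : V ≤ Subgroup.normalizer (Z : Set (Sz F m)))
    (hNV : Subgroup.normalizer (Z : Set (Sz F m)) ≤ Subgroup.normalizer (V : Set (Sz F m))) :
    V = Z := by
  have hZ1 : Z ≠ ⊥ := fun e => by
    have := Fintype.one_lt_card (α := F)
    rw [← hZc, e, Subgroup.card_bot] at this
    omega
  obtain ⟨⟨t, ht⟩, ht1⟩ := Subgroup.ne_bot_iff_exists_ne_one.1 hZ1
  obtain ⟨g, hg⟩ := exists_conj_involution hm hF (hZ t ht) fun e => ht1 (Subtype.ext e)
  set c := (MulAut.conj g⁻¹).toMonoidHom with hc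
  set Z' := Z.map c with hZ'
  set V' := V.map c with hV'
  have hz₀ : tS hF 0 1 ∈ Z' := by
    refine mem_map_conj.2 ?_
    rw [inv_inv, hg]; exact ht
  let f : Multiplicative F →* Sz F m := (uGrp hF).subtype.comp (zHom hF)
  have hf : ∀ b : F, f (Multiplicative.ofAdd b) = tS hF 0 b := fun b => rfl
  have hfinj : Function.Injective f := fun b b' h =>
    Multiplicative.toAdd.injective (T_inj (congrArg Subtype.val h)).2
  set C₀ := f.range with hC₀
  have hsq : ∀ W : Subgroup (Sz F m), (∀ v ∈ W, v * v = 1) → ∀ v ∈ W.map c, v * v = 1 := by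
    rintro W hW _ ⟨v, hv, rfl⟩
    rw [← map_mul, hW v hv, map_one]
  have hZC : Z' ≤ C₀ := by
    intro z hz
    have hcomm : tS hF 0 1 * z = z * tS hF 0 1 := by
      have h1 := hsq Z hZ _ hz₀
      have h2 := hsq Z hZ _ hz
      have h3 := hsq Z hZ _ (mul_mem hz₀ hz)
      rw [eq_inv_of_mul_eq_one_left h3, _root_.mul_inv_rev, ← eq_inv_of_mul_eq_one_left h1,
        ← eq_inv_of_mul_eq_one_left h2]
    have hst : z ∈ MulAction.stabilizer (Sz F m) (suzukiPointInfinity F) := by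
      refine smul_inf_of_fix hF one_ne_zero ?_
      have e := congrArg Subtype.val hcomm
      change T m (0 : F) 1 * z.1 = z.1 * T m 0 1 at e
      rw [← mul_smul, e, mul_smul, T_smul_inf]
    obtain ⟨b, rfl⟩ := invol_stab hm hF hst (hsq Z hZ _ hz)
    exact ⟨_, hf b⟩
  have hZC' : Z' = C₀ := Subgroup.eq_of_le_of_card_ge hZC (le_of_eq (by
    rw [hC₀, ← Nat.card_congr (MonoidHom.ofInjective hfinj).toEquiv,
      Nat.card_congr Multiplicative.toAdd, Nat.card_eq_fintype_card, hZ', card_map_conj, hZc]))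
  have hN : Subgroup.normalizer (C₀ : Set (Sz F m)) =
      (Subgroup.normalizer (Z : Set (Sz F m))).map c := by
    rw [← hZC', hZ']
    exact (Subgroup.map_equiv_normalizer_eq Z (MulAut.conj g⁻¹)).symm
  have hVC : V' ≤ C₀ := by
    intro v hv
    have hvN : v ∈ Subgroup.normalizer (C₀ : Set (Sz F m)) := hN ▸ Subgroup.map_mono hVN hv
    have hst : v ∈ MulAction.stabilizer (Sz F m) (suzukiPointInfinity F) := by
      obtain ⟨b, hb⟩ := (Subgroup.mem_normalizer_iff.1 hvN (tS hF 0 1)).1 ⟨_, hf 1⟩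
      have hb' : tS hF 0 b.toAdd = v * tS hF 0 1 * v⁻¹ := hb
      refine smul_inf_of_fix hF (b := b.toAdd) (fun e => ?_) ?_
      · rw [e, show tS (m := m) hF (0 : F) 0 = 1 from Subtype.ext T_zero] at hb'
        have h1 := T_inj (m := m) ((congrArg Subtype.val (conj_eq_one_iff.1 hb'.symm)).trans T_zero.symm)
        exact one_ne_zero h1.2
      · have e := congrArg Subtype.val hb'
        change T m (0 : F) b.toAdd = v.1 * T m 0 1 * v.1⁻¹ at e
        rw [e, mul_smul, mul_smul, inv_smul_smul, T_smul_inf]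
    obtain ⟨b, rfl⟩ := invol_stab hm hF hst (hsq V hV _ hv)
    exact ⟨_, hf b⟩
  have hNV' : Subgroup.normalizer (C₀ : Set (Sz F m)) ≤ Subgroup.normalizer (V' : Set (Sz F m)) :=
    hN ▸ (Subgroup.map_mono hNV).trans (Subgroup.le_normalizer_map _)
  suffices h : C₀ ≤ V' by
    exact Subgroup.map_injective (f := c) (MulAut.conj g⁻¹).injective
      ((le_antisymm hVC h).trans hZC'.symm)
  have hV'1 : V' ≠ ⊥ := fun e => hV1 ((Subgroup.map_eq_bot_iff_of_injective _
    (MulAut.conj g⁻¹).injective).1 e)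
  obtain ⟨⟨v, hv⟩, hv1⟩ := Subgroup.ne_bot_iff_exists_ne_one.1 hV'1
  obtain ⟨b, rfl⟩ := hVC hv
  have hb0 : b.toAdd ≠ 0 := fun e => hv1 (Subtype.ext (by
    show f b = 1
    rw [show b = 1 from Multiplicative.toAdd.injective e, map_one]))
  rintro _ ⟨d, rfl⟩
  by_cases hd : d.toAdd = 0
  · rw [show d = 1 from Multiplicative.toAdd.injective hd, map_one]; exact one_mem _
  obtain ⟨x, hx⟩ := Finite.injective_iff_surjective.1 (fun _ _ e => th_inj (m := m) hF e)
    (d.toAdd / b.toAdd)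
  set u : Fˣ := Units.mk0 x fun e => div_ne_zero hd hb0 (by rw [← hx, e]; exact th_zero) with hu
  have hkey : ∀ w : Fˣ, ∀ y : F, hS hF w * tS hF 0 y * (hS hF w)⁻¹ = tS hF 0 (th m (w : F) * y) :=
    fun w y => by rw [hS_conj_tS, mul_zero]
  have huN : hS hF u ∈ Subgroup.normalizer (C₀ : Set (Sz F m)) := by
    refine mem_normalizer_of_map_conj_le ?_
    rintro _ ⟨_, ⟨y, rfl⟩, rfl⟩
    exact ⟨_, (hkey u y.toAdd).symm⟩
  have h1 := (Subgroup.mem_normalizer_iff.1 (hNV' huN) _).1 hv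
  have e : hS hF u * f b * (hS hF u)⁻¹ = f d := by
    refine (hkey u b.toAdd).trans ?_
    show tS hF 0 (th m x * b.toAdd) = tS hF 0 d.toAdd
    rw [hx, div_mul_cancel₀ _ hb0]
  rwa [e] at h1

end Cfsg.Agent.SZ
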