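import Cfsg.Agent.Lib.LocalStructure.PClosed

/-! Products of subgroups permuted by conjugation: central `p`-elements and commutator tricks. -/

set_option autoImplicit false

open Subgroup
open scoped commutatorElement

namespace Cfsg.Agent.LocalStructure

variable {G : Type*} [Group G] {p : ℕ}

theorem eq_one_of_pElement_central [Finite G] (hO : pCore p G = ⊥) {E R : Subgroup G} (hER : E ≤ R)
    (hRE : R ≤ normalizer (E : Set G)) (hR : R.Normal) {z : G} (hz : z ∈ E)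
    (hzc : z ∈ centralizer (E : Set G)) {k : ℕ} (hk : z ^ p ^ k = 1) : z = 1 := by
  have hEs : E.IsSubnormal :=
    .step E R hER hR.isSubnormal ((normal_subgroupOf_iff_le_normalizer hER).2 hRE)
  have hle : zpowers z ≤ E := zpowers_le.2 hz
  have hEc : E ≤ normalizer (zpowers z : Set G) := fun e he => by
    refine centralizer_le_normalizer _ ?_
    intro w hw
    obtain ⟨n, rfl⟩ := mem_zpowers_iff.1 hw
    exact ((Commute.zpow_right (hzc e he : Commute e z) n).eq).symm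
  have hs : (zpowers z).IsSubnormal :=
    .step _ E hle hEs ((normal_subgroupOf_iff_le_normalizer hle).2 hEc)
  have hp : IsPGroup p (zpowers z) := by
    rintro ⟨w, hw⟩
    obtain ⟨n, rfl⟩ := mem_zpowers_iff.1 hw
    refine ⟨k, Subtype.ext ?_⟩
    show (z ^ n) ^ (p ^ k) = 1
    rw [← zpow_natCast, ← zpow_mul, mul_comm, zpow_mul, zpow_natCast, hk, one_zpow]
  have h := le_pCore_of_isSubnormal hs hp (mem_zpowers z)
  rwa [hO, Subgroup.mem_bot] at h

/-- If the commutators of `y` with `K` lie in an abelian group centralizing `K`, the map `k ↦ [y, k]`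
kills `K'`. -/
theorem commutator_pow_eq_one {K Z : Subgroup G} (hZK : Z ≤ centralizer (K : Set G))
    (hZ : Z ≤ centralizer (Z : Set G)) {y : G} (hy : ∀ k ∈ K, ⁅y, k⁆ ∈ Z) {k : G} (hk : k ∈ K)
    {n : ℕ} (hn : k ^ n ∈ ⁅K, K⁆) : ⁅y, k⁆ ^ n = 1 := by
  have hmul : ∀ a ∈ K, ∀ b ∈ K, ⁅y, a * b⁆ = ⁅y, a⁆ * ⁅y, b⁆ := by
    intro a ha b hb
    have hc : a * ⁅y, b⁆ = ⁅y, b⁆ * a := hZK (hy b hb) a ha
    calc ⁅y, a * b⁆ = ⁅y, a⁆ * (a * ⁅y, b⁆ * a⁻¹) := by simp only [commutatorElement_def]; group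
      _ = _ := by rw [hc, mul_inv_cancel_right]
  let f : ↥K →* ↥Z := MonoidHom.mk' (fun a => ⟨⁅y, (a : G)⁆, hy a a.2⟩)
    fun a b => Subtype.ext (hmul a a.2 b b.2)
  have hker : ⁅K, K⁆ ≤ (f.ker).map K.subtype := by
    rw [Subgroup.commutator_le]
    intro a ha b hb
    refine ⟨⁅(⟨a, ha⟩ : ↥K), (⟨b, hb⟩ : ↥K)⁆, ?_, rfl⟩
    rw [SetLike.mem_coe, MonoidHom.mem_ker, map_commutatorElement,
      commutatorElement_eq_one_iff_mul_comm]
    exact Subtype.ext (hZ (f ⟨b, hb⟩).2 _ (f ⟨a, ha⟩).2)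
  obtain ⟨c, hc, hce⟩ := Subgroup.mem_map.1 (hker hn)
  have hc' : c = ⟨k, hk⟩ ^ n := Subtype.ext hce
  rw [MonoidHom.mem_ker, hc', map_pow] at hc
  exact congrArg Subtype.val hc

end Cfsg.Agent.LocalStructure
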