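import Cfsg.Agent.Lib.LocalStructure.WeaklyClosed

/-! Characteristic `p` for overgroups of weakly closed and large subgroups. -/

set_option autoImplicit false

open Subgroup
open scoped commutatorElement

namespace Cfsg.Agent.LocalStructure

variable {G : Type*} [Group G] {p : ℕ}

theorem exists_eq_mul_of_mem_normalizer {F : Subgroup G} {q f : G}
    (hq : q ∈ normalizer (F : Set G)) (hf : f ∈ F) : q * f * q⁻¹ ∈ F :=
  (mem_normalizer_iff.1 hq f).1 hf

/-- If `Q` moves `V` only inside `F`, then `⁅Q, D⁆` does the same, so `O^p` of it centralises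
`V` when `⁅Q, D⁆` centralises the `p`-group `F`. -/
theorem resOf_commutator_le_centralizer {Q D V F : Subgroup G}
    (hVD : D ≤ normalizer (V : Set G)) (hFQ : Q ≤ normalizer (F : Set G))
    (hFD : D ≤ normalizer (F : Set G)) (hVQ : Q ≤ normalizer (V : Set G))
    (h : ⁅V, Q⁆ ≤ F) (hF : IsPGroup p F)
    (hc : ⁅Q, D⁆ ≤ Subgroup.centralizer (F : Set G)) :
    resOf p ⁅Q, D⁆ ≤ Subgroup.centralizer (V : Set G) := by
  have hq : ∀ q ∈ Q, ∀ u ∈ V, u⁻¹ * (q * u * q⁻¹) ∈ F := fun q hq u hu => by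
    have := h (commutator_mem_commutator (V.inv_mem hu) hq)
    simpa [commutatorElement_def, mul_assoc] using this
  have hk : ∀ k ∈ ⁅Q, D⁆, ∀ u ∈ V, k * u * k⁻¹ ∈ V ∧ u⁻¹ * (k * u * k⁻¹) ∈ F := by
    intro k hk
    suffices hS : k ∈ Subgroup.centralizer (F : Set G) ∧
        ∀ u ∈ V, k * u * k⁻¹ ∈ V ∧ u⁻¹ * (k * u * k⁻¹) ∈ F from hS.2
    rw [Subgroup.commutator_def] at hk
    induction hk using Subgroup.closure_induction with
    | one => exact ⟨one_mem _, fun u hu => by simpa using hu⟩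
    | mem x hx =>
      obtain ⟨q, hqQ, d, hd, rfl⟩ := hx
      refine ⟨hc (commutator_mem_commutator hqQ hd), fun u hu => ?_⟩
      have hu' : d⁻¹ * u * d ∈ V := (mem_normalizer_iff''.1 (hVD hd) u).1 hu
      have hu'' : q⁻¹ * (d⁻¹ * u * d) * q ∈ V :=
        (mem_normalizer_iff''.1 (hVQ hqQ) _).1 hu'
      have h1 := hq q⁻¹ (Q.inv_mem hqQ) _ hu'
      rw [inv_inv] at h1
      set f := (d⁻¹ * u * d)⁻¹ * (q⁻¹ * (d⁻¹ * u * d) * q) with hfdef
      have hu3 : d * (q⁻¹ * (d⁻¹ * u * d) * q) * d⁻¹ ∈ V :=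
        (mem_normalizer_iff.1 (hVD hd) _).1 hu''
      have hu4 : q * (d * (q⁻¹ * (d⁻¹ * u * d) * q) * d⁻¹) * q⁻¹ ∈ V :=
        (mem_normalizer_iff.1 (hVQ hqQ) _).1 hu3
      have e : ⁅q, d⁆ * u * ⁅q, d⁆⁻¹ = q * (d * (q⁻¹ * (d⁻¹ * u * d) * q) * d⁻¹) * q⁻¹ := by
        rw [commutatorElement_def]; group
      refine ⟨e ▸ hu4, ?_⟩
      have e2 : u⁻¹ * (⁅q, d⁆ * u * ⁅q, d⁆⁻¹) =
          (u⁻¹ * (q * u * q⁻¹)) * (q * (d * f * d⁻¹) * q⁻¹) := by
        rw [e, hfdef]; group
      rw [e2]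
      exact F.mul_mem (hq q hqQ u hu)
        (exists_eq_mul_of_mem_normalizer (hFQ hqQ) (exists_eq_mul_of_mem_normalizer (hFD hd) h1))
    | mul a b _ _ ha hb =>
      refine ⟨mul_mem ha.1 hb.1, fun u hu => ?_⟩
      obtain ⟨hb1, hb2⟩ := hb.2 u hu
      obtain ⟨ha1, ha2⟩ := ha.2 _ hb1
      have e : a * b * u * (a * b)⁻¹ = a * (b * u * b⁻¹) * a⁻¹ := by group
      rw [e]
      refine ⟨ha1, ?_⟩
      have e2 : u⁻¹ * (a * (b * u * b⁻¹) * a⁻¹) =
          (u⁻¹ * (b * u * b⁻¹)) * ((b * u * b⁻¹)⁻¹ * (a * (b * u * b⁻¹) * a⁻¹)) := by group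
      rw [e2]
      exact F.mul_mem hb2 ha2
    | inv a hmem ha =>
      refine ⟨inv_mem ha.1, fun u hu => ?_⟩
      have haV : a ∈ normalizer (V : Set G) := by
        rw [← Subgroup.commutator_def] at hmem
        have hle : ⁅Q, D⁆ ≤ normalizer (V : Set G) :=
          Subgroup.commutator_le.2 fun q hq' d hd => by
            rw [commutatorElement_def]
            exact mul_mem (mul_mem (mul_mem (hVQ hq') (hVD hd)) (inv_mem (hVQ hq')))
              (inv_mem (hVD hd))
        exact hle hmem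
      have hu' : a⁻¹ * u * a⁻¹⁻¹ ∈ V := (mem_normalizer_iff.1 (inv_mem haV) u).1 hu
      refine ⟨hu', ?_⟩
      have h2 := F.inv_mem (ha.2 _ hu').2
      have e : ((a⁻¹ * u * a⁻¹⁻¹)⁻¹ * (a * (a⁻¹ * u * a⁻¹⁻¹) * a⁻¹))⁻¹ =
          u⁻¹ * (a⁻¹ * u * a⁻¹⁻¹) := by group
      rwa [e] at h2
  rw [resOf_le_iff]
  intro x hx hcx
  refine Subgroup.mem_centralizer_iff.2 fun u hu => ?_
  have h2 := F.inv_mem (hk x hx u hu).2
  have h3 : Commute x u⁻¹ := commute_of_stabilize hF hcx
    (fun w hw => (Subgroup.mem_centralizer_iff.1 (hc hx) w hw).symm)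
    (by simpa [commutatorElement_def, mul_assoc] using h2)
  exact (by simpa using h3.inv_right : Commute x u).eq.symm

variable [Finite G] [Fact p.Prime] {Q : Subgroup G}

/-- `S2842`, first half: `L` has characteristic `p`. -/
theorem charP_of_wc (hwc : IsWeaklyClosedSubgroup p Q)
    (hCQ : Subgroup.centralizer (Q : Set G) ≤ Q) {L X : Subgroup G}
    (hQL : Q ≤ L) (hQX : Q ≤ X)
    (hX : X ⊓ Subgroup.centralizer (pCoreOf p X : Set G) ≤ pCoreOf p X)
    (hLX : L ⊓ Subgroup.centralizer (pCoreOf p L : Set G) ≤ X) :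
    L ⊓ Subgroup.centralizer (pCoreOf p L : Set G) ≤ pCoreOf p L := by
  set D := L ⊓ Subgroup.centralizer (pCoreOf p L : Set G) with hD
  set U := pCoreOf p X with hU
  have hDn : L ≤ normalizer (D : Set G) :=
    le_normalizer_inf L.le_normalizer (le_normalizer_centralizer (le_normalizer_pCoreOf p L))
  have hQD := hQL.trans hDn
  set Z := pCoreOf p D with hZ
  have hZP : Z ≤ pCoreOf p L := le_pCoreOf ((pCoreOf_le p D).trans inf_le_left)
    (hDn.trans (normalizer_le_normalizer_pCoreOf D)) (isPGroup_pCoreOf p D)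
  have hDZ : D ≤ Subgroup.centralizer (Z : Set G) :=
    inf_le_right.trans (Subgroup.centralizer_le hZP)
  have hQU : Q ≤ normalizer (U : Set G) := hQX.trans (le_normalizer_pCoreOf p X)
  have hUQ : U ≤ normalizer (Q : Set G) := wc_le_normalizer' hwc (isPGroup_pCoreOf p X) hQU
  have hDU : D ≤ normalizer (U : Set G) := hLX.trans (le_normalizer_pCoreOf p X)
  set W := U ⊓ Q with hW
  have hUD : U ⊓ D ≤ Z := le_pCoreOf inf_le_right (le_normalizer_inf hDU D.le_normalizer)
    ((isPGroup_pCoreOf p X).to_le inf_le_left)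
  have hWD : ⁅W, D⁆ ≤ Z := le_trans (le_inf
    ((commutator_mono inf_le_left le_rfl).trans (le_normalizer_iff_commutator_le_left.1 hDU))
    ((commutator_mono inf_le_right le_rfl).trans (le_normalizer_iff_commutator_le_right.1 hQD))) hUD
  set D0 := resOf p D with hD0
  have hD0W : D0 ≤ Subgroup.centralizer (W : Set G) :=
    resOf_le_centralizer_of_stabilize (isPGroup_pCoreOf p D) hDZ hWD
  have hQD0 : Q ≤ normalizer (D0 : Set G) := hQD.trans (normalizer_le_normalizer_resOf p D)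
  have hKD0 : ⁅Q, D0⁆ ≤ D0 := le_normalizer_iff_commutator_le_right.1 hQD0
  set F := U ⊓ Subgroup.centralizer (D0 : Set G) with hF
  have hD0U : D0 ≤ normalizer (U : Set G) := (resOf_le p D).trans hDU
  have hUQ' : ⁅U, Q⁆ ≤ F := by
    refine le_trans (le_inf (le_normalizer_iff_commutator_le_left.1 hQU)
      (le_normalizer_iff_commutator_le_right.1 hUQ)) (le_inf inf_le_left ?_)
    exact Subgroup.le_centralizer_iff.1 hD0W
  have hKF : ⁅Q, D0⁆ ≤ Subgroup.centralizer (F : Set G) :=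
    hKD0.trans (Subgroup.le_centralizer_iff.1 inf_le_right)
  have h1 : resOf p ⁅Q, D0⁆ ≤ Subgroup.centralizer (U : Set G) :=
    resOf_commutator_le_centralizer hD0U
      (le_normalizer_inf hQU (le_normalizer_centralizer hQD0))
      (le_normalizer_inf hD0U (le_normalizer_centralizer D0.le_normalizer)) hQU hUQ'
      ((isPGroup_pCoreOf p X).to_le inf_le_left) hKF
  have hKp : IsPGroup p (⁅Q, D0⁆ : Subgroup G) := by
    rw [isPGroup_iff_resOf_eq_bot, ← resOf_resOf, ← isPGroup_iff_resOf_eq_bot]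
    exact (isPGroup_pCoreOf p X).to_le ((le_inf
      ((resOf_le p _).trans (hKD0.trans ((resOf_le p D).trans hLX))) h1).trans hX)
  have hK1 : ⁅Q, D0⁆ ≤ Z :=
    (le_pCoreOf hKD0 (normalizer_commutator_ge_right Q D0) hKp).trans
    (le_pCoreOf ((pCoreOf_le p D0).trans (resOf_le p D))
      ((le_normalizer_resOf p D).trans (normalizer_le_normalizer_pCoreOf D0))
      (isPGroup_pCoreOf p D0))
  have h2 : D0 ≤ Subgroup.centralizer (Q : Set G) := by
    refine (resOf_resOf p D).ge.trans (resOf_le_centralizer_of_stabilize (isPGroup_pCoreOf p D)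
      ((resOf_le p D).trans hDZ) hK1)
  have hDp : IsPGroup p D := by
    rw [isPGroup_iff_resOf_eq_bot, ← resOf_resOf, ← isPGroup_iff_resOf_eq_bot]
    exact (wc_isPGroup hwc).to_le (h2.trans hCQ)
  exact le_pCoreOf inf_le_left hDn hDp

/-- `S2842`, second half: `C_G(O_p(L))` is a `p`-group normalising `Q`. -/
theorem centralizer_of_wc (hwc : IsWeaklyClosedSubgroup p Q)
    (hCQ : Subgroup.centralizer (Q : Set G) ≤ Q) {L X : Subgroup G}
    (hQL : Q ≤ L) (hQX : Q ≤ X)
    (hX : X ⊓ Subgroup.centralizer (pCoreOf p X : Set G) ≤ pCoreOf p X)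
    (hLX : Subgroup.centralizer (pCoreOf p L : Set G) ≤ X) :
    ⁅Q, Subgroup.centralizer (pCoreOf p L : Set G)⁆ ≤ Q ⊓ pCoreOf p L ∧
      IsPGroup p (Subgroup.centralizer (pCoreOf p L : Set G)) := by
  set P := pCoreOf p L with hP
  set C := Subgroup.centralizer (P : Set G) with hC
  have hPL := charP_of_wc hwc hCQ hQL hQX hX (inf_le_right.trans hLX)
  have hQP : Q ≤ normalizer (P : Set G) := hQL.trans (le_normalizer_pCoreOf p L)
  have hQC : Q ≤ normalizer (C : Set G) := le_normalizer_centralizer hQP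
  have hQCP : Q ⊓ C ≤ P := (inf_le_inf_right _ hQL).trans hPL
  set L' := P ⊔ Q ⊔ C with hL'
  have hL'P : L' ≤ normalizer (P : Set G) :=
    sup_le (sup_le P.le_normalizer hQP) (centralizer_le_normalizer P)
  set O := pCoreOf p L' with hO
  have hPO : P ≤ O := le_pCoreOf (le_sup_left.trans le_sup_left) hL'P (isPGroup_pCoreOf p L)
  have hQL' : Q ≤ L' := le_sup_right.trans le_sup_left
  have hCL' : C ≤ L' := le_sup_right
  have hO' : L' ⊓ Subgroup.centralizer (O : Set G) ≤ O :=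
    charP_of_wc hwc hCQ hQL' hQX hX
      ((inf_le_right.trans (Subgroup.centralizer_le hPO)).trans hLX)
  have hQO : Q ≤ normalizer (O : Set G) := hQL'.trans (le_normalizer_pCoreOf p L')
  have hOQ : O ≤ normalizer (Q : Set G) := wc_le_normalizer' hwc (isPGroup_pCoreOf p L') hQO
  have hCO : C ≤ normalizer (O : Set G) := hCL'.trans (le_normalizer_pCoreOf p L')
  set O1 := O ⊓ C with hO1
  have hOC : ⁅O, C⁆ ≤ O1 := le_inf (le_normalizer_iff_commutator_le_left.1 hCO)
    (le_normalizer_iff_commutator_le_right.1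
      ((pCoreOf_le p L').trans (le_normalizer_centralizer hL'P)))
  set ZP := P ⊓ C with hZP
  have hO1Q : ⁅O1, Q⁆ ≤ ZP := by
    refine le_trans (le_inf
      ((commutator_mono inf_le_left le_rfl).trans (le_normalizer_iff_commutator_le_right.1 hOQ))
      ((commutator_mono inf_le_right le_rfl).trans (le_normalizer_iff_commutator_le_left.1 hQC))) ?_
    exact le_inf hQCP inf_le_right
  have hQCC : ⁅Q, C⁆ ≤ C := le_normalizer_iff_commutator_le_right.1 hQC
  have h1 : resOf p ⁅Q, C⁆ ≤ Subgroup.centralizer (O1 : Set G) :=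
    resOf_commutator_le_centralizer (le_normalizer_inf hCO C.le_normalizer)
      (le_normalizer_inf hQP hQC) (le_normalizer_inf (centralizer_le_normalizer P) C.le_normalizer)
      (le_normalizer_inf hQO hQC) hO1Q ((isPGroup_pCoreOf p L).to_le inf_le_left)
      (hQCC.trans (Subgroup.centralizer_le inf_le_left))
  have h2 : resOf p ⁅Q, C⁆ ≤ Subgroup.centralizer (O : Set G) :=
    (resOf_resOf p _).ge.trans (resOf_le_centralizer_of_stabilize
      ((isPGroup_pCoreOf p L').to_le inf_le_left) h1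
      ((commutator_mono le_rfl ((resOf_le p _).trans hQCC)).trans hOC))
  have hKp : IsPGroup p (⁅Q, C⁆ : Subgroup G) := by
    rw [isPGroup_iff_resOf_eq_bot, ← resOf_resOf, ← isPGroup_iff_resOf_eq_bot]
    exact (isPGroup_pCoreOf p L').to_le
      ((le_inf ((resOf_le p _).trans (hQCC.trans hCL')) h2).trans hO')
  have hCN : C ≤ normalizer (Q : Set G) := by
    intro c hc
    refine wc_mem_normalizer hwc
      (isPGroup_sup (wc_isPGroup hwc) hKp (normalizer_commutator_ge_left Q C)) le_sup_left ?_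
    rintro _ ⟨q, hq, rfl⟩
    have e : c * q * c⁻¹ = ⁅q, c⁆⁻¹ * q := by rw [commutatorElement_def]; group
    show c * q * c⁻¹ ∈ _
    rw [e]
    exact mul_mem (inv_mem (le_sup_right (a := Q) (commutator_mem_commutator hq hc)))
      (le_sup_left (b := ⁅Q, C⁆) hq)
  have hKQ : ⁅Q, C⁆ ≤ Q := le_normalizer_iff_commutator_le_left.1 hCN
  have hK : ⁅Q, C⁆ ≤ Q ⊓ P := le_inf hKQ ((le_inf hKQ hQCC).trans hQCP)
  refine ⟨hK, isPGroup_of_forall_coprime fun x hx hxc => ?_⟩
  have hxQ : x ∈ Subgroup.centralizer (Q : Set G) := by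
    refine Subgroup.mem_centralizer_iff.2 fun q hq => ?_
    refine (commute_of_stabilize (isPGroup_pCoreOf p L) hxc
      (fun w hw => (Subgroup.mem_centralizer_iff.1 hx w hw).symm) ?_).eq.symm
    rw [← commutatorElement_inv]
    exact inv_mem (hK (commutator_mem_commutator hq hx)).2
  exact eq_one_of_isPGroup (wc_isPGroup hwc) (hCQ hxQ) hxc

omit [Fact p.Prime] in
theorem pCore_ne_bot_of_le_normalizer {R : Subgroup G} (hR : IsPGroup p R) (hR1 : R ≠ ⊥) :
    pCore p ↥(normalizer (R : Set G)) ≠ ⊥ := fun e =>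
  hR1 (eq_bot_mono (le_pCoreOf R.le_normalizer le_rfl hR) ((pCoreOf_eq_bot_iff _).2 e))

/-- Subgroups containing a large `p`-subgroup and having nontrivial `p`-core have
characteristic `p`, and the centraliser of that core is a `p`-group. -/
theorem charP_of_large (hQ : IsPGroup p Q) (hQ1 : Q ≠ ⊥) (h : IsLarge Q) {L : Subgroup G}
    (hQL : Q ≤ L) (hP : pCoreOf p L ≠ ⊥) :
    (L ⊓ Subgroup.centralizer (pCoreOf p L : Set G) ≤ pCoreOf p L) ∧
      IsPGroup p (Subgroup.centralizer (pCoreOf p L : Set G)) := by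
  have hwc := wc_of_isLarge hQ hQ1 h
  have hn := hQL.trans (le_normalizer_pCoreOf p L)
  set X := Subgroup.centralizer
    ((pCoreOf p L ⊓ Subgroup.centralizer (Q : Set G) : Subgroup G) : Set G) with hX
  have hQX : Q ≤ X := Subgroup.le_centralizer_iff.1 inf_le_right
  have hXN : X ≤ normalizer (Q : Set G) := (centralizer_le_normalizer _).trans
    (h.2 _ inf_le_right (inf_centralizer_ne_bot (isPGroup_pCoreOf p L) hP hQ hn))
  have hXp : X ⊓ Subgroup.centralizer (pCoreOf p X : Set G) ≤ pCoreOf p X :=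
    inf_le_right.trans ((Subgroup.centralizer_le (le_pCoreOf hQX hXN hQ)).trans
      (h.1.trans (le_pCoreOf hQX hXN hQ)))
  have hCX : Subgroup.centralizer (pCoreOf p L : Set G) ≤ X :=
    Subgroup.centralizer_le inf_le_left
  exact ⟨charP_of_wc hwc h.1 hQL hQX hXp (inf_le_right.trans hCX),
    (centralizer_of_wc hwc h.1 hQL hQX hXp hCX).2⟩

/-- A parabolic subgroup with nontrivial `p`-core lies in `charPSubgroups` when there is a large
`p`-subgroup. -/
theorem centralizer_le_of_parabolic_large (hQ : IsPGroup p Q) (hQ1 : Q ≠ ⊥) (h : IsLarge Q)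
    {R : Subgroup G} (hpar : IsParabolic p R) (hR : pCoreOf p R ≠ ⊥) :
    Subgroup.centralizer (pCoreOf p R : Set G) ≤ pCoreOf p R := by
  obtain ⟨T, hT⟩ := hpar
  obtain ⟨g, -, hg⟩ := (isSylowIn_of_sylow T le_top).exists_conj_le hQ le_top
  obtain ⟨h1, h2⟩ := charP_of_large (isPGroup_map_conj hQ g)
    (by rwa [Ne, Subgroup.map_eq_bot_iff_of_injective _ (MulAut.conj g).injective])
    (isLarge_map_conj h g) (hg.trans hT) hR
  refine le_trans (le_inf ?_ le_rfl) h1
  have e : (T : Subgroup G) ⊔ Subgroup.centralizer (pCoreOf p R : Set G) = T :=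
    T.3 (isPGroup_sup T.2 h2
      (le_normalizer_centralizer (hT.trans (le_normalizer_pCoreOf p R)))) le_sup_left
  exact (le_sup_right.trans e.le).trans hT

end Cfsg.Agent.LocalStructure
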