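import Cfsg.Agent.Lib.LocalStructure.Large
import Cfsg.Agent.Lib.Components.Quasisimple

/-!
A normal subgroup generated by `p`-elements of a group with `O_p = 1` and quasisimple `O^p`, and the
corresponding statement for a group acting on an elementary abelian group through such a quotient.
-/

set_option autoImplicit false

namespace Cfsg.Agent.LocalStructure

open Subgroup
open scoped commutatorElement

variable {G : Type*} [Group G]

theorem commutator_right_mem_normalizer (A B : Subgroup G) :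
    A ≤ normalizer ((⁅A, B⁆ : Subgroup G) : Set G) := by
  rw [Subgroup.commutator_def, le_normalizer_closure_iff]
  rintro x hx _ ⟨a, ha, b, hb, rfl⟩
  rw [show x * ⁅a, b⁆ * x⁻¹ = ⁅x * a, b⁆ * ⁅x, b⁆⁻¹ by
    simp only [commutatorElement_def]; group]
  exact mul_mem (subset_closure ⟨x * a, mul_mem hx ha, b, hb, rfl⟩)
    (inv_mem (subset_closure ⟨x, hx, b, hb, rfl⟩))

/-- Perfect central extensions of quasisimple groups are quasisimple. -/
theorem isQuasisimple_of_central_ker {H K : Type*} [Group H] [Group K] [Group.IsPerfect H]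
    (f : H →* K) (hf : Function.Surjective f) (hker : f.ker ≤ center H)
    (h : Cfsg.IsQuasisimple K) : Cfsg.IsQuasisimple H := by
  have := Components.IsQuasisimple.nontrivial h
  have : Nontrivial H := hf.nontrivial
  refine Components.isQuasisimple_of_normal_central fun M hM => ?_
  rcases Components.IsQuasisimple.normal_eq_top_or_le_center h (M.map f) (hM := hM.map f hf) with
    ht | hc
  · left
    have hsup : M ⊔ center H = ⊤ := by
      refine top_le_iff.mp fun x _ => ?_
      obtain ⟨m, hm, he⟩ := mem_map.mp (ht.symm ▸ mem_top (f x) : f x ∈ M.map f)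
      rw [show x = m * (m⁻¹ * x) by group]
      exact mul_mem (le_sup_left (a := M) hm)
        (le_sup_right (a := M) (hker (by rw [MonoidHom.mem_ker, map_mul, map_inv, he, inv_mul_cancel])))
    have := Normal.commutator_le_of_self_sup_commutative_eq_top (N := M) hsup inferInstance
    rwa [Group.IsPerfect.commutator_eq_top, top_le_iff] at this
  · right
    rw [← commutator_top_left_eq_bot_iff_le_center]
    have h1 : ⁅⁅M, (⊤ : Subgroup H)⁆, (⊤ : Subgroup H)⁆ = ⊥ := by
      rw [commutator_eq_bot_iff_le_centralizer, coe_top, centralizer_univ]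
      refine le_trans (commutator_le.mpr fun m hm x _ => ?_) hker
      rw [MonoidHom.mem_ker, map_commutatorElement, commutatorElement_eq_one_iff_mul_comm]
      exact (mem_center_iff.mp (hc (mem_map_of_mem f hm)) (f x)).symm
    have h2 := commutator_commutator_eq_bot_of_rotate (H₁ := (⊤ : Subgroup H)) (H₂ := ⊤) (H₃ := M)
      (by rwa [commutator_comm ⊤ M]) h1
    rwa [show ⁅(⊤ : Subgroup H), (⊤ : Subgroup H)⁆ = ⊤ from Group.IsPerfect.commutator_eq_top] at h2

section

variable {p : ℕ}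

/-- A quasisimple normal subgroup is commutator with anything not centralizing it. -/
theorem commutator_eq_of_quasisimple {K : Subgroup G} [K.Normal] (hK : Cfsg.IsQuasisimple K)
    {Y : Subgroup G} (hY : ¬ Y ≤ centralizer (K : Set G)) : ⁅K, Y⁆ = K := by
  rcases Components.IsQuasisimple.eq_or_commutator_eq_bot hK (commutator_le_left K Y)
    (commutator_right_mem_normalizer K Y) with h | h
  · exact h
  exfalso
  apply hY
  rw [← commutator_eq_bot_iff_le_centralizer, commutator_comm]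
  rw [commutator_comm] at h
  have h2 := commutator_commutator_eq_bot_of_rotate (H₁ := K) (H₂ := K) (H₃ := Y) h
    (by rwa [commutator_comm Y K])
  rwa [Components.IsQuasisimple.commutator_self hK] at h2

variable [Finite G] [Fact p.Prime]

/-- If `O_p = 1` and `K` is a normal subgroup with `p`-power index, then `C(K) ≤ K` and `C(K)` is
a `p'`-group. -/
theorem centralizer_le_and_pSub_eq_bot {K : Subgroup G} [K.Normal] (hO : Cfsg.pCore p G = ⊥)
    (hK : ∀ x : G, (orderOf x).Coprime p → x ∈ K) :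
    centralizer (K : Set G) ≤ K ∧
      ∀ Y : Subgroup G, IsPGroup p Y → Y ≤ centralizer (K : Set G) → Y = ⊥ := by
  set J := centralizer (K : Set G) with hJ
  obtain ⟨R, hR⟩ := exists_isSylowIn p J
  have hJR : J ≤ normalizer (R : Set G) := by
    refine le_of_eq_of_le hR.resOf_sup.symm (sup_le (fun x hx => ?_) R.le_normalizer)
    refine centralizer_le_normalizer R (mem_centralizer_iff.mpr fun r hr => ?_)
    have hxK : x ∈ K := resOf_le_iff.mpr (fun u _ hu => hK u hu) hx
    exact (mem_centralizer_iff.mp (hR.1 hr) x hxK).symm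
  have hRbot : R = ⊥ := by
    rw [← le_bot_iff, ← hO]
    refine le_trans (le_pCoreOf (p := p) hR.1 hJR hR.2.1) (le_pCore ?_ (isPGroup_pCoreOf p J))
    have hJn : J.Normal := by rw [hJ]; infer_instance
    rw [← normalizer_eq_top_iff, eq_top_iff]
    refine le_trans ?_ (normalizer_le_normalizer_pCoreOf J)
    rw [normalizer_eq_top_iff.mpr hJn]
  refine ⟨?_, fun Y hY hYJ => ?_⟩
  · refine le_of_eq_of_le hR.resOf_sup.symm (sup_le (resOf_le_iff.mpr fun u _ hu => hK u hu) ?_)
    rw [hRbot]; exact bot_le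
  · obtain ⟨R', hYR', hR'⟩ := exists_isSylowIn_le (p := p) hY hYJ
    obtain ⟨g, _, hg⟩ := hR.exists_conj_eq hR'
    rw [hRbot, Subgroup.map_bot] at hg
    exact le_bot_iff.mp (hg ▸ hYR')

/-- A normal subgroup generated by `p`-elements, modulo a normal `D`: central `p'`-quotients vanish. -/
theorem resOf_le_of_central_mod {W D : Subgroup G} (hD : D ≤ resOf p W)
    (hWD : W ≤ normalizer (D : Set G)) (hc : ⁅resOf p W, W⁆ ≤ D)
    (hW : ∀ M : Subgroup G, M ≤ W → (∀ Y : Subgroup G, IsPGroup p Y → Y ≤ W → Y ≤ M) → W ≤ M) :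
    resOf p W ≤ D := by
  obtain ⟨R, hR⟩ := exists_isSylowIn p W
  have hMW : D ⊔ R ≤ W := sup_le (hD.trans (resOf_le p W)) hR.1
  have hn : W ≤ normalizer ((D ⊔ R : Subgroup G) : Set G) := by
    refine le_of_eq_of_le hR.resOf_sup.symm (sup_le (fun x hx => ?_) (le_sup_right.trans (D ⊔ R).le_normalizer))
    apply mem_normalizer_of_map_conj_le
    rw [Subgroup.map_sup, map_conj_eq_self (hWD (resOf_le p W hx))]
    refine sup_le le_sup_left ?_
    rintro _ ⟨r, hr, rfl⟩
    show x * r * x⁻¹ ∈ D ⊔ R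
    rw [show x * r * x⁻¹ = ⁅x, r⁆ * r by rw [commutatorElement_def]; group]
    exact mul_mem (le_sup_left (b := R) (hc (commutator_mem_commutator hx (hR.1 hr))))
      (le_sup_right (a := D) hr)
  have hW' : W ≤ D ⊔ R := hW _ hMW fun Y hY hYW y hy => by
    obtain ⟨g, hg, hYg⟩ := hR.exists_conj_le hY hYW
    exact (mem_normalizer_iff.mp (hn hg) y).mpr
      (le_sup_right (a := D) (hYg (mem_map_of_mem _ hy)))
  refine resOf_le_of_pow_mem fun x hx => ?_
  obtain ⟨d, hd, r, hr, rfl⟩ := exists_mul_of_mem_sup' (hR.1.trans hWD) (sup_comm D R ▸ hW' hx)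
  obtain ⟨k, hk⟩ := hR.2.1 ⟨r, hr⟩
  refine ⟨k, ?_⟩
  have key : ∀ j : ℕ, ∃ d' ∈ D, (d * r) ^ j = d' * r ^ j := by
    intro j
    induction j with
    | zero => exact ⟨1, one_mem D, by simp⟩
    | succ j ih =>
      obtain ⟨d', hd', he⟩ := ih
      exact ⟨d' * (r ^ j * d * (r ^ j)⁻¹), mul_mem hd'
        ((mem_normalizer_iff.mp (hWD (hR.1 (pow_mem hr j))) d).mp hd),
        by rw [pow_succ, he, pow_succ r]; group⟩
  obtain ⟨d', hd', he⟩ := key (p ^ k)
  rw [he, show r ^ p ^ k = 1 from congrArg Subtype.val hk, mul_one]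
  exact hd'

end

section main

variable {p : ℕ} [Finite G] [Fact p.Prime]

theorem resOf_quasisimple_main {Q U E : Subgroup G} (hQp : IsPGroup p Q) (hQ : Cfsg.IsLarge Q)
    (hU : IsPGroup p U) (hU1 : U ≠ ⊥) (hQE : Q ≤ E) (hEU : E ≤ normalizer (U : Set G))
    (hQn : ¬ E ≤ normalizer (Q : Set G)) {H : Type*} [Group H] [Finite H] (φ : E →* H)
    (hφ : Function.Surjective φ) (hker : φ.ker = (centralizer (U : Set G)).subgroupOf E)
    (hred : Cfsg.pCore p H = ⊥)
    (hqs : Cfsg.IsQuasisimple ↥((Cfsg.pResidual p ↥E).map φ)) {Er : Subgroup G}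
    (hEr : Er = resOf p (Cfsg.weakClosure Q E)) :
    resOf p E ⊔ (E ⊓ centralizer (U : Set G)) = Er ⊔ (E ⊓ centralizer (U : Set G)) ∧
      ⁅Er, Er⁆ = Er ∧ resOf p Er = Er ∧
      (∃ f : Er →* (Cfsg.pResidual p ↥E).map φ, Function.Surjective f ∧
        f.ker = (centralizer (U : Set G)).subgroupOf Er) ∧
      (∀ a c : ↥Er, (c : G) ∈ centralizer (U : Set G) → ⁅a, c⁆ ∈ Cfsg.pCore p ↥Er) ∧
      (Cfsg.pCore p ↥Er).map Er.subtype ≤ centralizer (U : Set G) ∧
      ∀ Y : Subgroup G, Y ≤ E → IsPGroup p Y → ¬ Y ≤ centralizer (U : Set G) → ⁅Er, Y⁆ = Er := by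
  set C := E ⊓ centralizer (U : Set G) with hC
  set W := Cfsg.weakClosure Q E with hW
  set K := (Cfsg.pResidual p ↥E).map φ with hKd
  have hWE : W ≤ E := weakClosure_le Q E
  have hErW : Er ≤ W := hEr ▸ resOf_le p W
  have hErE : Er ≤ E := hErW.trans hWE
  have hEW : E ≤ normalizer (W : Set G) := le_normalizer_weakClosure Q E
  have hEEr : E ≤ normalizer (Er : Set G) := hEr ▸ hEW.trans (normalizer_le_normalizer_resOf p W)
  -- largeness
  have hQU : ¬ Q ≤ centralizer (U : Set G) := fun h => hQn (hEU.trans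
    (hQ.2 U (le_centralizer_iff.mp h) hU1))
  have hCQ : C ≤ normalizer (Q : Set G) := by
    have h1 : U ⊓ centralizer (Q : Set G) ≠ ⊥ :=
      inf_centralizer_ne_bot hU hU1 hQp (hQE.trans hEU)
    intro c hc
    refine hQ.2 _ inf_le_right h1 (centralizer_le_normalizer _ ?_)
    exact centralizer_le (fun u hu => hu.1) hc.2
  -- the image in `H`
  let img : Subgroup G → Subgroup H := fun X => (X.subgroupOf E).map φ
  have himg : ∀ {X : Subgroup G}, X ≤ E → ∀ x : E, φ x ∈ img X → (x : G) ∈ X ⊔ C := by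
    intro X _ x hx
    obtain ⟨u, hu, he⟩ := mem_map.mp hx
    have : u⁻¹ * x ∈ φ.ker := by rw [MonoidHom.mem_ker, map_mul, map_inv, he, inv_mul_cancel]
    rw [hker] at this
    rw [show (x : G) = (u : G) * ((u : G)⁻¹ * x) by group]
    exact mul_mem (le_sup_left (b := C) hu)
      (le_sup_right (a := X) ⟨mul_mem (E.inv_mem u.2) x.2, this⟩)
  have hKn : K.Normal := by
    refine Subgroup.Normal.map ?_ φ hφ
    rw [← comap_map_eq_self_of_injective E.subtype_injective (Cfsg.pResidual p ↥E)]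
    exact (normal_subgroupOf_iff_le_normalizer (resOf_le p E)).2 (le_normalizer_resOf p E)
  have hlift : ∀ {S : Subgroup E} (y : H), y ∈ S.map φ → (orderOf y).Coprime p →
      ∃ x ∈ S, (orderOf x).Coprime p ∧ y ∈ zpowers (φ x) := by
    intro S y hy hc
    obtain ⟨x, hx, rfl⟩ := mem_map.mp hy
    obtain ⟨k, hk⟩ := exists_coprime_pow_mem (p := p) x
    refine ⟨x ^ p ^ k, pow_mem hx _, hk, mem_of_pow_mem (k := k) hc ?_⟩
    rw [map_pow]; exact mem_zpowers _
  have hK : ∀ y : H, (orderOf y).Coprime p → y ∈ K := by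
    intro y hc
    obtain ⟨x, -, hx, hy⟩ := hlift (S := ⊤) y (by simpa using hφ y) hc
    exact zpowers_le.mpr (mem_map_of_mem φ (subset_closure hx)) hy
  obtain ⟨hCK, hpbot⟩ := centralizer_le_and_pSub_eq_bot hred hK
  have hcomm : ∀ Y : Subgroup G, Y ≤ E → IsPGroup p Y → ¬ Y ≤ centralizer (U : Set G) →
      ⁅K, img Y⁆ = K := by
    intro Y hYE hY hYU
    refine commutator_eq_of_quasisimple hqs fun h => hYU fun y hy => ?_
    have := hpbot _ ((hY.comap_subtype).map φ) h
    have h2 : (⟨y, hYE hy⟩ : E) ∈ φ.ker :=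
      MonoidHom.mem_ker.mpr (mem_bot.mp (this ▸ mem_map_of_mem φ (show (⟨y, hYE hy⟩ : E) ∈ Y.subgroupOf E from hy)))
    rw [hker] at h2
    exact h2
  have hWn : (W.subgroupOf E).Normal := (normal_subgroupOf_iff_le_normalizer hWE).2 hEW
  have hKW : K ≤ img W := by
    have : (img W).Normal := hWn.map φ hφ
    rw [← hcomm Q hQE hQp hQU]
    exact (commutator_mono le_rfl (map_mono (Subgroup.comap_mono (f := E.subtype) (le_weakClosure hQE)))).trans
      (commutator_le_right K (img W))
  have hres : ∀ x ∈ E, (orderOf x).Coprime p → x ∈ Er ⊔ C := by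
    intro x hx hc
    have hxK : φ ⟨x, hx⟩ ∈ K := mem_map_of_mem φ (subset_closure (by
      show (orderOf (⟨x, hx⟩ : E)).Coprime p
      rwa [Subgroup.orderOf_mk]))
    obtain ⟨u, hu, huc, hy⟩ := hlift _ (hKW hxK) (hc.coprime_dvd_left (by
      simpa using orderOf_map_dvd φ (⟨x, hx⟩ : E)))
    refine himg hErE ⟨x, hx⟩ (zpowers_le.mpr (mem_map_of_mem φ ?_) hy)
    show (u : G) ∈ Er
    rw [hEr]
    exact mem_resOf hu (by rwa [Subgroup.orderOf_coe])
  have hEC : E ≤ normalizer (C : Set G) :=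
    le_normalizer_inf E.le_normalizer (le_normalizer_centralizer hEU)
  have part1 : resOf p E ⊔ C = Er ⊔ C :=
    le_antisymm (sup_le (resOf_le_iff.mpr hres) le_sup_right)
      (sup_le_sup_right (hEr ▸ resOf_mono hWE) C)
  -- `[W, C]` is a `p`-group
  set P := pCoreOf p C with hP
  have hEP : E ≤ normalizer (P : Set G) := hEC.trans (normalizer_le_normalizer_pCoreOf C)
  have hPp : IsPGroup p P := isPGroup_pCoreOf p C
  have hWC : ⁅W, C⁆ ≤ P := by
    -- the set of elements of `E` commuting with `C` modulo `P`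
    have hQC : ∀ g : G, g ∈ E → Q.map (MulAut.conj g).toMonoidHom ≤ E →
        ⁅Q.map (MulAut.conj g).toMonoidHom, C⁆ ≤ P := by
      intro g hg _
      have h1 : ⁅Q, C⁆ ≤ P := by
        have h2 : ⁅Q, C⁆ ≤ Q ⊓ C := le_inf
          (commutator_le.mpr fun q hq c hc => by
            rw [commutatorElement_def, mul_assoc, mul_assoc]
            refine mul_mem hq ?_
            rw [← mul_assoc]
            exact (mem_normalizer_iff.mp (hCQ hc) q⁻¹).mp (inv_mem hq))
          (commutator_le.mpr fun q hq c hc => by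
            rw [commutatorElement_def]
            exact mul_mem ((mem_normalizer_iff.mp (hEC (hQE hq)) c).mp hc) (inv_mem hc))
        refine h2.trans (le_pCoreOf inf_le_right ?_ (hQp.to_le inf_le_left))
        exact le_normalizer_inf hCQ C.le_normalizer
      have h3 := Subgroup.map_mono (f := (MulAut.conj g).toMonoidHom) h1
      rwa [map_commutator, map_conj_eq_self (hEC hg), map_conj_eq_self (hEP hg)] at h3
    have hwc := wc_of_isLarge hQp (fun h => hQU (h ▸ bot_le)) hQ
    rw [hW, weakClosure_eq_iSup hwc hQE, commutator_le]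
    intro w hw c hc
    suffices (⨆ k : ↥E, Q.map (MulAut.conj (k : G)).toMonoidHom) ≤
        (({ carrier := {w | w ∈ E ∧ ∀ c ∈ C, ⁅w, c⁆ ∈ P}
            one_mem' := ⟨one_mem E, fun c _ => by simp⟩
            mul_mem' := fun {a b} ha hb => ⟨mul_mem ha.1 hb.1, fun c hc => by
              rw [show ⁅a * b, c⁆ = a * ⁅b, c⁆ * a⁻¹ * ⁅a, c⁆ by
                simp only [commutatorElement_def]; group]
              exact mul_mem ((mem_normalizer_iff.mp (hEP ha.1) _).mp (hb.2 c hc)) (ha.2 c hc)⟩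
            inv_mem' := fun {a} ha => ⟨inv_mem ha.1, fun c hc => by
              rw [show ⁅a⁻¹, c⁆ = a⁻¹ * ⁅a, c⁆⁻¹ * a⁻¹⁻¹ by
                simp only [commutatorElement_def]; group]
              exact (mem_normalizer_iff.mp (hEP (inv_mem ha.1)) _).mp (inv_mem (ha.2 c hc))⟩ } :
          Subgroup G)) by
      exact (this hw).2 c hc
    refine iSup_le fun k u hu => ⟨map_conj_le hQE k.2 hu, fun c hc => ?_⟩
    exact hQC k k.2 (map_conj_le hQE k.2) (commutator_mem_commutator hu hc)
  have hcoprime : ∀ (D : Subgroup G), D ≤ Er → Er ≤ normalizer (D : Set G) → ⁅Er, Er⁆ ≤ D →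
      Er ⊓ P ≤ D := by
    intro D hDEr hnD hDD x hx
    -- the `p`-part of the abelian quotient generated by `p'`-elements is trivial
    by_contra hxD
    let N := D.subgroupOf Er
    have hNn : N.Normal := normal_subgroupOf_of_le_normalizer hnD
    have hab : ∀ a b : ↥Er ⧸ N, a * b = b * a := by
      intro a b
      obtain ⟨a, rfl⟩ := QuotientGroup.mk_surjective a
      obtain ⟨b, rfl⟩ := QuotientGroup.mk_surjective b
      rw [← QuotientGroup.mk_mul, ← QuotientGroup.mk_mul, QuotientGroup.eq]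
      show ((a * b)⁻¹ * (b * a) : ↥Er).1 ∈ D
      rw [show ((a * b)⁻¹ * (b * a) : ↥Er).1 = ⁅(b : G)⁻¹, (a : G)⁻¹⁆ by
        simp only [commutatorElement_def, Subgroup.coe_mul, Subgroup.coe_inv]; group]
      exact hDD (commutator_mem_commutator (inv_mem b.2) (inv_mem a.2))
    let S : Subgroup ↥Er :=
      { carrier := {u | (orderOf (u : ↥Er ⧸ N)).Coprime p}
        one_mem' := by simp
        mul_mem' := fun {a b} ha hb => by
          show (orderOf ((a * b : ↥Er) : ↥Er ⧸ N)).Coprime p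
          rw [QuotientGroup.mk_mul]
          exact (Nat.Coprime.mul_left ha hb).coprime_dvd_left
            ((Commute.orderOf_mul_dvd_lcm (hab _ _)).trans (Nat.lcm_dvd_mul _ _))
        inv_mem' := fun {a} ha => by
          show (orderOf ((a⁻¹ : ↥Er) : ↥Er ⧸ N)).Coprime p
          rw [QuotientGroup.mk_inv, orderOf_inv]; exact ha }
    have hS : ∀ u : ↥Er, u ∈ S := by
      intro u
      have hu : (u : G) ∈ S.map Er.subtype := by
        have h : (u : G) ∈ resOf p W := hEr ▸ u.2
        refine resOf_le_iff.mpr (fun v hv hc => ?_) h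
        have hvE : v ∈ Er := hEr ▸ mem_resOf hv hc
        exact ⟨⟨v, hvE⟩, hc.coprime_dvd_left (by
          simpa using orderOf_map_dvd (QuotientGroup.mk' N) (⟨v, hvE⟩ : ↥Er)), rfl⟩
      obtain ⟨u', hu', he⟩ := hu
      rwa [← Subtype.ext he]
    apply hxD
    obtain ⟨k, hk⟩ := hPp ⟨x, hx.2⟩
    have h1 : ((⟨x, hx.1⟩ : ↥Er) : ↥Er ⧸ N) ^ p ^ k = 1 := by
      rw [← QuotientGroup.mk_pow, show (⟨x, hx.1⟩ : ↥Er) ^ p ^ k = 1 from
        Subtype.ext (by simpa [Subtype.ext_iff] using hk)]; rfl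
    have h2 := Nat.Coprime.eq_one_of_dvd ((hS ⟨x, hx.1⟩).pow_right k) (orderOf_dvd_of_pow_eq_one h1)
    exact (QuotientGroup.eq_one_iff (N := N) (⟨x, hx.1⟩ : ↥Er)).mp (orderOf_eq_one_iff.mp h2)
  have hsplit : ∀ M : Subgroup G, M ≤ Er → Er ≤ M ⊔ C → Er ≤ M ⊔ Er ⊓ C := by
    intro M hM h x hx
    obtain ⟨m, hm, c, hc, rfl⟩ := exists_mul_of_mem_sup ((hM.trans hErE).trans hEC) (h hx)
    exact mul_mem (le_sup_left (b := Er ⊓ C) hm)
      (le_sup_right (a := M) ⟨(Er.mul_mem_cancel_left (hM hm)).mp hx, hc⟩)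
  -- perfect
  have part2 : ⁅Er, Er⁆ = Er := by
    set D := ⁅Er, Er⁆ with hD
    have hDEr : D ≤ Er := commutator_le_self Er
    have hED : E ≤ normalizer (D : Set G) := le_normalizer_commutator hEEr hEEr
    refine le_antisymm hDEr ?_
    conv_lhs => rw [hEr]
    have hPD : Er ⊓ P ≤ D := hcoprime D hDEr (hErE.trans hED) le_rfl
    have hErD : Er ≤ D ⊔ C := by
      -- `K` is perfect
      have h1 : K ≤ img D := by
        have h2 : ⁅K, K⁆ = K := Components.IsQuasisimple.commutator_self hqs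
        have h3 : K ≤ img Er := by
          rintro _ ⟨x, hx, rfl⟩
          have : (x : G) ∈ resOf p E := mem_map_of_mem E.subtype hx
          obtain ⟨a, ha, c, hc, he⟩ := exists_mul_of_mem_sup (hErE.trans hEC)
            ((part1.le (le_sup_left (b := C) this)))
          have hcker : (⟨c, hc.1⟩ : E) ∈ φ.ker := by rw [hker]; exact hc.2
          refine ⟨⟨a, hErE ha⟩, ha, ?_⟩
          rw [show x = ⟨a, hErE ha⟩ * ⟨c, hc.1⟩ from Subtype.ext he.symm, map_mul,
            MonoidHom.mem_ker.mp hcker, mul_one]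
        rw [← h2]
        refine (commutator_mono h3 h3).trans (le_of_eq_of_le (map_commutator _ _ _).symm (map_mono ?_))
        rw [← map_le_map_iff_of_injective E.subtype_injective, map_commutator,
          subgroupOf_map_subtype, subgroupOf_map_subtype, inf_eq_left.2 hErE,
          inf_eq_left.2 (hDEr.trans hErE)]
      intro x hx
      refine himg (hDEr.trans hErE) ⟨x, hErE hx⟩ (h1 ?_)
      exact mem_map_of_mem φ (show (⟨x, hErE hx⟩ : E) ∈ Cfsg.pResidual p ↥E by
        obtain ⟨v, hv, he⟩ := mem_map.mp (show x ∈ (Cfsg.pResidual p ↥E).map E.subtype from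
          resOf_mono hWE (hEr ▸ hx))
        rwa [show (⟨x, hErE hx⟩ : E) = v from Subtype.ext he.symm])
    refine resOf_le_of_central_mod (hEr ▸ hDEr) (hWE.trans hED) ?_ fun M hMW hM => ?_
    · rw [← hEr, commutator_le]
      intro x hx w hw
      obtain ⟨d, hd, c, hc, rfl⟩ := exists_mul_of_mem_sup ((hDEr.trans hErE).trans hEC) (hErD hx)
      have hcE : c ∈ Er := (Er.mul_mem_cancel_left (hDEr hd)).mp hx
      rw [show ⁅d * c, w⁆ = d * (⁅c, w⁆ * (w * d⁻¹ * w⁻¹)) by
        simp only [commutatorElement_def]; group]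
      refine mul_mem hd (mul_mem (hPD ⟨?_, ?_⟩)
        ((mem_normalizer_iff.mp (hWE.trans hED hw) _).mp (inv_mem hd)))
      · rw [show ⁅c, w⁆ = c * (w * c⁻¹ * w⁻¹) by rw [commutatorElement_def]; group]
        exact mul_mem hcE ((mem_normalizer_iff.mp (hEEr (hWE hw)) _).mp (inv_mem hcE))
      · rw [← commutatorElement_inv]
        exact P.inv_mem (hWC (commutator_mem_commutator hw hc))
    · rw [hW]
      refine weakClosure_le_iff.2 fun g hg => hM _ (isPGroup_map_conj hQp g) ?_
      exact hW ▸ map_conj_le_weakClosure hg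
  have part3 : resOf p Er = Er := by rw [hEr, resOf_resOf]
  -- subgroups covering modulo `C`
  have hcover : ∀ M : Subgroup G, M ≤ Er → Er ≤ normalizer (M : Set G) → Er ≤ M ⊔ C → Er ≤ M := by
    intro M hM hnM h
    have hEP' : Er ≤ normalizer ((Er ⊓ P : Subgroup G) : Set G) :=
      le_normalizer_inf Er.le_normalizer (hErE.trans hEP)
    have hn2 : Er ≤ normalizer ((M ⊔ Er ⊓ P : Subgroup G) : Set G) := le_normalizer_sup hnM hEP'
    have hmix : ∀ x ∈ Er, ∀ c, c ∈ Er ⊓ C → ⁅x, c⁆ ∈ Er ⊓ P := fun x hx c hc =>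
      ⟨part2.le (commutator_mem_commutator hx hc.1), hWC (commutator_mem_commutator (hErW hx) hc.2)⟩
    have h1 : Er ≤ M ⊔ Er ⊓ P := by
      conv_lhs => rw [← part2]
      rw [commutator_le]
      intro x hx y hy
      obtain ⟨a, ha, c, hc, rfl⟩ := exists_mul_of_mem_sup
        (hM.trans (le_normalizer_inf Er.le_normalizer (hErE.trans hEC))) (hsplit M hM h hy)
      rw [show ⁅x, a * c⁆ = (x * a * x⁻¹) * a⁻¹ * (a * ⁅x, c⁆ * a⁻¹) by
        simp only [commutatorElement_def]; group]
      exact mul_mem (le_sup_left (b := Er ⊓ P) (mul_mem ((mem_normalizer_iff.mp (hnM hx) a).mp ha)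
        (inv_mem ha))) ((mem_normalizer_iff.mp (hn2 (hM ha)) _).mp
          (le_sup_right (a := M) (hmix x hx c hc)))
    rw [← part3]
    refine resOf_le_of_pow_mem fun x hx => ?_
    obtain ⟨a, ha, r, hr, rfl⟩ := exists_mul_of_mem_sup' (inf_le_left.trans hnM)
      (sup_comm M (Er ⊓ P) ▸ h1 hx)
    obtain ⟨k, hk⟩ := hPp ⟨r, hr.2⟩
    have key : ∀ j : ℕ, ∃ a' ∈ M, (a * r) ^ j = a' * r ^ j := by
      intro j
      induction j with
      | zero => exact ⟨1, one_mem M, by simp⟩
      | succ j ih =>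
        obtain ⟨a', ha', he⟩ := ih
        exact ⟨a' * (r ^ j * a * (r ^ j)⁻¹), mul_mem ha'
          ((mem_normalizer_iff.mp (hnM (pow_mem hr.1 j)) a).mp ha),
          by rw [pow_succ, he, pow_succ r]; group⟩
    obtain ⟨a', ha', he⟩ := key (p ^ k)
    exact ⟨k, by rw [he, show r ^ p ^ k = 1 from congrArg Subtype.val hk, mul_one]; exact ha'⟩
  refine ⟨part1, part2, part3, ?_, ?_, ?_, fun Y hYE hY hYU => ?_⟩
  · refine ⟨(φ.comp (inclusion hErE)).codRestrict K fun x => mem_map_of_mem φ ?_, ?_, ?_⟩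
    · exact (mem_map_iff_mem E.subtype_injective).mp
        (resOf_mono hWE (p := p) (show (x : G) ∈ resOf p W from hEr ▸ x.2))
    · rintro ⟨y, hy⟩
      obtain ⟨x, hx, rfl⟩ := mem_map.mp hy
      obtain ⟨a, ha, c, hc, he⟩ := exists_mul_of_mem_sup (hErE.trans hEC)
        ((part1.le (le_sup_left (b := C) (mem_map_of_mem E.subtype hx))))
      have hcker : (⟨c, hc.1⟩ : E) ∈ φ.ker := by rw [hker]; exact hc.2
      refine ⟨⟨a, ha⟩, Subtype.ext ?_⟩
      show φ ⟨a, hErE ha⟩ = φ x
      rw [show x = ⟨a, hErE ha⟩ * ⟨c, hc.1⟩ from Subtype.ext he.symm, map_mul,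
        MonoidHom.mem_ker.mp hcker, mul_one]
    · rw [MonoidHom.ker_codRestrict, ← MonoidHom.comap_ker, hker]; rfl
  · intro a c hc
    have hEP' : Er ≤ normalizer ((Er ⊓ P : Subgroup G) : Set G) :=
      le_normalizer_inf Er.le_normalizer (hErE.trans hEP)
    exact le_pCore (normal_subgroupOf_of_le_normalizer hEP')
      ((hPp.to_le (inf_le_right : Er ⊓ P ≤ P)).of_equiv (subgroupOfEquivOfLe inf_le_left).symm)
      (show ⁅(a : G), (c : G)⁆ ∈ Er ⊓ P from ⟨part2.le (commutator_mem_commutator a.2 c.2),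
        hWC (commutator_mem_commutator (hErW a.2) ⟨hErE c.2, hc⟩)⟩)
  · -- the core of `Er` centralises `U`
    set P₀ := (Cfsg.pCore p ↥Er).map Er.subtype with hP₀
    have hP₀E : P₀ ≤ E := (map_subtype_le _).trans hErE
    have hP₀n : E ≤ normalizer (P₀ : Set G) := hEEr.trans (normalizer_le_normalizer_pCoreOf Er)
    have hbot : img P₀ = ⊥ := by
      rw [← le_bot_iff, ← hred]
      refine le_pCore (Subgroup.Normal.map ((normal_subgroupOf_iff_le_normalizer hP₀E).2 hP₀n) φ hφ) ?_
      exact ((isPGroup_pCoreOf p Er).comap_subtype).map φ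
    intro x hx
    have h2 : (⟨x, hP₀E hx⟩ : E) ∈ φ.ker :=
      MonoidHom.mem_ker.mpr (mem_bot.mp (hbot ▸ mem_map_of_mem φ (show (⟨x, hP₀E hx⟩ : E) ∈ P₀.subgroupOf E from hx)))
    rw [hker] at h2
    exact h2
  · have hle : ⁅Er, Y⁆ ≤ Er := commutator_le.mpr fun a ha y hy => by
      rw [commutatorElement_def, mul_assoc, mul_assoc]
      refine mul_mem ha ?_
      rw [← mul_assoc]
      exact (mem_normalizer_iff.mp (hEEr (hYE hy)) _).mp (inv_mem ha)
    refine le_antisymm hle (hcover _ hle (commutator_right_mem_normalizer Er Y) fun x hx => ?_)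
    have h1 : K ≤ img ⁅Er, Y⁆ := by
      have h3 : K ≤ img Er := by
        rintro _ ⟨u, hu, rfl⟩
        obtain ⟨a, ha, c, hc, he⟩ := exists_mul_of_mem_sup (hErE.trans hEC)
          ((part1.le (le_sup_left (b := C) (mem_map_of_mem E.subtype hu))))
        have hcker : (⟨c, hc.1⟩ : E) ∈ φ.ker := by rw [hker]; exact hc.2
        refine ⟨⟨a, hErE ha⟩, ha, ?_⟩
        rw [show u = ⟨a, hErE ha⟩ * ⟨c, hc.1⟩ from Subtype.ext he.symm, map_mul,
          MonoidHom.mem_ker.mp hcker, mul_one]
      rw [← hcomm Y hYE hY hYU]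
      refine (commutator_mono h3 le_rfl).trans (le_of_eq_of_le (map_commutator _ _ _).symm (map_mono ?_))
      rw [← map_le_map_iff_of_injective E.subtype_injective, map_commutator,
        subgroupOf_map_subtype, subgroupOf_map_subtype, subgroupOf_map_subtype, inf_eq_left.2 hErE,
        inf_eq_left.2 hYE, inf_eq_left.2 (hle.trans hErE)]
    refine himg (hle.trans hErE) ⟨x, hErE hx⟩ (h1 (mem_map_of_mem φ ?_))
    obtain ⟨v, hv, he⟩ := mem_map.mp (show x ∈ (Cfsg.pResidual p ↥E).map E.subtype from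
      resOf_mono hWE (hEr ▸ hx))
    rwa [show (⟨x, hErE hx⟩ : E) = v from Subtype.ext he.symm]

end main

end Cfsg.Agent.LocalStructure
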