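import Cfsg.Agent.Lib.LocalStructure.PClosed

/-! Subgroups stabilising a section. -/

set_option autoImplicit false

open Subgroup
open scoped commutatorElement

namespace Cfsg.Agent.LocalStructure

variable {G : Type*} [Group G]

/-- The elements of `G₀` whose commutators with `B` lie in the normalised subgroup `A`. -/
def stabSub (G₀ A : Subgroup G) (B : Set G) (hA : G₀ ≤ normalizer (A : Set G)) : Subgroup G where
  carrier := {h | h ∈ G₀ ∧ ∀ v ∈ B, ⁅h, v⁆ ∈ A}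
  one_mem' := ⟨G₀.one_mem, fun v _ => by simp⟩
  mul_mem' := by
    rintro a b ⟨ha, ha'⟩ ⟨hb, hb'⟩
    refine ⟨G₀.mul_mem ha hb, fun v hv => ?_⟩
    have e : ⁅a * b, v⁆ = (a * ⁅b, v⁆ * a⁻¹) * ⁅a, v⁆ := by
      simp only [commutatorElement_def]; group
    rw [e]
    exact A.mul_mem ((mem_normalizer_iff.1 (hA ha) _).1 (hb' v hv)) (ha' v hv)
  inv_mem' := by
    rintro a ⟨ha, ha'⟩
    refine ⟨G₀.inv_mem ha, fun v hv => ?_⟩
    have e : ⁅a⁻¹, v⁆ = a⁻¹ * ⁅a, v⁆⁻¹ * a := by simp only [commutatorElement_def]; group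
    rw [e]
    exact (mem_normalizer_iff''.1 (hA ha) _).1 (A.inv_mem (ha' v hv))

theorem stabSub_le (G₀ A : Subgroup G) (B : Set G) (hA : G₀ ≤ normalizer (A : Set G)) :
    stabSub G₀ A B hA ≤ G₀ := fun _ h => h.1

theorem le_normalizer_stabSub (G₀ A : Subgroup G) (B : Set G) (hA : G₀ ≤ normalizer (A : Set G))
    (hB : ∀ g ∈ G₀, ∀ v ∈ B, g * v * g⁻¹ ∈ B) :
    G₀ ≤ normalizer (stabSub G₀ A B hA : Set G) := by
  rw [le_normalizer_iff]
  rintro g hg h ⟨hh, hh'⟩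
  refine ⟨G₀.mul_mem (G₀.mul_mem hg hh) (G₀.inv_mem hg), fun v hv => ?_⟩
  have h1 : g⁻¹ * v * g ∈ B := by simpa using hB g⁻¹ (G₀.inv_mem hg) v hv
  have e : ⁅g * h * g⁻¹, v⁆ = g * ⁅h, g⁻¹ * v * g⁆ * g⁻¹ := by
    simp only [commutatorElement_def]; group
  rw [e]
  exact (mem_normalizer_iff.1 (hA hg) _).1 (hh' _ h1)

end Cfsg.Agent.LocalStructure
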