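import Mathlib.GroupTheory.Transfer
import Mathlib.GroupTheory.Sylow
import Mathlib.GroupTheory.GroupAction.SubMulAction
import Cfsg.Agent.Lib.PGroup.Basic

/-!
The transfer into a group of order two of a central involution of a Sylow 2-subgroup whose
normalizer centralizes it.
-/

set_option autoImplicit false

namespace Cfsg.Agent.LocalStructure

open Subgroup MulAction

variable {G A : Type*} [Group G] [Finite G] [CommGroup A]

/-- The value of `φ` at the conjugate of `z` by a coset representative, when that conjugate is in `S`. -/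
noncomputable def conjVal {S : Subgroup G} (φ : ↥S →* A) (z g : G) : A :=
  open scoped Classical in if h : g⁻¹ * z * g ∈ S then φ ⟨_, h⟩ else 1

omit [Finite G] in
theorem conjVal_mul_right {S : Subgroup G} (φ : ↥S →* A) (z g : G) {s : G} (hs : s ∈ S) :
    conjVal φ z (g * s) = conjVal φ z g := by
  have heq : (g * s)⁻¹ * z * (g * s) = s⁻¹ * (g⁻¹ * z * g) * s := by group
  unfold conjVal
  by_cases h : g⁻¹ * z * g ∈ S
  · have h' : (g * s)⁻¹ * z * (g * s) ∈ S := heq ▸ S.mul_mem (S.mul_mem (S.inv_mem hs) h) hs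
    rw [dif_pos h, dif_pos h',
      show (⟨_, h'⟩ : ↥S) = (⟨s, hs⟩ : ↥S)⁻¹ * ⟨_, h⟩ * ⟨s, hs⟩ from Subtype.ext heq,
      map_mul, map_mul, map_inv, mul_right_comm, inv_mul_cancel, one_mul]
  · rw [dif_neg h, dif_neg]
    intro h'
    apply h
    have h2 := S.mul_mem (S.mul_mem hs h') (S.inv_mem hs)
    rwa [show s * ((g * s)⁻¹ * z * (g * s)) * s⁻¹ = g⁻¹ * z * g by group] at h2

omit [Finite G] in
theorem conjVal_eq_of_mk_eq {S : Subgroup G} (φ : ↥S →* A) (z : G) {g h : G}
    (e : (g : G ⧸ S) = h) : conjVal φ z h = conjVal φ z g := by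
  have := conjVal_mul_right φ z g (QuotientGroup.eq.1 e)
  rwa [mul_inv_cancel_left] at this

theorem transfer_eq_prod_conjVal {S : Subgroup G} (φ : ↥S →* A) {z : G} (hz : z * z = 1)
    [Fintype (G ⧸ S)] :
    MonoidHom.transfer φ z = ∏ x : G ⧸ S, conjVal φ z x.out := by
  classical
  rw [MonoidHom.transfer_eq_prod_quotient_orbitRel_zpowers_quot,
    ← Finset.prod_fiberwise (Finset.univ : Finset (G ⧸ S))
      (fun x => (Quotient.mk'' x : Quotient (orbitRel (zpowers z) (G ⧸ S))))
      (fun x => conjVal φ z x.out)]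
  refine Finset.prod_congr rfl fun q _ => ?_
  have hfix : ∀ x : G ⧸ S, z • x = x → ∀ k : ↥(zpowers z), k • x = x := by
    intro x hx k
    have : k.1 ∈ MulAction.stabilizer G x :=
      (Subgroup.zpowers_le.2 (MulAction.mem_stabilizer_iff.2 hx)) k.2
    exact MulAction.mem_stabilizer_iff.1 this
  have hiff : ∀ x : G ⧸ S, x.out⁻¹ * z * x.out ∈ S ↔ z • x = x := by
    intro x
    conv_rhs => rw [← QuotientGroup.out_eq' x]
    rw [MulAction.Quotient.smul_coe, QuotientGroup.eq, smul_eq_mul, mul_inv_rev, mul_assoc _ z⁻¹]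
    rw [← S.inv_mem_iff]
    simp only [mul_inv_rev, inv_inv, mul_assoc]
  by_cases hq : z • q.out = q.out
  · have hp : Function.minimalPeriod (z • ·) q.out = 1 :=
      Function.minimalPeriod_eq_one_iff_isFixedPt.2 hq
    have hfil : (Finset.univ.filter fun x : G ⧸ S =>
        (Quotient.mk'' x : Quotient (orbitRel (zpowers z) (G ⧸ S))) = q) = {q.out} := by
      ext x
      rw [Finset.mem_filter, Finset.mem_singleton]
      constructor
      · rintro ⟨-, hx⟩
        rw [← Quotient.out_eq' q, Quotient.eq''] at hx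
        obtain ⟨k, hk⟩ := hx
        rw [← hk]
        exact hfix _ hq k
      · rintro rfl
        exact ⟨Finset.mem_univ _, Quotient.out_eq' q⟩
    rw [hfil, Finset.prod_singleton]
    unfold conjVal
    rw [dif_pos ((hiff _).2 hq)]
    exact congrArg φ (Subtype.ext (by
      show q.out.out⁻¹ * z ^ Function.minimalPeriod (z • ·) q.out * q.out.out =
        q.out.out⁻¹ * z * q.out.out
      rw [hp, pow_one]))
  · have hp : Function.minimalPeriod (z • ·) q.out = 2 := by
      have : Fact (Nat.Prime 2) := ⟨Nat.prime_two⟩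
      refine Function.minimalPeriod_eq_prime ?_ hq
      show z • z • q.out = q.out
      rw [smul_smul, hz, one_smul]
    rw [Finset.prod_eq_one]
    · have h1 : z ^ Function.minimalPeriod (z • ·) q.out = 1 := by rw [hp, pow_two, hz]
      rw [← map_one φ]
      exact congrArg φ (Subtype.ext (by
        show q.out.out⁻¹ * z ^ Function.minimalPeriod (z • ·) q.out * q.out.out = 1
        rw [h1, mul_one, inv_mul_cancel]))
    · intro x hx
      rw [Finset.mem_filter] at hx
      unfold conjVal
      rw [dif_neg]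
      intro hmem
      apply hq
      have hx2 := hx.2.symm
      rw [← Quotient.out_eq' q, Quotient.eq''] at hx2
      obtain ⟨k, hk⟩ := hx2
      have hxz := (hiff x).1 hmem
      rw [← hk]
      show z • (k • x) = k • x
      rw [hfix x hxz k, hxz]

theorem transfer_ne_one_of_normalizer_centralizes (S : Sylow 2 G) (φ : ↥(S : Subgroup G) →* A)
    {z : G} (hzS : z ∈ (S : Subgroup G)) (hz : z * z = 1)
    (hzc : ∀ s ∈ (S : Subgroup G), s * z = z * s)
    (hN : ∀ g ∈ normalizer ((S : Subgroup G) : Set G), g * z * g⁻¹ = z)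
    (h2 : ∀ a : A, a = 1 ∨ a = φ ⟨z, hzS⟩) (hne : φ ⟨z, hzS⟩ ≠ 1) :
    MonoidHom.transfer φ z ≠ 1 := by
  classical
  have : Fact (Nat.Prime 2) := ⟨Nat.prime_two⟩
  have := Fintype.ofFinite (G ⧸ (S : Subgroup G))
  set c := φ ⟨z, hzS⟩ with hc
  have hinv : ∀ (s : ↥(S : Subgroup G)) (x : G ⧸ (S : Subgroup G)),
      conjVal φ z (s • x).out = conjVal φ z x.out := by
    intro s x
    have e : (((s : G) * x.out : G) : G ⧸ (S : Subgroup G)) = ((s • x).out : G) := by
      rw [QuotientGroup.out_eq']
      show _ = (s : G) • x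
      conv_rhs => rw [← QuotientGroup.out_eq' x]
      rfl
    rw [conjVal_eq_of_mk_eq φ z e]
    have heq : ((s : G) * x.out)⁻¹ * z * ((s : G) * x.out) = x.out⁻¹ * z * x.out := by
      calc _ = x.out⁻¹ * ((s : G)⁻¹ * (z * (s : G))) * x.out := by group
        _ = x.out⁻¹ * ((s : G)⁻¹ * ((s : G) * z)) * x.out := by rw [hzc _ s.2]
        _ = _ := by rw [inv_mul_cancel_left]
    unfold conjVal
    simp only [heq]
  let T : SubMulAction ↥(S : Subgroup G) (G ⧸ (S : Subgroup G)) :=
    { carrier := {x | conjVal φ z x.out ≠ 1}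
      smul_mem' := fun s x hx => by
        show conjVal φ z (s • x).out ≠ 1
        rwa [hinv] }
  have hprod : MonoidHom.transfer φ z = c ^ Nat.card T := by
    rw [transfer_eq_prod_conjVal φ hz]
    calc ∏ x : G ⧸ (S : Subgroup G), conjVal φ z x.out
        = ∏ x : G ⧸ (S : Subgroup G), if conjVal φ z x.out ≠ 1 then c else 1 := by
          refine Finset.prod_congr rfl fun x _ => ?_
          split_ifs with h
          · exact (h2 _).resolve_left h
          · exact not_not.1 h
      _ = _ := by
          rw [← Finset.prod_filter, Finset.prod_const]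
          congr 1
          rw [← Fintype.card_subtype, ← Nat.card_eq_fintype_card]
          rfl
  have hfixed : ∀ x : G ⧸ (S : Subgroup G),
      x ∈ fixedPoints ↥(S : Subgroup G) (G ⧸ (S : Subgroup G)) → x ∈ T := by
    intro x hx
    have hn : x.out⁻¹ ∈ normalizer ((S : Subgroup G) : Set G) := by
      apply mem_normalizer_fintype
      intro n hn
      have h1 := hx ⟨n, hn⟩
      change n • x = x at h1
      rw [← QuotientGroup.out_eq' x, MulAction.Quotient.smul_coe, QuotientGroup.eq, smul_eq_mul,
        ← inv_mem_iff] at h1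
      show x.out⁻¹ * n * x.out⁻¹⁻¹ ∈ (S : Subgroup G)
      simp only [mul_assoc, inv_inv, mul_inv_rev] at h1 ⊢
      first | exact h1 | exact inv_mem_iff.1 (by simpa [mul_assoc] using h1)
    show conjVal φ z x.out ≠ 1
    have h := hN _ hn
    rw [inv_inv] at h
    unfold conjVal
    rw [dif_pos (h.symm ▸ hzS)]
    intro e
    apply hne
    rw [← e]
    exact congrArg φ (Subtype.ext h.symm)
  have hcard : Nat.card T ≡ (S : Subgroup G).index [MOD 2] := by
    have e : fixedPoints ↥(S : Subgroup G) T ≃
        fixedPoints ↥(S : Subgroup G) (G ⧸ (S : Subgroup G)) :=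
      { toFun := fun x => ⟨x.1.1, fun s => congrArg Subtype.val (x.2 s)⟩
        invFun := fun x => ⟨⟨x.1, hfixed x.1 x.2⟩, fun s => Subtype.ext (x.2 s)⟩
        left_inv := fun _ => rfl
        right_inv := fun _ => rfl }
    refine (S.2.card_modEq_card_fixedPoints (α := T)).trans ?_
    rw [Nat.card_congr e]
    exact (S.2.card_modEq_card_fixedPoints (α := G ⧸ (S : Subgroup G))).symm
  have hodd : Nat.card T % 2 = 1 := by
    have h1 : ¬ (2 ∣ (S : Subgroup G).index) := S.not_dvd_index
    unfold Nat.ModEq at hcard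
    omega
  have hcc : c ^ 2 = 1 := by
    rw [pow_two, hc, ← map_mul, ← map_one φ]
    exact congrArg φ (Subtype.ext hz)
  rw [hprod, ← Nat.div_add_mod (Nat.card T) 2, hodd, pow_succ, pow_mul, hcc, one_pow, one_mul]
  exact hne

end Cfsg.Agent.LocalStructure
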