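import Cfsg.Agent.Lib.Amalgam.Basic
import Cfsg.Agent.Lib.LocalStructure.Basic
import Cfsg.Prelude.Def_LocalStructure

/-!
The subgroups `V_λ^{(n)}` of a rank-two amalgam with strongly embedded residues: `O^p(L_λ)` acts
nontrivially on their top factors.
-/

set_option autoImplicit false

namespace Cfsg.Agent.LocalStructure

open Subgroup
open scoped commutatorElement

variable {X : Type*} [Group X] {p : ℕ} [Fact p.Prime] {M₁ M₂ : Subgroup X}

theorem map_conj_sylowCenterClosure_le {H : Subgroup X} [Finite H] (g : X) :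
    (sylowCenterClosure p H).map (MulAut.conj g).toMonoidHom ≤
      sylowCenterClosure p (H.map (MulAut.conj g).toMonoidHom) := by
  set f := (MulAut.conj g).toMonoidHom with hf
  have hfi : Function.Injective f := (MulAut.conj g).injective
  simp only [sylowCenterClosure, Subgroup.map_iSup]
  refine iSup_le fun S => ?_
  set T := S.mapSurjective (f.subgroupMap_surjective H) with hT
  have hST : ((S : Subgroup H).map H.subtype).map f =
      (T : Subgroup ↥(H.map f)).map (H.map f).subtype := by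
    rw [hT, Sylow.coe_mapSurjective, Subgroup.map_map, Subgroup.map_map]
    exact congrArg (fun q => Subgroup.map q (S : Subgroup H)) (MonoidHom.ext fun _ => rfl)
  rw [PGroup.map_omegaOne_of_injective hfi, Amalgam.map_inf_centralizer_self hfi, hST]
  exact le_iSup_of_le T le_rfl

variable (h : Cfsg.IsCharPAmalgamPair p M₁ M₂)
include h

theorem map_conj_vertexZ_le (g : X) (μ : Cfsg.CosetVertex M₁ M₂) :
    (vertexZ p μ).map (MulAut.conj g).toMonoidHom ≤ vertexZ p (g • μ) := by
  have := Amalgam.finite_stabilizer h μ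
  show _ ≤ sylowCenterClosure p (MulAction.stabilizer X (g • μ))
  rw [MulAction.stabilizer_smul_eq_stabilizer_map_conj]
  exact map_conj_sylowCenterClosure_le g

theorem connected : (Cfsg.cosetGraph M₁ M₂).Connected := Amalgam.connected_of_sup_eq_top h.1.1

omit [Fact p.Prime] in
theorem dist_smul_le (g : X) (a b : Cfsg.CosetVertex M₁ M₂) :
    (Cfsg.cosetGraph M₁ M₂).dist (g • a) (g • b) ≤ (Cfsg.cosetGraph M₁ M₂).dist a b := by
  obtain ⟨w, hw⟩ := (Amalgam.connected_of_sup_eq_top h.1.1).exists_walk_length_eq_dist a b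
  let φ : Cfsg.cosetGraph M₁ M₂ →g Cfsg.cosetGraph M₁ M₂ :=
    ⟨fun c => g • c, fun hab => Amalgam.adj_smul g hab⟩
  rw [← hw, ← SimpleGraph.Walk.length_map φ w]
  exact SimpleGraph.dist_le (w.map φ)

theorem map_conj_vertexVIter_le (g : X) (m : ℕ) (μ : Cfsg.CosetVertex M₁ M₂) :
    (vertexVIter p M₁ M₂ m μ).map (MulAut.conj g).toMonoidHom ≤ vertexVIter p M₁ M₂ m (g • μ) := by
  rw [vertexVIter, Subgroup.map_iSup]
  refine iSup_le fun ν => (map_conj_vertexZ_le h g ν).trans ?_
  exact le_iSup (fun ν' : {ν' // (Cfsg.cosetGraph M₁ M₂).dist (g • μ) ν' ≤ m} => vertexZ p ν'.1)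
    ⟨g • ν.1, (dist_smul_le h g μ ν).trans ν.2⟩

theorem stabilizer_le_normalizer_vertexVIter (m : ℕ) (μ : Cfsg.CosetVertex M₁ M₂) :
    MulAction.stabilizer X μ ≤ normalizer (vertexVIter p M₁ M₂ m μ : Set X) := by
  intro g hg
  have hle : ∀ g ∈ MulAction.stabilizer X μ, (vertexVIter p M₁ M₂ m μ).map
      (MulAut.conj g).toMonoidHom ≤ vertexVIter p M₁ M₂ m μ := fun g hg => by
    have h1 := map_conj_vertexVIter_le h g m μ
    rwa [MulAction.mem_stabilizer_iff.1 hg] at h1
  refine mem_normalizer_iff.2 fun x => ⟨fun hx => hle g hg ⟨x, hx, rfl⟩, fun hx => ?_⟩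
  simpa [mul_assoc] using hle g⁻¹ (inv_mem hg) ⟨_, hx, rfl⟩

omit h [Fact p.Prime] in
theorem vertexZ_le_vertexVIter {m : ℕ} {μ ν : Cfsg.CosetVertex M₁ M₂}
    (hd : (Cfsg.cosetGraph M₁ M₂).dist μ ν ≤ m) : vertexZ p ν ≤ vertexVIter p M₁ M₂ m μ :=
  le_iSup (fun ν' : {ν' // (Cfsg.cosetGraph M₁ M₂).dist μ ν' ≤ m} => vertexZ p ν'.1) ⟨ν, hd⟩

/-- `V^{(n)}` is generated by the conjugates of `V^{(n-1)}` of a neighbour. -/
theorem vertexVIter_le_iSup_conj {lam μ : Cfsg.CosetVertex M₁ M₂}
    (hμ : (Cfsg.cosetGraph M₁ M₂).Adj lam μ) {n : ℕ} (hn : 1 ≤ n) :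
    vertexVIter p M₁ M₂ n lam ≤ ⨆ g : MulAction.stabilizer X lam,
      (vertexVIter p M₁ M₂ (n - 1) μ).map (MulAut.conj (g : X)).toMonoidHom := by
  set W := vertexVIter p M₁ M₂ (n - 1) μ with hW
  set S := ⨆ g : MulAction.stabilizer X lam, W.map (MulAut.conj (g : X)).toMonoidHom with hS
  have hnb : ∀ μ', (Cfsg.cosetGraph M₁ M₂).Adj lam μ' → vertexVIter p M₁ M₂ (n - 1) μ' ≤ S := by
    intro μ' hμ'
    obtain ⟨g, hg, rfl⟩ := Amalgam.exists_stabilizer_smul_eq hμ hμ'
    intro v hv
    have h1 := map_conj_vertexVIter_le h g⁻¹ (n - 1) (g • μ) (mem_map_of_mem _ hv)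
    rw [inv_smul_smul] at h1
    refine Subgroup.mem_iSup_of_mem (⟨g, hg⟩ : MulAction.stabilizer X lam) ⟨_, h1, ?_⟩
    simp [mul_assoc]
  have hlam : vertexZ p lam ≤ S := by
    refine iSup_le fun P => ?_
    have := Amalgam.finite_stabilizer h lam
    have := Amalgam.finite_stabilizer h μ
    have : Finite ↥(Cfsg.edgeStabilizer lam μ) :=
      Finite.of_injective _ (inclusion_injective (inf_le_left (b := MulAction.stabilizer X μ)))
    obtain ⟨R⟩ := (inferInstance : Nonempty (Sylow p ↥(Cfsg.edgeStabilizer lam μ)))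
    obtain ⟨S₁, h₁⟩ := Amalgam.exists_sylow_edge h hμ R
    obtain ⟨S₂, h₂⟩ := Amalgam.exists_sylow_edge_right h hμ R
    obtain ⟨g, hg⟩ := MulAction.exists_smul_eq (MulAction.stabilizer X lam) S₁ P
    have hP : (P : Subgroup _).map (MulAction.stabilizer X lam).subtype =
        ((S₂ : Subgroup _).map (MulAction.stabilizer X μ).subtype).map (MulAut.conj (g : X)).toMonoidHom := by
      rw [h₂, ← h₁, ← hg, Sylow.coe_subgroup_smul, Subgroup.pointwise_smul_def, Subgroup.map_map]
      exact Subgroup.map_map (G := ↥(MulAction.stabilizer X lam))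
        (N := ↥(MulAction.stabilizer X lam)) (P := X) _ (MulAction.stabilizer X lam).subtype
        (MulAut.conj g).toMonoidHom
    refine le_trans ?_ (le_iSup _ g)
    rw [hP, ← Amalgam.map_inf_centralizer_self (MulAut.conj (g : X)).injective,
      ← PGroup.map_omegaOne_of_injective (MulAut.conj (g : X)).injective]
    refine map_mono (le_trans ?_ (vertexZ_le_vertexVIter (μ := μ) (ν := μ) (by simp)))
    exact le_iSup_of_le S₂ le_rfl
  refine iSup_le fun ν => ?_
  obtain ⟨ν, hν⟩ := ν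
  obtain ⟨w, hw⟩ := (connected h).exists_walk_length_eq_dist lam ν
  cases w with
  | nil => exact hlam
  | cons hadj w' =>
    refine (vertexZ_le_vertexVIter ?_).trans (hnb _ hadj)
    have := SimpleGraph.dist_le w'
    rw [SimpleGraph.Walk.length_cons] at hw
    dsimp only
    omega

theorem vertexZ_ne_bot (δ : Cfsg.CosetVertex M₁ M₂) : vertexZ p δ ≠ ⊥ := by
  have := Amalgam.finite_stabilizer h δ
  set G := MulAction.stabilizer X δ
  obtain ⟨S⟩ := (inferInstance : Nonempty (Sylow p G))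
  intro hbot
  have hle := le_trans (le_iSup (fun T : Sylow p G => omegaOne p
      ((T : Subgroup G).map G.subtype ⊓ centralizer ((T : Subgroup G).map G.subtype : Set X))) S)
    hbot.le
  have hS : (S : Subgroup G) ≠ ⊥ := Sylow.ne_bot_of_dvd_card S (Amalgam.dvd_card_stabilizer h δ)
  have : Nontrivial (S : Subgroup G) := (Subgroup.nontrivial_iff_ne_bot _).2 hS
  have : Nontrivial ↥(center (S : Subgroup G)) := S.2.center_nontrivial
  obtain ⟨z, hz⟩ := exists_prime_orderOf_dvd_card' p
    ((S.2.to_subgroup (center (S : Subgroup G))).exists_card_eq.elim fun k hk => by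
      rw [hk]
      refine dvd_pow_self p fun hk0 => ?_
      subst hk0
      exact absurd hk (by simpa using (Finite.one_lt_card (α := ↥(center (S : Subgroup G)))).ne'))
  have hz1 : ((z : (S : Subgroup G)) : G) ≠ 1 := fun e => by
    have : z = 1 := Subtype.ext (Subtype.ext e)
    rw [this, orderOf_one] at hz
    exact (Fact.out : p.Prime).ne_one hz.symm
  apply hz1
  refine Subtype.ext (Subgroup.mem_bot.1 (hle (subset_closure ⟨⟨mem_map_of_mem _ z.1.2, ?_⟩, ?_⟩)))
  · refine mem_centralizer_iff.2 ?_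
    rintro _ ⟨s, hs, rfl⟩
    exact congrArg (fun u : (S : Subgroup G) => ((u : G) : X)) (mem_center_iff.1 z.2 ⟨s, hs⟩)
  · have := pow_orderOf_eq_one z
    rw [hz] at this
    exact congrArg (fun u : ↥(center (S : Subgroup G)) => (((u : (S : Subgroup G)) : G) : X)) this

omit h in
/-- The stabilizer of a vertex is generated by `O^p(O^{p'})` and an edge stabilizer. -/
theorem stabilizer_le_resOf_sup_edge (h : Cfsg.IsSpeAmalgamPair p M₁ M₂)
    {lam μ : Cfsg.CosetVertex M₁ M₂} (hμ : (Cfsg.cosetGraph M₁ M₂).Adj lam μ) :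
    MulAction.stabilizer X lam ≤
      resOf p (Cfsg.pElementClosure p (MulAction.stabilizer X lam)) ⊔ Cfsg.edgeStabilizer lam μ := by
  have hcp := h.1
  set G := MulAction.stabilizer X lam with hG
  set G' := MulAction.stabilizer X μ with hG'
  have := Amalgam.finite_stabilizer hcp lam
  have : Finite ↥(G ⊓ G') := Finite.of_injective _ (inclusion_injective inf_le_left)
  obtain ⟨R⟩ := (inferInstance : Nonempty (Sylow p ↥(Cfsg.edgeStabilizer lam μ)))
  obtain ⟨Sl, hSl⟩ := Amalgam.exists_sylow_edge hcp hμ R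
  set T := (Sl : Subgroup G).map G.subtype with hT
  have hTe : T ≤ G ⊓ G' := hSl ▸ map_subtype_le _
  -- the normalizer of `T` in `G` lies in the edge
  have hN : G ⊓ normalizer (T : Set X) ≤ G ⊓ G' := by
    have := hcp.2.1
    have : Finite ↥(M₁ ⊓ M₂) := Finite.of_injective _ (inclusion_injective inf_le_left)
    obtain ⟨x, hx⟩ := Amalgam.exists_stabilizers_of_adj hμ
    set f : X →* X := (MulAut.conj x).toMonoidHom with hf
    have hfi : Function.Injective f := (MulAut.conj x).injective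
    have hedge : G ⊓ G' = (M₁ ⊓ M₂).map f := by
      rcases hx with ⟨ha, hb⟩ | ⟨ha, hb⟩
      · rw [hG, hG', ha, hb, Amalgam.map_conj_inf]
      · rw [hG, hG', ha, hb, Amalgam.map_conj_inf, inf_comm]
    set T₀ : Subgroup X := T.comap f with hT₀
    have hTT : T₀.map f = T :=
      Subgroup.map_comap_eq_self_of_surjective (MulAut.conj x).surjective T
    have hT₀le : T₀ ≤ M₁ ⊓ M₂ := by
      refine (map_le_map_iff_of_injective hfi).1 ?_
      rw [hTT, ← hedge]; exact hTe
    let S₀ : Sylow p ↥(M₁ ⊓ M₂) := Sylow.ofCard (T₀.subgroupOf _) (by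
      rw [Nat.card_congr (subgroupOfEquivOfLe hT₀le).toEquiv,
        ← card_map_of_injective (f := f) hfi, hTT, hSl,
        card_map_of_injective (subtype_injective _), R.card_eq_multiplicity,
        ← card_map_of_injective (K := M₁ ⊓ M₂) (f := f) hfi, ← hedge])
    have hS₀ : (S₀ : Subgroup _).map (M₁ ⊓ M₂).subtype = T₀ := map_subgroupOf_eq_of_le hT₀le
    obtain ⟨e1, e2⟩ := h.2.1 S₀
    rw [hS₀] at e1 e2
    have hnorm : normalizer (T : Set X) = (normalizer (T₀ : Set X)).map f := by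
      rw [hf, map_equiv_normalizer_eq, ← hf, hTT]
    rcases hx with ⟨ha, hb⟩ | ⟨ha, hb⟩
    · rw [hedge, hG, ha, hnorm, ← Subgroup.map_inf _ _ f hfi]; exact map_mono e2
    · rw [hedge, hG, ha, hnorm, ← Subgroup.map_inf _ _ f hfi, ← e1]; exact map_mono e2
  set E := Cfsg.pElementClosure p G with hE
  have hEG : E ≤ G := by rw [hE, pElementClosure, closure_le]; exact fun y hy => hy.1
  have hKN : G ≤ normalizer (E : Set X) := by
    intro g hg
    rw [hE, pElementClosure]
    refine le_normalizer_closure_iff.2 ?_ hg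
    rintro u hu y ⟨hy, k, hk⟩
    exact subset_closure ⟨mul_mem (mul_mem hu hy) (inv_mem hu), k, by rw [orderOf_conj, hk]⟩
  have : (E.subgroupOf G).Normal := normal_subgroupOf_of_le_normalizer hKN
  have hPE : (Sl : Subgroup G) ≤ E.subgroupOf G := by
    intro y hy
    obtain ⟨k, hk⟩ := IsPGroup.iff_orderOf.1 Sl.2 ⟨y, hy⟩
    refine mem_subgroupOf.2 (subset_closure ⟨y.2, k, ?_⟩)
    rw [← hk, Subgroup.orderOf_mk, Subgroup.orderOf_coe]
  have hTE : T ≤ E := by
    rintro _ ⟨y, hy, rfl⟩; exact hPE hy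
  -- `E = O^p(E) T`
  have hEle : E ≤ resOf p E ⊔ T := by
    have h1 := ((isSylowIn_of_sylow Sl (le_top (a := (Sl : Subgroup G)))).mono hPE le_top).resOf_sup
    have h2 : (resOf p (E.subgroupOf G)).map G.subtype ≤ resOf p E := by
      rw [map_le_iff_le_comap, resOf_le_iff]
      exact fun y hy hc => mem_resOf (mem_subgroupOf.1 hy) (by simpa using hc)
    intro y hy
    have h3 := mem_map_of_mem G.subtype (h1.ge (show (⟨y, hEG hy⟩ : G) ∈ E.subgroupOf G from hy))
    rw [Subgroup.map_sup] at h3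
    exact sup_le_sup_right h2 T h3
  intro g hg
  obtain ⟨a, ha, b, hb, he⟩ := mem_sup_of_normal_right.1
    ((Sylow.normalizer_sup_eq_top' Sl hPE).ge (mem_top (⟨g, hg⟩ : G)))
  have hg' : (a : X) * (b : X) = g := congrArg Subtype.val he
  rw [← hg']
  refine mul_mem (mem_sup_right (hN ⟨a.2, ?_⟩)) ?_
  · exact le_normalizer_map G.subtype (H := (Sl : Subgroup G)) ⟨a, ha, rfl⟩
  · exact sup_le_sup_left hTe _ (hEle (mem_subgroupOf.1 hb))

omit h in
/-- A subgroup covering `V` modulo `[V, Q]` for a `p`-group `Q` is `V`. -/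
theorem le_of_le_sup_commutator {Q V W : Subgroup X} [Finite Q] (hQ : IsPGroup p Q) (hV : V ≤ Q)
    (hWV : W ≤ V) (hQW : Q ≤ normalizer (W : Set X)) (hVW : V ≤ W ⊔ ⁅V, Q⁆) : V ≤ W := by
  let N := W.subgroupOf Q
  have : N.Normal := normal_subgroupOf_of_le_normalizer hQW
  set V' := (V.subgroupOf Q).map (QuotientGroup.mk' N) with hV'
  have hle : V' ≤ ⁅V', ⊤⁆ := by
    rw [← map_top_of_surjective _ (QuotientGroup.mk'_surjective N), hV', ← map_commutator]
    have h1 : V.subgroupOf Q ≤ N ⊔ ⁅V.subgroupOf Q, ⊤⁆ := by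
      rw [← map_le_map_iff_of_injective Q.subtype_injective, Subgroup.map_sup, map_commutator,
        subgroupOf_map_subtype, subgroupOf_map_subtype, ← MonoidHom.range_eq_map, range_subtype,
        inf_eq_left.2 hV, inf_eq_left.2 (hWV.trans hV)]
      exact hVW
    refine (map_mono h1).trans ?_
    rw [Subgroup.map_sup, QuotientGroup.map_mk'_self, bot_sup_eq]
  have hnil : Group.IsNilpotent (↥Q ⧸ N) := (hQ.to_quotient N).isNilpotent
  obtain ⟨m, hm⟩ := Subgroup.nilpotent_iff_lowerCentralSeries.1 hnil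
  have hall : ∀ i, V' ≤ (⊤ : Subgroup (↥Q ⧸ N)).lowerCentralSeries i := by
    intro i
    induction i with
    | zero => simp
    | succ i ih => exact hle.trans (commutator_mono ih le_rfl)
  have h0 : V' ≤ ⊥ := hm ▸ hall m
  rw [hV', le_bot_iff, Subgroup.map_eq_bot_iff, QuotientGroup.ker_mk'] at h0
  intro v hv
  exact h0 (show (⟨v, hV hv⟩ : Q) ∈ V.subgroupOf Q from hv)

omit h in
/-- The kernel of both statements. -/
theorem false_of_commutator_vertexVIter_le (h : Cfsg.IsSpeAmalgamPair p M₁ M₂)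
    (lam : Cfsg.CosetVertex M₁ M₂) {n : ℕ} (hn : 1 ≤ n)
    (hVQ : vertexVIter p M₁ M₂ n lam ≤ vertexQ p lam)
    (hcom : ∃ D : Subgroup X, D ≤ vertexVIter p M₁ M₂ n lam ∧
      ⁅vertexVIter p M₁ M₂ n lam, resOf p (pElementClosure p (MulAction.stabilizer X lam))⁆ ≤ D ∧
      MulAction.stabilizer X lam ≤ normalizer (D : Set X) ∧
      ∀ μ, (Cfsg.cosetGraph M₁ M₂).Adj lam μ → D ≤ vertexVIter p M₁ M₂ (n - 1) μ ⊔
        ⁅vertexVIter p M₁ M₂ n lam, vertexQ p lam⁆) : False := by
  obtain ⟨D, hDV, hD, hGD, hDW⟩ := hcom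
  have hcp := h.1
  have := Amalgam.finite_stabilizer hcp lam
  obtain ⟨μ, hμ⟩ : ∃ μ, (Cfsg.cosetGraph M₁ M₂).Adj lam μ := by
    rcases lam with a | b
    · induction a using QuotientGroup.induction_on with
      | _ x => exact ⟨_, Amalgam.adj_mk x⟩
    · induction b using QuotientGroup.induction_on with
      | _ x => exact ⟨_, (Amalgam.adj_mk x).symm⟩
  set V := vertexVIter p M₁ M₂ n lam with hV
  set W := vertexVIter p M₁ M₂ (n - 1) μ with hW
  set Q := vertexQ p lam with hQ
  have hWV : W ≤ V := iSup_le fun ν => vertexZ_le_vertexVIter (by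
    have h1 := (connected hcp).dist_triangle (u := lam) (v := μ) (w := ν.1)
    have h2 := SimpleGraph.dist_eq_one_iff_adj.2 hμ
    have := ν.2
    omega)
  have hGV : MulAction.stabilizer X lam ≤ normalizer (V : Set X) :=
    stabilizer_le_normalizer_vertexVIter hcp n lam
  have hGW : MulAction.stabilizer X μ ≤ normalizer (W : Set X) :=
    stabilizer_le_normalizer_vertexVIter hcp (n - 1) μ
  have hQG : Q ≤ MulAction.stabilizer X lam := map_subtype_le _
  have hQμ : Q ≤ MulAction.stabilizer X μ := Amalgam.vertexQ_le_stabilizer hcp hμ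
  have hRG : resOf p (pElementClosure p (MulAction.stabilizer X lam)) ≤ MulAction.stabilizer X lam :=
    (resOf_le p _).trans (by rw [pElementClosure, closure_le]; exact fun y hy => hy.1)
  -- conjugates of `W` lie in `W ⊔ D`
  have hWD : MulAction.stabilizer X lam ≤ normalizer ((W ⊔ D : Subgroup X) : Set X) := by
    refine (stabilizer_le_resOf_sup_edge h hμ).trans (sup_le ?_ ?_)
    · have key : ∀ r ∈ resOf p (pElementClosure p (MulAction.stabilizer X lam)),
          W ⊔ D ≤ (W ⊔ D).comap (MulAut.conj r).toMonoidHom := by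
        intro r hr
        refine sup_le (fun w hw => ?_)
          (fun d hd => mem_sup_right ((mem_normalizer_iff.1 (hGD (hRG hr)) d).1 hd))
        show r * w * r⁻¹ ∈ W ⊔ D
        rw [show r * w * r⁻¹ = ⁅w, r⁆⁻¹ * w by rw [commutatorElement_def]; group]
        exact mul_mem (mem_sup_right (inv_mem (hD (commutator_mem_commutator (hWV hw) hr))))
          (mem_sup_left hw)
      intro r hr
      refine mem_normalizer_iff.2 fun y => ⟨fun hy => key r hr hy, fun hy => ?_⟩
      simpa [mul_assoc] using key r⁻¹ (inv_mem hr) hy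
    · exact le_normalizer_sup (inf_le_right.trans hGW) (inf_le_left.trans hGD)
  have hVle : V ≤ W ⊔ D := by
    refine (vertexVIter_le_iSup_conj hcp hμ hn).trans (iSup_le fun g => ?_)
    rintro _ ⟨w, hw, rfl⟩
    exact (mem_normalizer_iff.1 (hWD g.2) w).1 (mem_sup_left hw)
  have hVW : V = W := by
    refine le_antisymm ?_ hWV
    have := Finite.of_injective _ (inclusion_injective hQG)
    refine le_of_le_sup_commutator (p := p) (Q := Q) ?_ hVQ hWV (hQμ.trans hGW)
      (hVle.trans (sup_le le_sup_left (hDW μ hμ)))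
    exact (PCore.isPGroup_pCore (p := p) (G := ↥(MulAction.stabilizer X lam))).map _
  have hbot : V = ⊥ := by
    refine Amalgam.eq_bot_of_le_edge hcp.1 hμ (le_inf (hVQ.trans hQG) (hVQ.trans hQμ)) hGV ?_
    rw [hVW]; exact hGW
  exact vertexZ_ne_bot hcp lam (le_bot_iff.1 (hbot ▸
    vertexZ_le_vertexVIter (μ := lam) (ν := lam) (m := n) (by simp)))

end Cfsg.Agent.LocalStructure
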